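import Groth.Agent.L05.DualVar.PolyFun
import Mathlib.RingTheory.Nullstellensatz
import Mathlib.Data.Finsupp.Interval
import Mathlib.RingTheory.Ideal.GoingUp
import Mathlib.RingTheory.IntegralClosure.IsIntegralClosure.Basic
import Mathlib.RingTheory.AlgebraicIndependent.TranscendenceBasis
import Mathlib.RingTheory.MvPolynomial.Homogeneous
import Mathlib.FieldTheory.IsAlgClosed.Basic
import Mathlib.LinearAlgebra.FiniteDimensional.Basic

/-! Projecting a cone from a point outside it. -/

set_option autoImplicit false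
set_option linter.style.haveILetI false
set_option maxHeartbeats 1000000

universe u

open MvPolynomial

noncomputable section

namespace Groth.L05.Pencil.Proj

variable {k : Type u} [Field k] [IsAlgClosed k] {V : Type u} [AddCommGroup V] [Module k V] {N : ℕ}
  (bs : Module.Basis (Fin N) k V) {B : Set V}

/-- The equations of a subset, in coordinates. -/
def van (B : Set V) : Ideal (MvPolynomial (Fin N) k) where
  carrier := {Q | ∀ b ∈ B, eval (bs.equivFun b) Q = 0}
  zero_mem' := fun _ _ => map_zero _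
  add_mem' := fun {p q} hp hq b hb => by rw [map_add, hp b hb, hq b hb, add_zero]
  smul_mem' := fun c p hp b hb => by rw [smul_eq_mul, map_mul, hp b hb, mul_zero]

omit [IsAlgClosed k] in
theorem exists_poly {f : V → k} (hf : LefPen.IsPolyFun k f) :
    ∃ Q : MvPolynomial (Fin N) k, ∀ v, f v = eval (bs.equivFun v) Q := by
  obtain ⟨Q, hQ⟩ := Groth.L05.DualVar.exists_poly_comp (MvPolynomial.X : Fin N → MvPolynomial (Fin N) k) bs hf
  refine ⟨Q, fun v => ?_⟩
  rw [← hQ]
  simp only [eval_X]
  rw [bs.sum_equivFun]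

/-- A linear form as a polynomial. -/
def lp (l : Module.Dual k V) : MvPolynomial (Fin N) k := ∑ j, C (l (bs j)) * MvPolynomial.X j

omit [IsAlgClosed k] in
theorem eval_lp (l : Module.Dual k V) (v : V) : eval (bs.equivFun v) (lp bs l) = l v := by
  conv_rhs => rw [← bs.sum_equivFun v, map_sum]
  simp only [lp, map_sum, map_mul, eval_C, eval_X, map_smul, smul_eq_mul]
  exact Finset.sum_congr rfl fun j _ => mul_comm _ _

omit [IsAlgClosed k] in
theorem eval_smul_hom {F : MvPolynomial (Fin N) k} {e : ℕ} (hF : F.IsHomogeneous e) (t : k)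
    (v : Fin N → k) : eval (t • v) F = t ^ e * eval v F := by
  rw [eval_eq', eval_eq', Finset.mul_sum]
  refine Finset.sum_congr rfl fun μ hμ => ?_
  simp only [Pi.smul_apply, smul_eq_mul, mul_pow, Finset.prod_mul_distrib]
  rw [Finset.prod_pow_eq_pow_sum, ← Finsupp.degree_eq_sum,
    show μ.degree = e by by_contra h; exact mem_support_iff.1 hμ (hF.coeff_eq_zero h)]
  ring

/-- The equations of a cone are graded. -/
theorem component_mem_van (hB : ∀ (t : k), t ≠ 0 → ∀ b ∈ B, t • b ∈ B) {p : MvPolynomial (Fin N) k}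
    (hp : p ∈ van bs B) (e : ℕ) : homogeneousComponent e p ∈ van bs B := by
  classical
  intro b hb
  set c := bs.equivFun b with hc
  let T : Polynomial k := ∑ j ∈ Finset.range (p.totalDegree + 1),
    Polynomial.C (eval c (homogeneousComponent j p)) * Polynomial.X ^ j
  have hT : ∀ t : k, T.eval t = eval (t • c) p := by
    intro t
    conv_rhs => rw [← sum_homogeneousComponent p, map_sum]
    simp only [T, Polynomial.eval_finsetSum, Polynomial.eval_mul, Polynomial.eval_C, Polynomial.eval_pow,
      Polynomial.eval_X]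
    exact Finset.sum_congr rfl fun j _ => by
      rw [eval_smul_hom (homogeneousComponent_isHomogeneous j p) t c, mul_comm]
  have hT0 : T = 0 := by
    haveI : Infinite k := IsAlgClosed.instInfinite
    refine Polynomial.eq_zero_of_infinite_isRoot T (Set.Infinite.mono (s := ({0} : Set k)ᶜ) (fun t ht => ?_)
      (Set.Finite.infinite_compl (Set.finite_singleton 0)))
    refine (hT t).trans ?_
    rw [hc, ← map_smul]
    exact hp _ (hB t ht b hb)
  have h1 := congrArg (fun P : Polynomial k => P.coeff e) hT0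
  simp only [T, Polynomial.finsetSum_coeff, Polynomial.coeff_C_mul_X_pow, Polynomial.coeff_zero,
    Finset.sum_ite_eq] at h1
  split_ifs at h1 with he
  · exact h1
  · have h2 : p.totalDegree < e := by
      have := mt Finset.mem_range.2 he
      omega
    rw [homogeneousComponent_eq_zero e p h2, map_zero]

/-- Linear forms with no common zero on a cone make its coordinate ring finite. -/
theorem finite_quot (hB : ∀ (t : k), t ≠ 0 → ∀ b ∈ B, t • b ∈ B) {M : ℕ} (y : Fin M → Module.Dual k V)
    (hy : ∀ v : V, (∀ l, y l v = 0) → (∀ f : V → k, LefPen.IsPolyFun k f → (∀ b ∈ B, f b = 0) → f v = 0) → v = 0)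
    (J : Ideal (MvPolynomial (Fin N) k)) (hJ : van bs B ≤ J) :
    Module.Finite ↥(Algebra.adjoin k (Set.range fun l => Ideal.Quotient.mk J (lp bs (y l))))
      (MvPolynomial (Fin N) k ⧸ J) := by
  classical
  set S' := Algebra.adjoin k (Set.range fun l => Ideal.Quotient.mk J (lp bs (y l)))
  set Y := Ideal.span (Set.range fun l => lp bs (y l))
  have hrad : ∀ j, MvPolynomial.X j ∈ (van bs B ⊔ Y).radical := by
    intro j
    rw [← vanishingIdeal_zeroLocus_eq_radical (k := k) (K := k) (van bs B ⊔ Y), mem_vanishingIdeal_iff]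
    intro c hc
    have hev : ∀ p ∈ van bs B ⊔ Y, eval c p = 0 := fun p hp => by
      have := mem_zeroLocus_iff.1 hc p hp
      rwa [aeval_eq_eval] at this
    set v := bs.equivFun.symm c
    have hv : bs.equivFun v = c := bs.equivFun.apply_symm_apply c
    have h0 : v = 0 := hy v (fun l => by
      rw [← eval_lp bs (y l) v, hv]
      exact hev _ (Submodule.mem_sup_right (Ideal.subset_span ⟨l, rfl⟩))) fun f hf hfB => by
      obtain ⟨Q, hQ⟩ := exists_poly bs hf
      rw [hQ, hv]
      exact hev _ (Submodule.mem_sup_left fun b hb => (hQ b).symm.trans (hfB b hb))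
    rw [aeval_X, ← hv, h0, map_zero]
    rfl
  choose e he using hrad
  set E := (∑ j, e j) + 1
  have hmem : ∀ μ : Fin N →₀ ℕ, E ≤ μ.degree → monomial μ (1 : k) ∈ van bs B ⊔ Y := by
    intro μ hμ
    obtain ⟨j, hj⟩ : ∃ j, e j ≤ μ j := by
      by_contra hall
      push Not at hall
      have h1 : ∑ j, μ j ≤ ∑ j, e j := Finset.sum_le_sum fun j _ => (hall j).le
      rw [Finsupp.degree_eq_sum] at hμ
      omega
    rw [show monomial μ (1 : k) = monomial (μ - Finsupp.single j (e j)) 1 * MvPolynomial.X j ^ e j by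
      rw [X_pow_eq_monomial, monomial_mul, one_mul, tsub_add_cancel_of_le (Finsupp.single_le_iff.2 hj)]]
    exact Ideal.mul_mem_left _ _ (he j)
  set G : Set (MvPolynomial (Fin N) k ⧸ J) := (fun μ : Fin N →₀ ℕ => Ideal.Quotient.mk J (monomial μ 1)) '' {μ | μ.degree < E}
  have hGfin : G.Finite := by
    refine Set.Finite.image _ (Set.Finite.subset (Set.finite_Iic (Finsupp.equivFunOnFinite.symm fun _ : Fin N => E)) ?_)
    intro μ hμ j
    have h1 : μ j ≤ μ.degree := by
      rw [Finsupp.degree_eq_sum]; exact Finset.single_le_sum (fun _ _ => Nat.zero_le _) (Finset.mem_univ j)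
    have h2 : μ.degree < E := hμ
    simpa using (h1.trans h2.le)
  set W := Submodule.span ↥S' G
  have hC : ∀ (t : k) (z : MvPolynomial (Fin N) k), Ideal.Quotient.mk J z ∈ W → Ideal.Quotient.mk J (C t * z) ∈ W := by
    intro t z hz
    have h := W.smul_mem (⟨algebraMap k _ t, Subalgebra.algebraMap_mem _ t⟩ : ↥S') hz
    rw [map_mul]
    exact h
  have hmono : ∀ (n : ℕ) (μ : Fin N →₀ ℕ), μ.degree = n → Ideal.Quotient.mk J (monomial μ 1) ∈ W := by
    intro n
    induction n using Nat.strong_induction_on with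
    | _ n ih =>
      intro μ hμ
      by_cases hlt : n < E
      · exact Submodule.subset_span ⟨μ, show μ.degree < E by omega, rfl⟩
      obtain ⟨a, ha, b, hb, hab⟩ := Submodule.mem_sup.1 (hmem μ (by omega))
      obtain ⟨g, rfl⟩ := Ideal.mem_span_range_iff_exists_fun.1 hb
      have h1 : monomial μ (1 : k) = homogeneousComponent n a + ∑ l, homogeneousComponent n (g l * lp bs (y l)) := by
        rw [← map_sum, ← map_add, hab, homogeneousComponent_of_mem (isHomogeneous_monomial 1 hμ), if_pos rfl]
      rw [h1, map_add, map_sum]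
      refine add_mem ?_ (Submodule.sum_mem _ fun l _ => ?_)
      · rw [Ideal.Quotient.eq_zero_iff_mem.2 (hJ (component_mem_van bs hB ha n))]
        exact zero_mem _
      · generalize g l = p
        induction p using MvPolynomial.induction_on' with
        | monomial ν t =>
          have hh : (monomial ν t * lp bs (y l)).IsHomogeneous (ν.degree + 1) :=
            (isHomogeneous_monomial t rfl).mul (IsHomogeneous.sum _ _ _ fun j _ => isHomogeneous_C_mul_X _ _)
          rw [homogeneousComponent_of_mem hh]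
          split_ifs with hn
          · rw [show monomial ν t = C t * monomial ν 1 by rw [C_mul_monomial, mul_one], mul_assoc]
            refine hC t _ ?_
            have h := W.smul_mem (⟨Ideal.Quotient.mk J (lp bs (y l)), Algebra.subset_adjoin ⟨l, rfl⟩⟩ : ↥S')
              (ih ν.degree (by omega) ν rfl)
            rw [map_mul, mul_comm]
            exact h
          · rw [map_zero]; exact zero_mem _
        | add p q hp hq =>
          rw [add_mul, map_add, map_add]
          exact add_mem hp hq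
  refine ⟨⟨hGfin.toFinset, ?_⟩⟩
  rw [Set.Finite.coe_toFinset, eq_top_iff]
  rintro z -
  obtain ⟨p, rfl⟩ := Ideal.Quotient.mk_surjective z
  induction p using MvPolynomial.induction_on' with
  | monomial ν t =>
    rw [show monomial ν t = C t * monomial ν 1 by rw [C_mul_monomial, mul_one]]
    exact hC t _ (hmono _ ν rfl)
  | add p q hp hq => rw [map_add]; exact add_mem hp hq

include bs in
omit [IsAlgClosed k] in
/-- Coordinates on the quotient by a line. -/
theorem exists_invariants (H₀ : V) (hH₀ : H₀ ≠ 0) :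
    ∃ (M : ℕ) (z : Fin M → Module.Dual k V), M + 1 = N ∧ (∀ l, z l H₀ = 0) ∧
      (∀ v, (∀ l, z l v = 0) → ∃ a : k, v = a • H₀) ∧ (∀ c : Fin M → k, ∃ v, ∀ l, z l v = c l) := by
  haveI : Module.Finite k V := Module.Finite.of_basis bs
  let W : Submodule k V := k ∙ H₀
  let q := Module.finBasis k (V ⧸ W)
  refine ⟨Module.finrank k (V ⧸ W), fun l => (q.coord l).comp W.mkQ, ?_, fun l => ?_, fun v hv => ?_, fun c => ?_⟩
  · have h := W.finrank_quotient_add_finrank
    rw [Module.finrank_eq_card_basis bs, Fintype.card_fin, finrank_span_singleton hH₀] at h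
    exact h
  · show q.coord l (W.mkQ H₀) = 0
    rw [(Submodule.Quotient.mk_eq_zero W).2 (Submodule.mem_span_singleton_self H₀) |> fun h => (show W.mkQ H₀ = 0 from h),
      map_zero]
  · have h : W.mkQ v = 0 := q.forall_coord_eq_zero_iff.1 hv
    obtain ⟨a, ha⟩ := Submodule.mem_span_singleton.1 ((Submodule.Quotient.mk_eq_zero W).1 h)
    exact ⟨a, ha.symm⟩
  · obtain ⟨v, hv⟩ := W.mkQ_surjective (q.equivFun.symm c)
    refine ⟨v, fun l => ?_⟩
    show q.coord l (W.mkQ v) = c l
    rw [hv, Module.Basis.coord_apply, ← q.equivFun_apply, LinearEquiv.apply_symm_apply]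

omit [IsAlgClosed k] in
theorem isPolyFun_eval_lin {M : ℕ} (z : Fin M → Module.Dual k V) (P : MvPolynomial (Fin M) k) :
    LefPen.IsPolyFun k fun v => eval (fun l => z l v) P := by
  unfold LefPen.IsPolyFun
  induction P using MvPolynomial.induction_on with
  | C t =>
    simp only [eval_C]
    exact Subalgebra.algebraMap_mem _ t
  | add p q hp hq =>
    simp only [map_add]
    exact add_mem hp hq
  | mul_X p j hp =>
    simp only [map_mul, eval_X]
    exact mul_mem hp (Algebra.subset_adjoin ⟨z j, rfl⟩)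

omit [IsAlgClosed k] in
theorem eval_aeval_lp {M : ℕ} (z : Fin M → Module.Dual k V) (P : MvPolynomial (Fin M) k) (v : V) :
    eval (bs.equivFun v) (aeval (fun l => lp bs (z l)) P) = eval (fun l => z l v) P := by
  induction P using MvPolynomial.induction_on with
  | C t => simp
  | add p q hp hq => rw [map_add, map_add, map_add, hp, hq]
  | mul_X p j hp => rw [map_mul, map_mul, map_mul, hp, aeval_X, eval_X, eval_lp]

omit [IsAlgClosed k] in
theorem mk_aeval {M : ℕ} (J : Ideal (MvPolynomial (Fin N) k)) (Y : Fin M → MvPolynomial (Fin N) k)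
    (P : MvPolynomial (Fin M) k) :
    Ideal.Quotient.mk J (aeval Y P) = aeval (fun l => Ideal.Quotient.mk J (Y l)) P :=
  (congrFun (congrArg DFunLike.coe (comp_aeval Y (Ideal.Quotient.mkₐ k J))) P)

include bs in
/-- Inside an irreducible cone avoiding a point, a proper closed subset projects to a proper closed subset. -/
theorem exists_avoid_irreducible {D : Set V} (hD : ∀ (t : k), t ≠ 0 → ∀ b ∈ D, t • b ∈ D)
    (hirr : ∀ f g : V → k, LefPen.IsPolyFun k f → LefPen.IsPolyFun k g → (∀ b ∈ D, f b * g b = 0) →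
      (∀ b ∈ D, f b = 0) ∨ (∀ b ∈ D, g b = 0))
    (h0D : (0 : V) ∈ D) {H₀ : V} {h : V → k} (hh : LefPen.IsPolyFun k h) (hh0 : h H₀ ≠ 0)
    (hhD : ∀ b ∈ D, h b = 0) {f : V → k} (hf : LefPen.IsPolyFun k f) (hf0 : ∃ b ∈ D, f b ≠ 0) :
    ∃ g : V → k, LefPen.IsPolyFun k g ∧ (∃ v, g v ≠ 0) ∧
      ∀ v, g v ≠ 0 → ∀ a : k, v + a • H₀ ∈ D → f (v + a • H₀) ≠ 0 := by
  classical
  have hH₀ : H₀ ≠ 0 := fun e => hh0 (e ▸ hhD 0 h0D)
  obtain ⟨M, z, -, hzH, hz, -⟩ := exists_invariants bs H₀ hH₀
  have hy : ∀ v : V, (∀ l, z l v = 0) → (∀ f : V → k, LefPen.IsPolyFun k f → (∀ b ∈ D, f b = 0) → f v = 0) → v = 0 := by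
    intro v hv hvD
    obtain ⟨a, rfl⟩ := hz v hv
    by_contra hne
    have ha : a ≠ 0 := fun e => hne (by rw [e, zero_smul])
    refine hh0 ?_
    have := hvD (fun w => h (a⁻¹ • w)) (by
      have h2 : LefPen.IsPolyFun k fun w => h (a⁻¹ • w) := by
        clear hh0 hhD
        unfold LefPen.IsPolyFun at hh ⊢
        induction hh using Algebra.adjoin_induction with
        | mem g hg =>
          obtain ⟨l, rfl⟩ := hg
          refine Algebra.subset_adjoin ⟨a⁻¹ • l, funext fun w => ?_⟩
          simp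
        | algebraMap t => exact Subalgebra.algebraMap_mem _ t
        | add g g' _ _ hg hg' => exact add_mem hg hg'
        | mul g g' _ _ hg hg' => exact mul_mem hg hg'
      exact h2) (fun b hb => hhD _ (hD _ (inv_ne_zero ha) b hb))
    simpa [smul_smul, inv_mul_cancel₀ ha] using this
  set J := van bs D
  haveI hJp : J.IsPrime := by
    refine ⟨(Ideal.ne_top_iff_one _).2 fun h1 => one_ne_zero ((map_one _).symm.trans (h1 0 h0D)), fun {p q} hpq => ?_⟩
    rcases hirr (fun v => eval (bs.equivFun v) p) (fun v => eval (bs.equivFun v) q)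
      (isPolyFun_eval_lin bs.coord p) (isPolyFun_eval_lin bs.coord q)
      (fun b hb => (map_mul _ _ _).symm.trans (hpq b hb)) with h1 | h1
    · exact Or.inl h1
    · exact Or.inr h1
  haveI := finite_quot bs hD z hy J le_rfl
  set S' := Algebra.adjoin k (Set.range fun l => Ideal.Quotient.mk J (lp bs (z l)))
  obtain ⟨F, hF⟩ := exists_poly bs hf
  have hF0 : Ideal.Quotient.mk J F ≠ 0 := fun e => by
    obtain ⟨b, hb, hfb⟩ := hf0
    exact hfb ((hF b).trans (Ideal.Quotient.eq_zero_iff_mem.1 e b hb))
  have hne := Ideal.comap_ne_bot_of_integral_mem (R := ↥S') hF0 (Ideal.mem_span_singleton_self _)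
    (Algebra.IsIntegral.isIntegral _)
  obtain ⟨s, hs, hs0⟩ := Submodule.exists_mem_ne_zero_of_ne_bot hne
  obtain ⟨P, hP⟩ : ∃ P : MvPolynomial (Fin M) k, aeval (fun l => Ideal.Quotient.mk J (lp bs (z l))) P = s.1 := by
    have := s.2
    exact (SetLike.ext_iff.1 (Algebra.adjoin_range_eq_range_aeval k
      (fun l => Ideal.Quotient.mk J (lp bs (z l)))) s.1).1 this
  rw [← mk_aeval] at hP
  obtain ⟨q, hq⟩ := Ideal.mem_span_singleton'.1 (Ideal.mem_comap.1 hs)
  obtain ⟨Q, rfl⟩ := Ideal.Quotient.mk_surjective q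
  have hq' : Q * F - aeval (fun l => lp bs (z l)) P ∈ J :=
    Ideal.Quotient.eq.1 ((map_mul _ _ _).trans (hq.trans hP.symm))
  refine ⟨fun v => eval (fun l => z l v) P, isPolyFun_eval_lin z P, ?_, fun v hv a hvD hfv => hv ?_⟩
  · have hnJ : aeval (fun l => lp bs (z l)) P ∉ J := fun hm => hs0 (Subtype.ext
      ((hP.symm.trans (Ideal.Quotient.eq_zero_iff_mem.2 hm))))
    by_contra hall
    push Not at hall
    exact hnJ fun b hb => (eval_aeval_lp bs z P b).trans (hall b)
  · have h1 : eval (bs.equivFun (v + a • H₀)) (Q * F - aeval (fun l => lp bs (z l)) P) = 0 := hq' _ hvD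
    rw [map_sub, map_mul, ← hF, hfv, mul_zero, zero_sub, neg_eq_zero, eval_aeval_lp] at h1
    simpa [hzH] using h1

include bs in
/-- A cone missed by a plane projects from an outside point to a proper closed subset. -/
theorem exists_avoid_plane (hB : ∀ (t : k), t ≠ 0 → ∀ b ∈ B, t • b ∈ B) {F G : V} (hFG : LinearIndependent k ![F, G])
    (hplane : ∀ s t : k, (∀ f : V → k, LefPen.IsPolyFun k f → (∀ b ∈ B, f b = 0) → f (s • F + t • G) = 0) → s = 0 ∧ t = 0)
    {H₀ : V} (hH₀ : H₀ ≠ 0) :
    ∃ g : V → k, LefPen.IsPolyFun k g ∧ (∃ v, g v ≠ 0) ∧ ∀ v, g v ≠ 0 → ∀ a : k, v + a • H₀ ∉ B := by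
  classical
  haveI : Module.Finite k V := Module.Finite.of_basis bs
  obtain ⟨M, z, hM, hzH, -, hzsurj⟩ := exists_invariants bs H₀ hH₀
  by_contra hcon
  push Not at hcon
  have hker : ∀ P : MvPolynomial (Fin M) k, aeval (fun l => lp bs (z l)) P ∈ van bs B → P = 0 := by
    intro P hP
    by_contra hP0
    haveI : Infinite k := IsAlgClosed.instInfinite
    obtain ⟨c, hc⟩ : ∃ c, eval c P ≠ 0 := by
      by_contra hall
      push Not at hall
      exact hP0 (MvPolynomial.funext fun c => (hall c).trans (map_zero _).symm)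
    obtain ⟨v, hv⟩ := hzsurj c
    obtain ⟨w, hw, a, hwB⟩ := hcon (fun v => eval (fun l => z l v) P) (isPolyFun_eval_lin z P)
      ⟨v, by rw [funext hv]; exact hc⟩
    refine hw ?_
    have h1 := hP _ hwB
    rw [eval_aeval_lp] at h1
    simpa [hzH] using h1
  let W : Submodule k V := Submodule.span k (Set.range ![F, G])
  let q := Module.finBasis k (V ⧸ W)
  set M' := Module.finrank k (V ⧸ W)
  let y : Fin M' → Module.Dual k V := fun l => (q.coord l).comp W.mkQ
  have hM' : M' + 2 = N := by
    have h := W.finrank_quotient_add_finrank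
    rw [Module.finrank_eq_card_basis bs, Fintype.card_fin, finrank_span_eq_card hFG, Fintype.card_fin] at h
    exact h
  have hy : ∀ v : V, (∀ l, y l v = 0) → (∀ f : V → k, LefPen.IsPolyFun k f → (∀ b ∈ B, f b = 0) → f v = 0) → v = 0 := by
    intro v hv hvB
    have h : W.mkQ v = 0 := q.forall_coord_eq_zero_iff.1 hv
    obtain ⟨c, hc⟩ := (Submodule.mem_span_range_iff_exists_fun k).1 ((Submodule.Quotient.mk_eq_zero W).1 h)
    rw [Fin.sum_univ_two] at hc
    simp only [Matrix.cons_val_zero, Matrix.cons_val_one] at hc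
    subst hc
    obtain ⟨h0, h1⟩ := hplane _ _ hvB
    rw [h0, h1, zero_smul, zero_smul, add_zero]
  let θ : MvPolynomial (Fin M) k →+* MvPolynomial (Fin N) k := (aeval fun l => lp bs (z l)).toRingHom
  obtain ⟨P, hPp, hPJ, hPd⟩ := Ideal.exists_le_prime_disjoint (van bs B)
    ((nonZeroDivisors (MvPolynomial (Fin M) k)).map θ) (Set.disjoint_left.2 fun x hx hx' => by
      obtain ⟨p, hp, rfl⟩ := hx'
      exact nonZeroDivisors.ne_zero hp (hker p hx))
  haveI := hPp
  haveI := finite_quot bs hB y hy P hPJ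
  haveI : Algebra.IsAlgebraic ↥(Algebra.adjoin k (Set.range fun l => Ideal.Quotient.mk P (lp bs (y l))))
      (MvPolynomial (Fin N) k ⧸ P) := Algebra.IsIntegral.isAlgebraic
  let φ : MvPolynomial (Fin M) k →ₐ[k] MvPolynomial (Fin N) k ⧸ P :=
    aeval fun l => Ideal.Quotient.mk P (lp bs (z l))
  have hφ : Function.Injective φ := (injective_iff_map_eq_zero _).2 fun p hp => by
    by_contra hp0
    have hp' : θ p ∈ P := by
      rw [← Ideal.Quotient.eq_zero_iff_mem]
      exact (mk_aeval P (fun l => lp bs (z l)) p).trans hp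
    exact Set.disjoint_left.1 hPd hp' ⟨p, mem_nonZeroDivisors_of_ne_zero hp0, rfl⟩
  have h1 := trdeg_le_of_injective φ hφ
  have h2 := Algebra.IsAlgebraic.trdeg_le_cardinalMk k (Set.range fun l => Ideal.Quotient.mk P (lp bs (y l)))
  have h4 : Cardinal.mk (Set.range fun l => Ideal.Quotient.mk P (lp bs (y l))) ≤ (M' : Cardinal) := by
    simpa using Cardinal.mk_range_le_lift (f := fun l => Ideal.Quotient.mk P (lp bs (y l)))
  have h3 := h1.trans (h2.trans h4)
  rw [MvPolynomial.trdeg_of_isDomain, Cardinal.mk_fin] at h3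
  simp only [Cardinal.lift_natCast, Nat.cast_le] at h3
  omega

end Groth.L05.Pencil.Proj
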