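import Groth.Agent.L05.Pencil.Pair
import Groth.Agent.L05.Nd.Sing

/-! The base locus spanned by a transversal form and a general form is transversal. -/

set_option autoImplicit false
set_option linter.style.haveILetI false
set_option backward.isDefEq.respectTransparency false
set_option backward.isDefEq.respectTransparency.types false
set_option maxHeartbeats 1000000

universe u

open CategoryTheory CategoryTheory.Limits AlgebraicGeometry TopologicalSpace MvPolynomial IsLocalRing

noncomputable section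

namespace Groth.L05.Pencil

open Groth.L14.Fano (Mon)
open Groth.L05.OrdQuad (σ exists_coords exists_mem_secι isAffineOpen_preimage_chart)
open Groth.L05.HypBertini (form_eq_sum mem_support_iff exists_chart_poly)
open Groth.L05.DualVar (IsCoord σ_mem_iff coord_self transversal_iff)
open Groth.L18.CIProj (deh)

variable {k : Type u} [Field k] [IsAlgClosed k] {r : ℕ} {X : Scheme.{u}} (i : X ⟶ CohB1.ProjSpace r k)
  [IsClosedImmersion i]

/-- A general form is non-zero on every component. -/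
theorem exists_point_poly_components (d : ℕ) :
    ∃ R : MvPolynomial (Mon (r + 1) d) k, R ≠ 0 ∧
      ∀ H : LefPen.Form r k d, eval (fun μ : Mon (r + 1) d => coeff μ.1 H.1) R ≠ 0 →
        ∀ (a : Fin (r + 1)) (x₀ : X) (hxa : i x₀ ∈ LefPen.chart r k a), σ i a x₀ hxa H.1 ≠ 0 := by
  classical
  haveI : JacobsonSpace X := LocallyOfFiniteType.jacobsonSpace (i ≫ CohB1.ProjSpace.toSpec r k)
  haveI : IsLocallyNoetherian X := LocallyOfFiniteType.isLocallyNoetherian i
  haveI : QuasiCompact (i ≫ CohB1.ProjSpace.toSpec r k) := inferInstance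
  haveI : CompactSpace X := QuasiCompact.compactSpace_of_compactSpace (i ≫ CohB1.ProjSpace.toSpec r k)
  haveI : IsNoetherian X := {}
  have hfin : (irreducibleComponents X).Finite := NoetherianSpace.finite_irreducibleComponents
  have hpt : ∀ Z : irreducibleComponents X, ∃ R : MvPolynomial (Mon (r + 1) d) k, R ≠ 0 ∧
      ∀ H : LefPen.Form r k d, eval (fun μ : Mon (r + 1) d => coeff μ.1 H.1) R ≠ 0 →
        ¬ (Z.1 ⊆ ((LefPen.secIdeal i ({H} : Set (LefPen.Form r k d))).support : Set X)) := by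
    intro Z
    obtain ⟨xs, hxsZ, hxs⟩ := nonempty_inter_closedPoints (X := X) (Z := Z.1) Z.2.1.nonempty
      (isClosed_of_mem_irreducibleComponents _ Z.2).isLocallyClosed
    obtain ⟨b, hxb⟩ : ∃ b, i xs ∈ LefPen.chart r k b := Groth.L21.PlaneCurve.exists_mem_chart _
    obtain ⟨c, hc'⟩ := exists_coords i b xs hxb hxs
    have hc : IsCoord i b xs hxb c := hc'
    let R : MvPolynomial (Mon (r + 1) d) k := ∑ μ, C (eval c (monomial μ.1 1)) * MvPolynomial.X μ
    have hR : ∀ H : LefPen.Form r k d, eval (fun μ : Mon (r + 1) d => coeff μ.1 H.1) R = eval c H.1 := by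
      intro H
      conv_rhs => rw [form_eq_sum H, map_sum]
      simp only [R, map_sum, map_mul, eval_C, eval_X]
      refine Finset.sum_congr rfl fun μ _ => ?_
      rw [eval_monomial, eval_monomial]
      ring
    refine ⟨R, fun h0 => ?_, fun H hH hsub => hH ?_⟩
    · let G : LefPen.Form r k d := ⟨MvPolynomial.X b ^ d, (mem_homogeneousSubmodule d _).2 (by
        have h := (isHomogeneous_X k b).pow d
        rwa [one_mul] at h)⟩
      have h1 := hR G
      rw [h0, map_zero] at h1
      simp [G, coord_self hc] at h1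
    · rw [hR, ← σ_mem_iff hc]
      refine (mem_maximalIdeal _).2 fun hu => ?_
      exact (mem_support_iff i H b xs hxb).1 (hsub hxsZ) ((X.mem_basicOpen _ xs hxb).2 hu)
  choose R hR0 hR using hpt
  haveI := hfin.fintype
  refine ⟨∏ Z, R Z, Finset.prod_ne_zero_iff.2 fun Z _ => hR0 Z, fun H hH a x₀ hxa hzero => ?_⟩
  rw [map_prod, Finset.prod_ne_zero_iff] at hH
  obtain ⟨V, hxV, iU, iV, hV⟩ := X.presheaf.germ_eq x₀ hxa hxa _ 0
    (hzero.trans (map_zero (X.presheaf.germ (i ⁻¹ᵁ LefPen.chart r k a) x₀ hxa).hom).symm)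
  have hsub : (V : Set X) ⊆ (LefPen.secIdeal i ({H} : Set (LefPen.Form r k d))).support := by
    intro z hz
    refine (mem_support_iff i H a z (iU.le hz)).2 fun hzb => ?_
    have h3 : z ∈ X.basicOpen ((X.presheaf.map iU.op).hom ((i.app (LefPen.chart r k a)).hom (deh a H.1))) := by
      rw [X.basicOpen_res]
      exact ⟨hz, hzb⟩
    rw [show (X.presheaf.map iU.op).hom ((i.app (LefPen.chart r k a)).hom (deh a H.1)) = _ from hV, map_zero,
      X.basicOpen_zero] at h3
    exact h3
  refine hR ⟨irreducibleComponent x₀, irreducibleComponent_mem_irreducibleComponents x₀⟩ H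
    (hH _ (Finset.mem_univ _)) ?_
  refine (subset_closure_inter_of_isPreirreducible_of_isOpen isIrreducible_irreducibleComponent.2 V.2
    ⟨x₀, mem_irreducibleComponent, hxV⟩).trans ?_
  exact closure_minimal (fun z hz => hsub hz.2) (LefPen.secIdeal i ({H} : Set (LefPen.Form r k d))).support.isClosed

variable (n : ℕ) [SmoothOfRelativeDimension n (i ≫ CohB1.ProjSpace.toSpec r k)]

include n in
/-- A general form is nowhere tangent. -/
theorem isGeneric_notMem_sq (d : ℕ) (hd : 1 ≤ d) :
    LefPen.IsGeneric k {H : LefPen.Form r k d | ∀ (a : Fin (r + 1)) (x : X) (hxa : i x ∈ LefPen.chart r k a),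
      IsClosed ({x} : Set X) → σ i a x hxa H.1 ∉ maximalIdeal (X.presheaf.stalk x) ^ 2} := by
  classical
  haveI : IsLocallyNoetherian X := LocallyOfFiniteType.isLocallyNoetherian i
  haveI : QuasiCompact (i ≫ CohB1.ProjSpace.toSpec r k) := inferInstance
  haveI : CompactSpace X := QuasiCompact.compactSpace_of_compactSpace (i ≫ CohB1.ProjSpace.toSpec r k)
  choose D R hxD hR0 hR using exists_chart_poly i n d hd
  obtain ⟨T, hT⟩ := isCompact_univ.elim_finite_subcover (fun y : X => ((D y).1 : Set X))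
    (fun y => (D y).1.2) (fun y _ => Set.mem_iUnion.2 ⟨y, hxD y⟩)
  obtain ⟨R₀, hR₀, hR₀'⟩ := exists_point_poly_components i d
  refine Groth.L14.Fano.isGeneric_of_ne_zero (R₀ * ∏ y ∈ T, R y)
    (mul_ne_zero hR₀ (Finset.prod_ne_zero_iff.2 fun y _ => hR0 y)) fun H hH => ?_
  rw [map_mul, map_prod, mul_ne_zero_iff, Finset.prod_ne_zero_iff] at hH
  set ι' := LefPen.secι i ({H} : Set (LefPen.Form r k d))
  haveI : Smooth (LefPen.secToSpec i ({H} : Set (LefPen.Form r k d))) := by
    refine HasRingHomProperty.of_iSup_eq_top (P := @Smooth)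
      (fun y : T => ⟨ι' ⁻¹ᵁ (D y.1).1, (D y.1).2.preimage ι'⟩) ?_ fun y => hR y.1 H (hH.2 y.1 y.2)
    refine eq_top_iff.2 fun z _ => ?_
    obtain ⟨y, hy, hz⟩ := Set.mem_iUnion₂.1 (hT (Set.mem_univ (ι' z)))
    exact Opens.mem_iSup.2 ⟨⟨y, hy⟩, hz⟩
  intro a x hxa hx hsq
  obtain ⟨y, hy⟩ := exists_mem_secι i a x hxa H (Ideal.pow_le_self two_ne_zero hsq)
  have hs : LefPen.SmoothAt (LefPen.secToSpec i ({H} : Set (LefPen.Form r k d))) y :=
    (Groth.L05.Nd.smoothAt_iff_regular _ y).2 (Groth.L08.Cube.isRegularLocalRing_of_smooth (LefPen.secToSpec i ({H} : Set (LefPen.Form r k d))) y)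
  rcases (Groth.L05.Nd.smoothAt_sec_iff (n := n) H hx y hy (hxa := hxa)).1 hs with h | h
  · exact h hsq
  · exact hR₀' H hH.1 a x hxa h


include n in
/-- The base locus of a transversal form and a general form is transversal. -/
theorem isGeneric_transversal2 (hn : 1 ≤ n) (d : ℕ) (hd : 1 ≤ d) (H₀ : LefPen.Form r k d)
    (hH₀ : LefPen.Transversal k n 1 (LefPen.secToSpec i ({H₀} : Set (LefPen.Form r k d)))) :
    LefPen.IsGeneric k {G : LefPen.Form r k d |
      LefPen.Transversal k n 2 (LefPen.secToSpec i ({H₀, G} : Set (LefPen.Form r k d)))} := by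
  set ι₀ := LefPen.secι i ({H₀} : Set (LefPen.Form r k d))
  have hsm : SmoothOfRelativeDimension (n - 1) ((ι₀ ≫ i) ≫ CohB1.ProjSpace.toSpec r k) := by
    rcases hH₀ with ⟨-, h⟩ | ⟨h, -⟩
    · rw [Category.assoc]; exact h
    · omega
  obtain ⟨f, hf, hf0, hfG⟩ := isGeneric_notMem_sq (ι₀ ≫ i) (n - 1) d hd
  refine ⟨f, hf, hf0, fun G hG => (transversal2_iff i n hn H₀ G).2 fun a x hxa hx hF hGm s t hmem => ?_⟩
  obtain ⟨y, hy⟩ := exists_mem_secι i a x hxa H₀ hF
  subst hy
  set p := (ι₀.stalkMap y).hom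
  have hp0 : p (σ i a (ι₀ y) hxa H₀.1) = 0 := by
    have h : σ i a (ι₀ y) hxa H₀.1 ∈ RingHom.ker p := by
      rw [Groth.L14.RegImmStalk.ker_stalkMap ι₀ (isAffineOpen_preimage_chart i a)
        (IsZariskiLocalAtTarget.restrict (P := @IsClosedImmersion) inferInstance _) y hxa]
      refine Ideal.mem_map_of_mem _ ?_
      refine ((LefPen.secIdeal i {H₀}).ker_subschemeι_app ⟨_, isAffineOpen_preimage_chart i a⟩).ge ?_
      rw [Groth.L05.HypBertini.secIdeal_ideal i H₀ a ⟨_, _⟩ le_rfl]
      refine Ideal.subset_span ?_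
      rw [Groth.L05.HypBertini.res, Scheme.Hom.appLE_eq_app]
      rfl
    exact h
  have hσ : ∀ Q : MvPolynomial (Fin (r + 1)) k, σ (ι₀ ≫ i) a y hxa Q = p (σ i a (ι₀ y) hxa Q) := fun Q => by
    show _ = (ι₀.stalkMap y).hom ((X.presheaf.germ _ (ι₀ y) hxa).hom _)
    rw [Scheme.Hom.germ_stalkMap_apply]
    rfl
  have hyc : IsClosed ({y} : Set (LefPen.Sec i ({H₀} : Set (LefPen.Form r k d)))) := by
    have : ({y} : Set (LefPen.Sec i ({H₀} : Set (LefPen.Form r k d)))) = ι₀ ⁻¹' {ι₀ y} := by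
      ext z
      simp only [Set.mem_singleton_iff, Set.mem_preimage]
      exact ⟨fun h => h ▸ rfl, fun h => ι₀.isClosedEmbedding.injective h⟩
    rw [this]
    exact hx.preimage ι₀.continuous
  have hpow : ∀ z ∈ maximalIdeal (X.presheaf.stalk (ι₀ y)) ^ 2, p z ∈ maximalIdeal _ ^ 2 := fun z hz => by
    refine (Ideal.pow_right_mono (Ideal.map_le_iff_le_comap.2 fun w hw => ?_) 2)
      ((Ideal.map_pow p _ 2).le (Ideal.mem_map_of_mem p hz))
    exact fun hu => (mem_maximalIdeal _).1 hw (isUnit_of_map_unit p w hu)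
  by_cases ht : t = 0
  · refine ⟨by_contra fun hs => ?_, ht⟩
    rw [ht, zero_smul, add_zero, Submodule.coe_smul, smul_eq_C_mul, map_mul,
      Ideal.unit_mul_mem_iff_mem _ (((IsUnit.mk0 s hs).map C).map (σ i a (ι₀ y) hxa))] at hmem
    exact (transversal_iff i n hn H₀).1 hH₀ a _ hxa hx hmem
  · exfalso
    have h := hpow _ hmem
    rw [Submodule.coe_add, Submodule.coe_smul, Submodule.coe_smul, smul_eq_C_mul, smul_eq_C_mul, map_add, map_mul,
      map_mul, map_add, map_mul, map_mul, hp0, mul_zero, zero_add, ← hσ G.1,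
      Ideal.unit_mul_mem_iff_mem _ ((((IsUnit.mk0 t ht).map C).map (σ i a (ι₀ y) hxa)).map p)] at h
    exact hfG G hG a y hxa hyc h

end Groth.L05.Pencil
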