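import Groth.Agent.L05.DualVar.Criterion
import Groth.Agent.L18.CIProjChart

/-! Members of a pencil: scaling invariance, and the ideal of a section by two forms. -/

set_option autoImplicit false
set_option linter.style.haveILetI false
set_option backward.isDefEq.respectTransparency false
set_option backward.isDefEq.respectTransparency.types false
set_option maxHeartbeats 1000000

universe u

open CategoryTheory CategoryTheory.Limits AlgebraicGeometry TopologicalSpace MvPolynomial IsLocalRing Opposite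

noncomputable section

namespace Groth.L05.Pencil

open Groth.L18.CIProj (deh deh_form)
open Groth.L05.OrdQuad (σ isAffineOpen_preimage_chart)
open Groth.L05.HypBertini (res)

variable {k : Type u} [Field k] {r : ℕ} {X : Scheme.{u}} (i : X ⟶ CohB1.ProjSpace r k) {d : ℕ}

theorem hypIdeal_smul {t : k} (ht : t ≠ 0) (G : LefPen.Form r k d) :
    LefPen.hypIdeal (t • G) = LefPen.hypIdeal G := by
  unfold LefPen.hypIdeal
  congr 1
  funext U
  unfold LefPen.hypFamily
  refine iInf_congr fun j => ?_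
  congr 1
  have h1 : LefPen.dehom (t • G) j = deh j (C t) * LefPen.dehom G j := by
    rw [← deh_form, ← deh_form, Submodule.coe_smul, smul_eq_C_mul, map_mul]
  rw [h1, map_mul]
  exact Ideal.span_singleton_mul_left_unit ((((IsUnit.mk0 t ht).map C).map (deh j)).map _) _

theorem secIdeal_smul {t : k} (ht : t ≠ 0) (G : LefPen.Form r k d) :
    LefPen.secIdeal i ({t • G} : Set (LefPen.Form r k d)) = LefPen.secIdeal i ({G} : Set (LefPen.Form r k d)) := by
  rw [LefPen.secIdeal, LefPen.secIdeal, iSup_singleton, iSup_singleton, hypIdeal_smul ht]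

/-- A member allowed in a Lefschetz pencil. -/
def Good (n : ℕ) (H : LefPen.Form r k d) : Prop :=
  LefPen.Transversal k n 1 (LefPen.secToSpec i ({H} : Set (LefPen.Form r k d))) ∨ LefPen.OneOrdQuad k n i H

theorem good_iff (n : ℕ) (H : LefPen.Form r k d) :
    (¬ LefPen.Transversal k n 1 (LefPen.secToSpec i ({H} : Set (LefPen.Form r k d))) → LefPen.OneOrdQuad k n i H) ↔
      Good i n H := Classical.or_iff_not_imp_left.symm

theorem transversal_smul {n : ℕ} {t : k} (ht : t ≠ 0) (H : LefPen.Form r k d) :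
    LefPen.Transversal k n 1 (LefPen.secToSpec i ({t • H} : Set (LefPen.Form r k d))) ↔
      LefPen.Transversal k n 1 (LefPen.secToSpec i ({H} : Set (LefPen.Form r k d))) :=
  iff_of_eq (congrArg (fun I : X.IdealSheafData =>
    LefPen.Transversal k n 1 (I.subschemeι ≫ i ≫ CohB1.ProjSpace.toSpec r k)) (secIdeal_smul i ht H))

theorem oneOrdQuad_smul {n : ℕ} {t : k} (ht : t ≠ 0) (H : LefPen.Form r k d) :
    LefPen.OneOrdQuad k n i (t • H) ↔ LefPen.OneOrdQuad k n i H :=
  iff_of_eq (congrArg (fun I : X.IdealSheafData => ∃ y : I.subscheme,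
    {y' | LefPen.SmoothAt (I.subschemeι ≫ i ≫ CohB1.ProjSpace.toSpec r k) y'} = ({y}ᶜ : Set I.subscheme) ∧
    LefPen.IsOrdQuadSing k (n - 1) (I.subschemeι ≫ i ≫ CohB1.ProjSpace.toSpec r k) y) (secIdeal_smul i ht H))

theorem good_smul (n : ℕ) {t : k} (ht : t ≠ 0) (H : LefPen.Form r k d) : Good i n (t • H) ↔ Good i n H :=
  or_congr (transversal_smul i ht H) (oneOrdQuad_smul i ht H)

variable [IsClosedImmersion i]

omit [IsClosedImmersion i] in
theorem secIdeal_pair_ideal (F G : LefPen.Form r k d) (a : Fin (r + 1)) (D : X.affineOpens)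
    (hD : D.1 ≤ i ⁻¹ᵁ LefPen.chart r k a) :
    (LefPen.secIdeal i ({F, G} : Set (LefPen.Form r k d))).ideal D =
      Ideal.span {res i a D.1 hD F.1, res i a D.1 hD G.1} := by
  rw [LefPen.secIdeal, iSup_pair,
    Groth.L22.Ideals.comap_ideal i _ ⟨_, Groth.L21.PlaneCurve.isAffineOpen_chart a⟩ D hD,
    Scheme.IdealSheafData.ideal_sup, Pi.sup_apply,
    Groth.L21.PlaneCurve.hypIdeal_chart, Groth.L21.PlaneCurve.hypIdeal_chart, Ideal.map_sup, Ideal.map_span,
    Ideal.map_span, Set.image_singleton, Set.image_singleton, ← deh_form, ← deh_form, ← Ideal.span_union,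
    Set.singleton_union]
  rfl

variable (a : Fin (r + 1)) (x₀ : X) (hxa : i x₀ ∈ LefPen.chart r k a)

theorem σ_pair_ker_secι (F G : LefPen.Form r k d) (y : LefPen.Sec i ({F, G} : Set (LefPen.Form r k d)))
    (hy : LefPen.secι i ({F, G} : Set (LefPen.Form r k d)) y = x₀) :
    ∃ p : X.presheaf.stalk x₀ →+* (LefPen.Sec i ({F, G} : Set (LefPen.Form r k d))).presheaf.stalk y,
      Function.Surjective p ∧ RingHom.ker p = Ideal.span {σ i a x₀ hxa F.1, σ i a x₀ hxa G.1} := by
  subst hy
  refine ⟨((LefPen.secι i {F, G}).stalkMap y).hom, (LefPen.secι i {F, G}).stalkMap_surjective y, ?_⟩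
  rw [Groth.L14.RegImmStalk.ker_stalkMap (LefPen.secι i {F, G}) (isAffineOpen_preimage_chart i a)
    (IsZariskiLocalAtTarget.restrict (P := @IsClosedImmersion) inferInstance _) y hxa]
  have h1 : RingHom.ker ((LefPen.secι i {F, G}).app (i ⁻¹ᵁ LefPen.chart r k a)).hom =
      Ideal.span {res i a _ le_rfl F.1, res i a _ le_rfl G.1} :=
    ((LefPen.secIdeal i {F, G}).ker_subschemeι_app ⟨_, isAffineOpen_preimage_chart i a⟩).trans
      (secIdeal_pair_ideal i F G a _ le_rfl)
  rw [h1, Ideal.map_span, Set.image_pair]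
  simp only [res, Scheme.Hom.appLE_eq_app]
  rfl

theorem exists_mem_secι_pair (F G : LefPen.Form r k d)
    (hF : σ i a x₀ hxa F.1 ∈ maximalIdeal (X.presheaf.stalk x₀))
    (hG : σ i a x₀ hxa G.1 ∈ maximalIdeal (X.presheaf.stalk x₀)) :
    ∃ y : LefPen.Sec i ({F, G} : Set (LefPen.Form r k d)),
      LefPen.secι i ({F, G} : Set (LefPen.Form r k d)) y = x₀ := by
  have hmem : x₀ ∈ (LefPen.secIdeal i ({F, G} : Set (LefPen.Form r k d))).support := by
    rw [Scheme.IdealSheafData.mem_support_iff_of_mem (U := ⟨_, isAffineOpen_preimage_chart i a⟩) hxa,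
      secIdeal_pair_ideal i F G a ⟨_, _⟩ le_rfl, Scheme.zeroLocus_span]
    refine (Scheme.mem_zeroLocus_iff _ _ x₀).2 fun f hf hb => ?_
    have hu := (X.mem_basicOpen _ x₀ hxa).1 hb
    rcases hf with rfl | hf
    · refine (mem_nonunits_iff.1 ((mem_maximalIdeal _).1 hF)) ?_
      simpa [res, Scheme.Hom.appLE_eq_app, σ] using hu
    · rw [Set.mem_singleton_iff.1 hf] at hu
      refine (mem_nonunits_iff.1 ((mem_maximalIdeal _).1 hG)) ?_
      simpa [res, Scheme.Hom.appLE_eq_app, σ] using hu
  have h2 : x₀ ∈ Set.range (LefPen.secι i ({F, G} : Set (LefPen.Form r k d))) := by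
    rw [Scheme.IdealSheafData.range_subschemeι]
    exact hmem
  exact h2

end Groth.L05.Pencil
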