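import Groth.Agent.L05.Pencil.Char0Ring
import Groth.Agent.L05.Nd.Series
import Mathlib.RingTheory.MvPowerSeries.Derivative

/-! Second order terms in power series through derivations of the chart ring. -/

set_option autoImplicit false
set_option linter.style.haveILetI false
set_option maxHeartbeats 1000000

universe u

noncomputable section

namespace Groth.L05.Pencil.Char0

open MvPowerSeries
open VanCyc (quadPart polarMatrix QuadOrd)

variable {k : Type u} [Field k] {A : Type u} [CommRing A] [Algebra k A] {n : ℕ}
  (b : Module.Basis (Fin n) A Ω[A⁄k]) (ν : A →+* MvPowerSeries (Fin n) k)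

/-- The partial derivatives of an expansion come from the derivations of the chart. -/
theorem exists_jacobian (hC : ∀ t : k, ν (algebraMap k A t) = C t) :
    ∃ J : Fin n → Fin n → MvPowerSeries (Fin n) k, ∀ (a : A) (p : Fin n),
      pderiv k p (ν a) = ∑ l, ν (dl b l a) * J p l := by
  letI : Algebra A (MvPowerSeries (Fin n) k) := ν.toAlgebra
  haveI : IsScalarTower k A (MvPowerSeries (Fin n) k) := IsScalarTower.of_algebraMap_eq fun t => (hC t).symm
  let δ : Fin n → Derivation k A (MvPowerSeries (Fin n) k) := fun p => (pderiv k p).compAlgebraMap A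
  refine ⟨fun p l => (δ p).liftKaehlerDifferential (b l), fun a p => ?_⟩
  have h1 : (δ p).liftKaehlerDifferential (KaehlerDifferential.D k A a) = pderiv k p (ν a) :=
    Derivation.liftKaehlerDifferential_comp_D _ a
  rw [← h1]
  conv_lhs => rw [← b.sum_repr (KaehlerDifferential.D k A a)]
  rw [map_sum]
  refine Finset.sum_congr rfl fun l _ => ?_
  rw [LinearMap.map_smul_of_tower, Algebra.smul_def]
  rfl

/-- At a tangency the polar form is the Hessian in the chart derivations. -/
theorem jets_of_jacobian (hC : ∀ t : k, ν (algebraMap k A t) = C t) (hX : ∀ p, ∃ a, ν a = X p) (h : A)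
    (h1 : ∀ l, constantCoeff (ν (dl b l h)) = 0) :
    (∀ p, coeff (Finsupp.single p 1) (ν h) = 0) ∧
    ((Matrix.of fun l l' => constantCoeff (ν (dl b l' (dl b l h)))).det ≠ 0 → QuadOrd (quadPart (ν h))) := by
  classical
  obtain ⟨J, hJ⟩ := exists_jacobian b ν hC
  have hlin : ∀ (a : A) (p : Fin n), coeff (Finsupp.single p 1) (ν a) =
      ∑ l, constantCoeff (ν (dl b l a)) * constantCoeff (J p l) := by
    intro a p
    have h := congrArg constantCoeff (hJ a p)
    rw [← coeff_zero_eq_constantCoeff_apply, coeff_pderiv, zero_add, Finsupp.coe_zero, Pi.zero_apply, Nat.cast_zero,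
      zero_add, mul_one] at h
    rw [h, map_sum]
    simp only [map_mul]
  refine ⟨fun p => by rw [hlin]; exact Finset.sum_eq_zero fun l _ => by rw [h1 l, zero_mul], fun hdet => ?_⟩
  set H : Matrix (Fin n) (Fin n) k := Matrix.of fun l l' => constantCoeff (ν (dl b l' (dl b l h)))
  set J₀ : Matrix (Fin n) (Fin n) k := Matrix.of fun p l => constantCoeff (J p l)
  choose a ha using hX
  have hJ₀ : J₀ * (Matrix.of fun l q => constantCoeff (ν (dl b l (a q)))) = 1 := by
    refine Matrix.ext fun p q => ?_
    rw [Matrix.mul_apply, Matrix.one_apply]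
    have h := hlin (a q) p
    rw [ha, coeff_X] at h
    simp only [Finsupp.single_eq_single_iff, and_true, one_ne_zero, and_self, or_false] at h
    simp only [J₀, Matrix.of_apply]
    rw [Finset.sum_congr rfl fun l _ => mul_comm (constantCoeff (J p l)) _, ← h]
  have hpol : polarMatrix (quadPart (ν h)) = J₀ * H * J₀.transpose := by
    refine Matrix.ext fun p q => ?_
    have hl : polarMatrix (quadPart (ν h)) p q = constantCoeff (pderiv k q (pderiv k p (ν h))) := by
      rw [← coeff_zero_eq_constantCoeff_apply, coeff_pderiv, zero_add, coeff_pderiv]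
      simp only [Finsupp.coe_zero, Pi.zero_apply, Nat.cast_zero, zero_add, mul_one]
      unfold polarMatrix quadPart
      rcases eq_or_ne p q with rfl | hne
      · rw [if_pos rfl, if_pos rfl, ← Finsupp.single_add, Finsupp.single_eq_same]
        norm_num
        ring
      · rw [if_neg hne, Finsupp.single_eq_of_ne hne, Nat.cast_zero, zero_add, mul_one]
        rcases lt_or_gt_of_ne hne with hlt | hlt
        · rw [if_pos hlt, if_neg hne, if_pos hlt, add_comm]
        · rw [if_neg hlt.asymm, if_neg hne.symm, if_pos hlt]
    rw [hl, hJ, map_sum, map_sum]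
    simp only [Derivation.leibniz, smul_eq_mul, map_add, map_mul, h1, zero_mul, hJ, map_sum]
    simp only [Matrix.mul_apply, Matrix.transpose_apply, J₀, H, Matrix.of_apply, Finset.sum_mul, Finset.mul_sum, zero_add]
    rw [Finset.sum_comm]
    refine Finset.sum_congr rfl fun l' _ => Finset.sum_congr rfl fun l _ => ?_
    ring
  intro v _ hv
  have hu : IsUnit (polarMatrix (quadPart (ν h))).det := by
    rw [hpol, Matrix.det_mul, Matrix.det_mul, Matrix.det_transpose]
    have hJu : IsUnit J₀.det := IsUnit.of_mul_eq_one _ (by rw [← Matrix.det_mul, hJ₀, Matrix.det_one])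
    exact (hJu.mul (isUnit_iff_ne_zero.2 hdet)).mul hJu
  exact (Matrix.mulVec_injective_iff_isUnit.2 ((Matrix.isUnit_iff_isUnit_det _).2 hu)) (hv.trans (Matrix.mulVec_zero _).symm)

end Groth.L05.Pencil.Char0
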