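import Groth.Agent.L05.Pencil.TanGen
import Groth.Agent.L05.Nd.Open

/-! Some form of degree at least two has exactly one ordinary quadratic point. -/

set_option autoImplicit false
set_option linter.style.haveILetI false
set_option backward.isDefEq.respectTransparency false
set_option backward.isDefEq.respectTransparency.types false
set_option maxHeartbeats 1000000

universe u

open CategoryTheory CategoryTheory.Limits AlgebraicGeometry TopologicalSpace MvPolynomial IsLocalRing

noncomputable section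

namespace Groth.L05.Pencil

open Groth.L05.OrdQuad (σ σ_X_self exists_coords exists_mem_secι qpoly qform qpoly_homogeneous nondegQuad_qform)
open Groth.L05.DualVar
open Groth.L05.Nd hiding spec
open VanCyc (quadPart QuadOrd quadPoly polarMatrix quadEval)

variable {k : Type u} [Field k]

theorem eq_quadPoly {N : ℕ} {q : MvPolynomial (Fin N) k} (hq : q.IsHomogeneous 2) :
    q = quadPoly (quadPart (q : MvPowerSeries (Fin N) k)) := by
  ext e'
  by_cases he : e'.degree = 2
  · obtain ⟨u, v, huv, rfl⟩ := Groth.L28.Morse.quad_repr he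
    rw [← MvPolynomial.coeff_coe q, ← MvPolynomial.coeff_coe (quadPoly (quadPart (q : MvPowerSeries (Fin N) k))),
      Groth.L28.Morse.coe_quadPoly, Groth.L28.Morse.coeff_Q_X, Finset.sum_eq_single u ?_ (by simp),
      Finset.sum_eq_single v ?_ (by simp), if_pos ⟨huv, rfl⟩]
    · rcases huv.eq_or_lt with rfl | hlt
      · simp [quadPart, ← Finsupp.single_add]
      · simp [quadPart, hlt.ne, hlt]
    · intro l _ hl
      exact if_neg fun ⟨h1, h2⟩ => hl ((Groth.L28.Morse.pair_eq huv h1).mp h2.symm).2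
    · intro l _ hl
      exact Finset.sum_eq_zero fun l' _ => if_neg fun ⟨h1, h2⟩ => hl ((Groth.L28.Morse.pair_eq huv h1).mp h2.symm).1
  · rw [hq.coeff_eq_zero he, (Groth.L28.Morse.quadPoly_isHomogeneous _).coeff_eq_zero he]

theorem isPolyFun_mul' {V : Type u} [AddCommGroup V] [Module k V] {f : V → k} (hf : LefPen.IsPolyFun k f) (t : k) :
    LefPen.IsPolyFun k fun v => f v * t := by
  unfold LefPen.IsPolyFun at hf ⊢
  exact mul_mem hf (Subalgebra.algebraMap_mem _ t)

variable {r : ℕ}

theorem quad_shift {G : MvPolynomial (Fin (r + 1)) k} (hG : G.IsHomogeneous 2) (c w : Fin (r + 1) → k) (s : k) :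
    eval (s • c + w) G = s ^ 2 * eval c G + s * (∑ j, w j * grad c G j) + hq c w G ∧
    hessVec c w G = grad w G ∧ grad (s • c + w) G = s • grad c G + grad w G := by
  classical
  suffices h : ∀ u v : Fin (r + 1), ∀ t : k,
      eval (s • c + w) (C t * MvPolynomial.X u * MvPolynomial.X v) =
        s ^ 2 * eval c (C t * MvPolynomial.X u * MvPolynomial.X v) +
          s * (∑ j, w j * grad c (C t * MvPolynomial.X u * MvPolynomial.X v) j) +
          hq c w (C t * MvPolynomial.X u * MvPolynomial.X v) ∧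
      hessVec c w (C t * MvPolynomial.X u * MvPolynomial.X v) = grad w (C t * MvPolynomial.X u * MvPolynomial.X v) ∧
      grad (s • c + w) (C t * MvPolynomial.X u * MvPolynomial.X v) =
        s • grad c (C t * MvPolynomial.X u * MvPolynomial.X v) + grad w (C t * MvPolynomial.X u * MvPolynomial.X v) by
    rw [G.as_sum]
    refine Finset.sum_induction _ (fun G => eval (s • c + w) G = s ^ 2 * eval c G + s * (∑ j, w j * grad c G j) + hq c w G ∧
      hessVec c w G = grad w G ∧ grad (s • c + w) G = s • grad c G + grad w G) ?_ ?_ ?_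
    · rintro p q ⟨hp1, hp2, hp3⟩ ⟨hq1, hq2, hq3⟩
      refine ⟨?_, by rw [map_add, map_add, hp2, hq2], by rw [map_add, map_add, map_add, hp3, hq3, smul_add]; abel⟩
      rw [map_add, map_add, hq_add, map_add, hp1, hq1]
      simp only [Pi.add_apply, mul_add, Finset.sum_add_distrib]
      ring
    · exact ⟨by rw [map_zero, map_zero, map_zero, show hq c w 0 = 0 by rw [← C_0, hq_C]]; simp, by simp, by simp⟩
    · intro μ hμ
      have hdeg : μ.degree = 2 := by
        by_contra hne
        exact mem_support_iff.1 hμ (hG.coeff_eq_zero hne)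
      obtain ⟨u, v, -, rfl⟩ := Groth.L28.Morse.quad_repr hdeg
      rw [show monomial (Finsupp.single u 1 + Finsupp.single v 1) (coeff (Finsupp.single u 1 + Finsupp.single v 1) G) =
          C (coeff (Finsupp.single u 1 + Finsupp.single v 1) G) * MvPolynomial.X u * MvPolynomial.X v by
        rw [monomial_add_single, pow_one, ← C_mul_X_eq_monomial]]
      exact h u v _
  intro u v t
  have hX : ∀ (p : Fin (r + 1) → k) (l : Fin (r + 1)), grad p (MvPolynomial.X l) = Pi.single l 1 := fun p l => by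
    funext j
    rw [grad_apply]
    rcases eq_or_ne j l with rfl | hne
    · simp
    · simp [pderiv_X_of_ne (Ne.symm hne), Pi.single_eq_of_ne hne]
  have hC : ∀ (p : Fin (r + 1) → k) (t : k), grad p (C t) = 0 := fun p t => by
    funext j
    rw [grad_apply, pderiv_C, map_zero]
    rfl
  have hg : ∀ p : Fin (r + 1) → k, grad p (C t * MvPolynomial.X u * MvPolynomial.X v) =
      (t * p v) • (Pi.single u 1 : Fin (r + 1) → k) + (t * p u) • (Pi.single v 1 : Fin (r + 1) → k) := fun p => by
    rw [mul_assoc, ← smul_eq_C_mul, map_smul, grad_mul, hX, hX, eval_X, eval_X]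
    funext j
    simp only [Pi.add_apply, Pi.smul_apply, smul_eq_mul]
    ring
  refine ⟨?_, ?_, ?_⟩
  · rw [hq_mul_X, ← pow_one (MvPolynomial.X u : MvPolynomial (Fin (r + 1)) k), pow_one, hq_mul_X, hq_C, hg]
    rw [show grad c (C t * MvPolynomial.X u) = t • (Pi.single u 1 : Fin (r + 1) → k) by
      rw [← smul_eq_C_mul, map_smul, hX]]
    simp [hC, Finset.sum_add_distrib, mul_add, mul_ite, Pi.single_apply]
    ring
  · have e : ∑ l, C (w l) * pderiv l (C t * MvPolynomial.X u * MvPolynomial.X v) =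
        C (t * w u) * MvPolynomial.X v + C (t * w v) * MvPolynomial.X u := by
      simp only [mul_assoc, pderiv_mul, pderiv_C, zero_mul, zero_add, pderiv_X, Pi.single_apply, mul_ite, mul_one,
        mul_zero, ite_mul, one_mul, zero_mul, mul_add, Finset.sum_add_distrib, Finset.sum_ite_eq, Finset.sum_ite_eq',
        Finset.mem_univ, if_true, map_mul]
      ring
    rw [hessVec_apply, e, map_add, ← smul_eq_C_mul, ← smul_eq_C_mul, map_smul, map_smul, hX, hX, hg]
    exact add_comm _ _
  · rw [hg, hg, hg]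
    funext j
    simp only [Pi.add_apply, Pi.smul_apply, smul_eq_mul]
    ring

variable [IsAlgClosed k] {X : Scheme.{u}} {i : X ⟶ CohB1.ProjSpace r k}
  [IsClosedImmersion i] [IrreducibleSpace X] [IsReduced X] [IsLocallyNoetherian X]
  {S : Finset (MvPolynomial (Fin (r + 1)) k)} {m n d : ℕ}
  [SmoothOfRelativeDimension n (i ≫ CohB1.ProjSpace.toSpec r k)]

/-- Having an ordinary point at the vertex is open and occurs. -/
theorem exists_ordQuad_poly {N : ℕ} (hd : 2 ≤ d) {a : Fin (r + 1)} {x₀ : X} {hxa : i x₀ ∈ LefPen.chart r k a}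
    {c : Fin (r + 1) → k} (hc : IsCoord i a x₀ hxa c) [IsRegularLocalRing (X.presheaf.stalk x₀)]
    {sel : Fin (N + 1) → Fin (r + 1)}
    (P : Param ((σ i a x₀ hxa).comp C) fun l => tc i a x₀ hxa c (sel l)) :
    ∃ f : LefPen.Form r k d → k, LefPen.IsPolyFun k f ∧ (∃ H ∈ vertexForms c d, f H ≠ 0) ∧
      ∀ H, f H ≠ 0 → QuadOrd (quadPart (P.ν (σ i a x₀ hxa H.1))) := by
  classical
  let lin' : Fin (N + 1) → MvPolynomial (Fin (r + 1)) k := fun l =>
    MvPolynomial.X (sel l) - C (c (sel l)) * MvPolynomial.X a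
  have hlin : ∀ l, (lin' l).IsHomogeneous 1 := fun l => (isHomogeneous_X k _).sub (isHomogeneous_C_mul_X _ _)
  let q := qpoly k N
  let H₀ : LefPen.Form r k d := ⟨MvPolynomial.X a ^ (d - 2) * aeval lin' q, (mem_homogeneousSubmodule d _).2 (by
    have h := ((isHomogeneous_X k a).pow (d - 2)).mul ((qpoly_homogeneous k N).aeval lin' hlin)
    rwa [show 1 * (d - 2) + 1 * 2 = d by omega] at h)⟩
  have hH₀ : H₀ ∈ vertexForms c d := by
    have hl : ∀ l, eval c (lin' l) = 0 := fun l => by simp [lin', coord_self hc]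
    have h2 : eval c (aeval lin' q) = 0 ∧ grad c (aeval lin' q) = 0 := by
      have hq : q ∈ Ideal.span (Set.range (MvPolynomial.X : Fin (N + 1) → MvPolynomial (Fin (N + 1)) k)) ^ 2 := by
        rw [show q = qpoly k N from rfl, qpoly]
        refine Submodule.sum_mem _ fun j _ => ?_
        rw [Groth.L05.OrdQuad.qterm, pow_two]
        split_ifs
        · exact Ideal.mul_mem_mul (Ideal.subset_span ⟨_, rfl⟩) (Ideal.subset_span ⟨_, rfl⟩)
        · exact pow_two (MvPolynomial.X (R := k) j) ▸ Ideal.mul_mem_mul (Ideal.subset_span ⟨_, rfl⟩) (Ideal.subset_span ⟨_, rfl⟩)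
        · exact zero_mem _
      have hm : Ideal.span (Set.range (MvPolynomial.X : Fin (N + 1) → MvPolynomial (Fin (N + 1)) k)) ≤
          Ideal.comap (aeval lin').toRingHom (RingHom.ker (eval c)) := Ideal.span_le.2 (by
        rintro _ ⟨l, rfl⟩
        simp [hl l])
      rw [pow_two] at hq
      revert hq
      generalize q = q'
      intro hq
      induction hq using Submodule.mul_induction_on' with
      | mem_mul_mem u hu v hv =>
        have h1 : eval c (aeval lin' u) = 0 := hm hu
        have h2 : eval c (aeval lin' v) = 0 := hm hv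
        exact ⟨by rw [map_mul, map_mul, h1, zero_mul],
          by rw [map_mul, grad_mul, h1, h2, zero_smul, zero_smul, add_zero]⟩
      | add u _ v _ hu hv =>
        exact ⟨by rw [map_add, map_add, hu.1, hv.1, add_zero], by rw [map_add, map_add, hu.2, hv.2, add_zero]⟩
    refine mem_vertexForms.2 ⟨?_, ?_⟩
    · show eval c (MvPolynomial.X a ^ (d - 2) * aeval lin' q) = 0
      rw [map_mul, h2.1, mul_zero]
    · show grad c (MvPolynomial.X a ^ (d - 2) * aeval lin' q) = 0
      rw [grad_mul, h2.1, h2.2, smul_zero, zero_smul, add_zero]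
  have hν : P.ν (σ i a x₀ hxa H₀.1) = (q : MvPowerSeries (Fin (N + 1)) k) := by
    show P.ν (σ i a x₀ hxa (MvPolynomial.X a ^ (d - 2) * aeval lin' q)) = _
    rw [map_mul, map_pow, σ_X_self, one_pow, one_mul]
    have h : P.ν.comp ((σ i a x₀ hxa).comp (aeval lin').toRingHom) = MvPolynomial.coeToMvPowerSeries.ringHom := by
      refine MvPolynomial.ringHom_ext (fun t => ?_) fun l => ?_
      · simp only [RingHom.comp_apply, AlgHom.toRingHom_eq_coe, RingHom.coe_coe, aeval_C, MvPolynomial.algebraMap_eq]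
        rw [show MvPolynomial.coeToMvPowerSeries.ringHom (C t : MvPolynomial (Fin (N + 1)) k) = MvPowerSeries.C t
          from MvPolynomial.coe_C t]
        exact P.ν_C t
      · simp only [RingHom.comp_apply, AlgHom.toRingHom_eq_coe, RingHom.coe_coe, aeval_X]
        rw [show MvPolynomial.coeToMvPowerSeries.ringHom (MvPolynomial.X l : MvPolynomial (Fin (N + 1)) k) =
          MvPowerSeries.X l from MvPolynomial.coe_X l, ← P.ν_t l]
        refine congrArg P.ν ?_
        simp [lin', tc, σ_X_self]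
    exact RingHom.congr_fun h q
  have hord : QuadOrd (quadPart (P.ν (σ i a x₀ hxa H₀.1))) := by
    rw [hν]
    exact (nondegQuad_iff _ (qform k N) (eq_quadPoly (qpoly_homogeneous k N))).1 nondegQuad_qform
  let A : LefPen.Form r k d →ₗ[k] (Fin (N + 1) → Fin (N + 1) → k) :=
    { toFun := fun H => quadPart (P.ν (σ i a x₀ hxa H.1))
      map_add' := fun H H' => by
        funext p p'
        simp only [Submodule.coe_add, map_add, quadPart, Pi.add_apply]
        split_ifs <;> simp
      map_smul' := fun t H => by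
        funext p p'
        rw [Submodule.coe_smul, smul_eq_C_mul, map_mul, map_mul,
          show P.ν (σ i a x₀ hxa (C t)) = MvPowerSeries.C t from P.ν_C t]
        simp only [quadPart, MvPowerSeries.coeff_C_mul, Pi.smul_apply, smul_eq_mul, RingHom.id_apply]
        split_ifs <;> simp }
  let Q : Option (Fin (N + 1)) → LefPen.Form r k d → MvPolynomial (Fin (N + 1)) k := fun j H =>
    j.elim (quadPoly (A H)) fun p => ∑ p', C (polarMatrix (A H) p p') * MvPolynomial.X p'
  obtain ⟨f, hf, hf0, hfH⟩ := isOpen_noCommonZero (fun j : Option (Fin (N + 1)) => j.elim 2 fun _ => 1) Q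
    (fun j H => by
      cases j
      · exact Groth.L28.Morse.quadPoly_isHomogeneous _
      · exact IsHomogeneous.sum _ _ _ fun p' _ => isHomogeneous_C_mul_X _ _)
    (fun j μ => by
      cases j
      · simp only [Q, Option.elim, quadPoly, coeff_sum]
        refine isPolyFun_sum _ _ fun p _ => isPolyFun_sum _ _ fun p' _ => ?_
        split_ifs
        · simp only [mul_assoc, coeff_C_mul]
          exact isPolyFun_mul' (isPolyFun_linear ((LinearMap.proj p').comp ((LinearMap.proj p).comp A)))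
            (coeff μ (MvPolynomial.X p * MvPolynomial.X p' : MvPolynomial (Fin (N + 1)) k))
        · simp only [coeff_zero]
          exact Subalgebra.zero_mem _
      · rename_i p
        simp only [Q, Option.elim, coeff_sum]
        refine isPolyFun_sum _ _ fun p' _ => ?_
        simp only [coeff_C_mul]
        refine isPolyFun_mul' ?_ _
        unfold polarMatrix
        split_ifs
        · exact isPolyFun_linear ((2 : k) • ((LinearMap.proj p).comp ((LinearMap.proj p).comp A)))
        · exact isPolyFun_linear ((LinearMap.proj p').comp ((LinearMap.proj p).comp A))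
        · exact isPolyFun_linear ((LinearMap.proj p).comp ((LinearMap.proj p').comp A)))
    H₀ (fun v hv => hord v (by
        rw [← eval_quadPoly]; exact hv none) (funext fun p => by
        have := hv (some p)
        simpa [Q, Matrix.mulVec, dotProduct, A] using this))
  refine ⟨f, hf, ⟨H₀, hH₀, hf0⟩, fun H hH v hv0 hv1 => hfH H hH v fun j => ?_⟩
  cases j with
  | none => show eval v (quadPoly (A H)) = 0; rw [eval_quadPoly]; exact hv0
  | some p =>
    have := congrFun hv1 p
    simpa [Q, Matrix.mulVec, dotProduct, A] using this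

omit [IsLocallyNoetherian X] [SmoothOfRelativeDimension n (i ≫ CohB1.ProjSpace.toSpec r k)] in
/-- A homogeneous polynomial vanishing at all closed points vanishes on `X`. -/
theorem van_of_forall_eval {e : ℕ} {F : MvPolynomial (Fin (r + 1)) k} (hF : F.IsHomogeneous e)
    (h : ∀ (b : Fin (r + 1)) (z : X) (hzb : i z ∈ LefPen.chart r k b) (e' : Fin (r + 1) → k),
      IsClosed ({z} : Set X) → IsCoord i b z hzb e' → eval e' F = 0) : F ∈ Van i := by
  haveI : JacobsonSpace X := LocallyOfFiniteType.jacobsonSpace (i ≫ CohB1.ProjSpace.toSpec r k)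
  refine ⟨⟨e, hF⟩, fun b => (basicOpen_eq_bot_iff _).1 ?_⟩
  by_contra hne
  obtain ⟨z, hz, hzc⟩ := nonempty_inter_closedPoints (X := X)
    ((TopologicalSpace.Opens.ne_bot_iff_nonempty _).1 hne)
    (X.basicOpen ((i.app (LefPen.chart r k b)).hom (Groth.L18.CIProj.deh b F))).isOpen.isLocallyClosed
  have hzb : i z ∈ LefPen.chart r k b := X.basicOpen_le _ hz
  obtain ⟨e', he'⟩ := exists_coords i b z hzb hzc
  have hmem := (σ_mem_iff (he' : IsCoord i b z hzb e') F).2 (h b z hzb e' hzc he')
  exact (mem_nonunits_iff.1 ((mem_maximalIdeal _).1 hmem)) ((X.mem_basicOpen _ z hzb).1 hz)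

/-- A vertex form with ordinary vertex has no other tangency point on a linear subspace. -/
theorem unique_linear (hE : Eqns i S m n) {a : Fin (r + 1)} {x₀ : X} {hxa : i x₀ ∈ LefPen.chart r k a}
    {c : Fin (r + 1) → k} (hc : IsCoord i a x₀ hxa c) (hx₀ : IsClosed ({x₀} : Set X))
    [IsRegularLocalRing (X.presheaf.stalk x₀)] {N : ℕ} {sel : Fin N → Fin (r + 1)}
    (P : Param ((σ i a x₀ hxa).comp C) fun l => tc i a x₀ hxa c (sel l))
    (hlinear : ∀ (b₁ b₂ : Fin (r + 1)) (z₁ z₂ : X) (h₁ : i z₁ ∈ LefPen.chart r k b₁) (h₂ : i z₂ ∈ LefPen.chart r k b₂)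
      (e₁ e₂ : Fin (r + 1) → k), IsClosed ({z₁} : Set X) → IsClosed ({z₂} : Set X) → IsCoord i b₁ z₁ h₁ e₁ →
        IsCoord i b₂ z₂ h₂ e₂ → ∀ F ∈ S, ∑ j, e₁ j * grad e₂ F j = 0)
    {H : LefPen.Form r k 2} (hH : H ∈ vertexForms c 2) (hord : QuadOrd (quadPart (P.ν (σ i a x₀ hxa H.1))))
    {b : Fin (r + 1)} {z : X} {hzb : i z ∈ LefPen.chart r k b} (hzc : IsClosed ({z} : Set X))
    (hz : σ i b z hzb H.1 ∈ maximalIdeal (X.presheaf.stalk z) ^ 2) : z = x₀ := by
  classical
  obtain ⟨e, he'⟩ := exists_coords i b z hzb hzc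
  have he : IsCoord i b z hzb e := he'
  obtain ⟨hHe, hge⟩ := (σ_form_mem_sq_iff he hE.sub hE.gen H).1 hz
  obtain ⟨hHc, hgc⟩ := mem_vertexForms.1 hH
  let w := e - e a • c
  have hG := (mem_homogeneousSubmodule 2 _).1 H.2
  have he_eq : e a • c + w = e := by simp [w]
  obtain ⟨h1, h2, h3⟩ := quad_shift hG c w (e a)
  rw [he_eq] at h1 h3
  rw [hHc, hgc] at h1
  rw [hgc] at h3
  simp only [Pi.zero_apply, mul_zero, Finset.sum_const_zero, zero_add] at h1
  rw [smul_zero, zero_add] at h3
  have hw : w = 0 := by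
    refine (quadOrd_iff P hc hgc).1 hord w (fun u hu => ?_) (h1.symm.trans hHe) ?_
    · rw [jetKer_eq hc hE.sub hE.gen] at hu
      obtain ⟨p, hp, v, hv, rfl⟩ := Submodule.mem_sup.1 hu
      obtain ⟨t, rfl⟩ := Submodule.mem_span_singleton.1 hp
      have hwa : w a = 0 := by simp [w, coord_self hc]
      simp only [Pi.add_apply, add_mul, Finset.sum_add_distrib]
      rw [Finset.sum_eq_single a (fun j _ hj => by rw [Pi.smul_apply, Pi.single_eq_of_ne hj, smul_zero, zero_mul]) (by simp),
        hwa, mul_zero, zero_add]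
      have hcv := dot_eq_zero hc hE.sub hv
      have hev : ∑ j, e j * v j = 0 := by
        clear hu hp
        induction hv using Submodule.span_induction with
        | mem u hu =>
          obtain ⟨F, hF, rfl⟩ := hu
          exact hlinear b a z x₀ hzb hxa e c hzc hx₀ he hc F hF
        | zero => simp
        | add u u' hu hu' ih ih' => simp [mul_add, Finset.sum_add_distrib, ih (dot_eq_zero hc hE.sub hu),
            ih' (dot_eq_zero hc hE.sub hu')]
        | smul t u hu ih =>
          simp only [Pi.smul_apply, smul_eq_mul]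
          rw [Finset.sum_congr rfl fun j _ => mul_left_comm (e j) t (u j), ← Finset.mul_sum,
            ih (dot_eq_zero hc hE.sub hu), mul_zero]
      calc ∑ j, v j * w j = ∑ j, e j * v j - e a * ∑ j, c j * v j := by
            rw [Finset.mul_sum, ← Finset.sum_sub_distrib]
            exact Finset.sum_congr rfl fun j _ => by simp only [w, Pi.sub_apply, Pi.smul_apply, smul_eq_mul]; ring
        _ = 0 := by rw [hev, hcv, mul_zero, sub_zero]
    · rw [h2, ← h3]
      refine mem_jetKer_of_dot P hc fun z' => ?_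
      have horth : ∀ u ∈ jetKer i a x₀ hxa c, ∑ j, u j * wOf P z' j = 0 := fun u hu => dot_wOf P hc hu z'
      have key : ∀ F ∈ S, grad e F ∈ jetKer i a x₀ hxa c := by
        intro F hF
        let Λ : LefPen.Form r k 1 := ⟨∑ j, C (grad e F j) * MvPolynomial.X j, (mem_homogeneousSubmodule 1 _).2
          (IsHomogeneous.sum _ _ _ fun j _ => isHomogeneous_C_mul_X _ _)⟩
        have hev : ∀ p : Fin (r + 1) → k, eval p Λ.1 = ∑ j, p j * grad e F j := fun p => by
          simp only [Λ, map_sum, map_mul, eval_C, eval_X]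
          exact Finset.sum_congr rfl fun j _ => mul_comm _ _
        have hgr : grad c Λ.1 = grad e F := by
          funext l
          rw [grad_apply, map_sum, map_sum, Finset.sum_eq_single l]
          · simp [grad_apply]
          · intro j _ hj; simp [pderiv_X_of_ne hj]
          · simp
        have hvan : Λ.1 ∈ Van i := van_of_forall_eval ((mem_homogeneousSubmodule 1 _).1 Λ.2)
          fun b₁ z₁ h₁ e₁ hz₁ he₁ => (hev e₁).trans (hlinear b₁ b z₁ z h₁ hzb e₁ e hz₁ hzc he₁ he F hF)
        have h4 := ((σ_form_mem_sq_iff hc hE.sub hE.gen Λ).1 (by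
          rw [σ_eq_zero_of_van hvan a x₀ hxa]; exact zero_mem _)).2
        rw [hgr] at h4
        rw [jetKer_eq hc hE.sub hE.gen]
        exact Submodule.mem_sup_right h4
      refine horth _ ((Submodule.span_le.2 ?_) hge)
      rintro _ ⟨F, hF, rfl⟩
      exact key F hF
  have hee : e = e a • c := sub_eq_zero.1 hw
  have hea : e a ≠ 0 := fun h0 => by
    rw [h0, zero_smul] at hee
    exact one_ne_zero ((coord_self he).symm.trans (congrFun hee b))
  have hza := mem_chart_of_coord he hea
  obtain ⟨e', he'a⟩ := exists_coords i a z hza hzc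
  have hca : IsCoord i a z hza e' := he'a
  have h := coord_change hca he
  have h5 : e' = c := (smul_right_injective _ hea (hee.symm.trans h)).symm
  exact eq_of_coord (h5 ▸ hca) hc

/-- There is a form of every degree at least two with exactly one ordinary quadratic point. -/
theorem exists_oneOrdQuad (hE : Eqns i S m n) (hn : 1 ≤ n) (hd : 2 ≤ d) :
    ∃ H : LefPen.Form r k d, LefPen.OneOrdQuad k n i H := by
  classical
  haveI : JacobsonSpace X := LocallyOfFiniteType.jacobsonSpace (i ≫ CohB1.ProjSpace.toSpec r k)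
  haveI : Smooth (i ≫ CohB1.ProjSpace.toSpec r k) := SmoothOfRelativeDimension.smooth n _
  haveI : Infinite k := IsAlgClosed.instInfinite
  obtain ⟨a, x₀, hxa, c, hx₀, hc, hgood⟩ : ∃ (a : Fin (r + 1)) (x₀ : X) (hxa : i x₀ ∈ LefPen.chart r k a)
      (c : Fin (r + 1) → k), IsClosed ({x₀} : Set X) ∧ IsCoord i a x₀ hxa c ∧ (Escape i S c d ∨ (d = 2 ∧
        ∀ (b₁ b₂ : Fin (r + 1)) (z₁ z₂ : X) (h₁ : i z₁ ∈ LefPen.chart r k b₁) (h₂ : i z₂ ∈ LefPen.chart r k b₂)
          (e₁ e₂ : Fin (r + 1) → k), IsClosed ({z₁} : Set X) → IsClosed ({z₂} : Set X) → IsCoord i b₁ z₁ h₁ e₁ →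
            IsCoord i b₂ z₂ h₂ e₂ → ∀ F ∈ S, ∑ j, e₁ j * grad e₂ F j = 0)) := by
    by_cases hex : ∃ (a : Fin (r + 1)) (x₀ : X) (hxa : i x₀ ∈ LefPen.chart r k a) (c : Fin (r + 1) → k),
        IsClosed ({x₀} : Set X) ∧ IsCoord i a x₀ hxa c ∧ Escape i S c d
    · obtain ⟨a, x₀, hxa, c, h1, h2, h3⟩ := hex
      exact ⟨a, x₀, hxa, c, h1, h2, Or.inl h3⟩
    · obtain ⟨x, -, hx⟩ := nonempty_inter_closedPoints (X := X) (Z := Set.univ) Set.univ_nonempty
        isOpen_univ.isLocallyClosed
      obtain ⟨a, hxa⟩ : ∃ a, i x ∈ LefPen.chart r k a := Groth.L21.PlaneCurve.exists_mem_chart _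
      obtain ⟨c, hc⟩ := exists_coords i a x hxa hx
      refine ⟨a, x, hxa, c, hx, hc, Or.inr ⟨?_, fun b₁ b₂ z₁ z₂ h₁ h₂ e₁ e₂ hz₁ hz₂ he₁ he₂ F hF => ?_⟩⟩
      · by_contra hd2
        exact hex ⟨a, x, hxa, c, hx, hc, Or.inl (by omega)⟩
      · by_contra hne
        exact hex ⟨b₁, z₁, h₁, e₁, hz₁, he₁, Or.inr ⟨b₂, z₂, h₂, e₂, he₂, F, hF, hne⟩⟩
  haveI : IsRegularLocalRing (X.presheaf.stalk x₀) :=
    Groth.L08.Cube.isRegularLocalRing_of_smooth (i ≫ CohB1.ProjSpace.toSpec r k) x₀
  obtain ⟨n', rfl⟩ : ∃ n', n = n' + 1 := ⟨n - 1, by omega⟩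
  obtain ⟨sel, ⟨P⟩⟩ := exists_param_coord (n := n' + 1) hc hx₀
  obtain ⟨f₁, hf₁, ⟨H₁, hH₁, hf₁0⟩, hf₁'⟩ := exists_ordQuad_poly hd hc P
  have hfin : ∀ H ∈ vertexForms c d, QuadOrd (quadPart (P.ν (σ i a x₀ hxa H.1))) →
      (∀ (b : Fin (r + 1)) (z : X) (hzb : i z ∈ LefPen.chart r k b), IsClosed ({z} : Set X) →
        σ i b z hzb H.1 ∈ maximalIdeal (X.presheaf.stalk z) ^ 2 → z = x₀) → LefPen.OneOrdQuad k (n' + 1) i H := by
    intro H hH hord huniq
    obtain ⟨hHc, hgc⟩ := mem_vertexForms.1 hH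
    have hsq : σ i a x₀ hxa H.1 ∈ maximalIdeal (X.presheaf.stalk x₀) ^ 2 := by
      rw [σ_form_mem_sq_iff hc hE.sub hE.gen, hgc]
      exact ⟨hHc, zero_mem _⟩
    have hne : σ i a x₀ hxa H.1 ≠ 0 := fun h0 => by
      rw [h0, map_zero] at hord
      have hz : ∀ p q, quadPart (0 : MvPowerSeries (Fin (n' + 1)) k) p q = 0 := fun p q => by simp [quadPart]
      have h2 := hord (Pi.single 0 1) (by simp [quadEval, hz]) (funext fun p => by
        simp [Matrix.mulVec, dotProduct, polarMatrix, hz])
      simpa using congrFun h2 0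
    obtain ⟨y, hy⟩ := exists_mem_secι i a x₀ hxa H (Ideal.pow_le_self two_ne_zero hsq)
    subst hy
    exact oneOrdQuad_of_unique hn y ((ordQuad_iff H P hx₀ hsq y rfl).2 hord) hxa hsq hne huniq
  rcases hgood with hesc | ⟨rfl, hlinear⟩
  · obtain ⟨f₂, hf₂, hf₂0, hf₂'⟩ := exists_smooth_off hE hn hd hc hesc hx₀
    obtain ⟨H, hH, hne⟩ := exists_mem_mul_ne_zero hf₁ hf₂ (vertexForms c d) ⟨H₁, hH₁, hf₁0⟩ hf₂0
    exact ⟨H, hfin H hH (hf₁' H (left_ne_zero_of_mul hne)) (hf₂' H hH (right_ne_zero_of_mul hne))⟩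
  · exact ⟨H₁, hfin H₁ hH₁ (hf₁' H₁ hf₁0) fun b z hzb hzc hz =>
      unique_linear hE hc hx₀ P hlinear hH₁ (hf₁' H₁ hf₁0) hzc hz⟩

end Groth.L05.Pencil
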