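import Groth.Agent.L05.Pencil.Main
import Groth.Agent.L05.Pencil.Exists
import Groth.Agent.L05.Pencil.Proj
import Groth.Agent.L05.Pencil.Base

/-! Lefschetz pencils through a transversal form. -/

set_option autoImplicit false
set_option linter.style.haveILetI false
set_option backward.isDefEq.respectTransparency false
set_option backward.isDefEq.respectTransparency.types false
set_option maxHeartbeats 1000000

universe u

open CategoryTheory CategoryTheory.Limits AlgebraicGeometry TopologicalSpace MvPolynomial IsLocalRing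

noncomputable section

namespace Groth.L05.Pencil

open Groth.L05.OrdQuad (σ exists_coords)
open Groth.L05.DualVar

section

variable {k : Type u} [Field k] [Infinite k] {V : Type u} [AddCommGroup V] [Module k V]

theorem isGeneric_inter {A B : Set V} (hA : LefPen.IsGeneric k A) (hB : LefPen.IsGeneric k B) :
    LefPen.IsGeneric k (A ∩ B) := by
  obtain ⟨f, hf, ⟨v, hv⟩, hfA⟩ := hA
  obtain ⟨g, hg, ⟨w, hw⟩, hgB⟩ := hB
  obtain ⟨u, -, hu⟩ := exists_mem_mul_ne_zero hf hg ⊤ ⟨v, trivial, hv⟩ ⟨w, trivial, hw⟩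
  exact ⟨_, isPolyFun_mul hf hg, ⟨u, hu⟩, fun z hz => ⟨hfA z (left_ne_zero_of_mul hz), hgB z (right_ne_zero_of_mul hz)⟩⟩

omit [Infinite k] in
theorem isGeneric_independent [Module.Finite k V] {H₀ : V} (hH₀ : H₀ ≠ 0) (hdim : 2 ≤ Module.finrank k V) :
    LefPen.IsGeneric k {G : V | LinearIndependent k ![H₀, G]} := by
  obtain ⟨M, z, hM, hzH, -, hsurj⟩ := Proj.exists_invariants (Module.finBasis k V) H₀ hH₀
  have hM1 : 0 < M := by omega
  obtain ⟨v, hv⟩ := hsurj fun _ => 1
  refine ⟨fun G => z ⟨0, hM1⟩ G, isPolyFun_linear (z ⟨0, hM1⟩), ⟨v, by show z ⟨0, hM1⟩ v ≠ 0; rw [hv]; exact one_ne_zero⟩, fun G hG => ?_⟩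
  refine (LinearIndependent.pair_iff).2 fun s t hst => ?_
  have h := congrArg (z ⟨0, hM1⟩) hst
  rw [map_add, map_smul, map_smul, hzH, smul_zero, zero_add, map_zero, smul_eq_mul, mul_eq_zero] at h
  have ht : t = 0 := h.resolve_right hG
  rw [ht, zero_smul, add_zero] at hst
  exact ⟨(smul_eq_zero.1 hst).resolve_right hH₀, ht⟩

end

variable {k : Type u} [Field k] [IsAlgClosed k] {r : ℕ} {X : Scheme.{u}} {i : X ⟶ CohB1.ProjSpace r k}
  [IsClosedImmersion i] [IrreducibleSpace X]
  {S : Finset (MvPolynomial (Fin (r + 1)) k)} {m n d : ℕ}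
  [SmoothOfRelativeDimension n (i ≫ CohB1.ProjSpace.toSpec r k)] [IsReduced X] [IsLocallyNoetherian X]

omit [IsReduced X] [IsLocallyNoetherian X] in
theorem not_transversal_zero (hn : 1 ≤ n) :
    ¬ LefPen.Transversal k n 1 (LefPen.secToSpec i ({0} : Set (LefPen.Form r k d))) := by
  haveI : JacobsonSpace X := LocallyOfFiniteType.jacobsonSpace (i ≫ CohB1.ProjSpace.toSpec r k)
  obtain ⟨x, -, hx⟩ := nonempty_inter_closedPoints (X := X) (Z := Set.univ) Set.univ_nonempty
    isOpen_univ.isLocallyClosed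
  obtain ⟨a, hxa⟩ : ∃ a, i x ∈ LefPen.chart r k a := Groth.L21.PlaneCurve.exists_mem_chart _
  intro h
  refine (transversal_iff i n hn 0).1 h a x hxa hx ?_
  rw [Submodule.coe_zero, map_zero]
  exact zero_mem _

omit [IsReduced X] [IsLocallyNoetherian X] in
theorem ne_zero_of_transversal (hn : 1 ≤ n) {H₀ : LefPen.Form r k d}
    (hH₀ : LefPen.Transversal k n 1 (LefPen.secToSpec i ({H₀} : Set (LefPen.Form r k d)))) : H₀ ≠ 0 :=
  fun h => not_transversal_zero hn (h ▸ hH₀)

/-- A pencil through a transversal form. -/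
theorem isGeneric_pencils (hE : Eqns i S m n) (hn : 1 ≤ n) (hd : 1 ≤ d)
    (hdim : 2 ≤ Module.finrank k (LefPen.Form r k d)) {H₀ : LefPen.Form r k d}
    (hH₀ : LefPen.Transversal k n 1 (LefPen.secToSpec i ({H₀} : Set (LefPen.Form r k d))))
    (hline : LefPen.IsGeneric k {G : LefPen.Form r k d | ∀ a : k, Good i n (G + a • H₀)}) :
    LefPen.IsGeneric k {G : LefPen.Form r k d | LefPen.IsLefschetzPencil k n i d H₀ G} := by
  haveI : Infinite k := IsAlgClosed.instInfinite
  haveI : Module.Finite k (LefPen.Form r k d) := finite_Form d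
  obtain ⟨f, hf, hf0, hfG⟩ := isGeneric_inter (isGeneric_inter
    (isGeneric_independent (ne_zero_of_transversal hn hH₀) hdim) (isGeneric_transversal2 i n hn d hd H₀ hH₀)) hline
  obtain ⟨g, hg, hg0, hgT⟩ := isZOpen_transversal hE hn H₀ hH₀
  refine ⟨f, hf, hf0, fun G hG => ?_⟩
  obtain ⟨⟨hLI, hbase⟩, hmem⟩ := hfG G hG
  refine ⟨hLI, hbase, finite_of_poly hg hgT (c₁ := 0) (by rwa [zero_smul, add_zero]), fun H hH => (good_iff i n H).2 ?_⟩
  rcases hH with rfl | ⟨c, rfl⟩
  · have := hmem 0
    rwa [zero_smul, add_zero] at this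
  · by_cases hc : c = 0
    · show Good i n (H₀ + c • G)
      rw [hc, zero_smul, add_zero]
      exact Or.inl hH₀
    · have h := (good_smul i n hc (G + c⁻¹ • H₀)).2 (hmem c⁻¹)
      rw [smul_add, smul_smul, mul_inv_cancel₀ hc, one_smul, add_comm] at h
      exact h

/-- With a one-node form the lines through a transversal form are generally good. -/
theorem isGeneric_line_of_oneOrdQuad (hE : Eqns i S m n) (hn : 1 ≤ n) (hd : 1 ≤ d) {H₀ H₁ : LefPen.Form r k d}
    (hH₀ : LefPen.Transversal k n 1 (LefPen.secToSpec i ({H₀} : Set (LefPen.Form r k d))))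
    (hH₁ : LefPen.OneOrdQuad k n i H₁) :
    LefPen.IsGeneric k {G : LefPen.Form r k d | ∀ a : k, Good i n (G + a • H₀)} := by
  haveI : Module.Finite k (LefPen.Form r k d) := finite_Form d
  obtain ⟨h, hh, hh0, hhT⟩ := isZOpen_transversal hE hn H₀ hH₀
  obtain ⟨f, hf, hf0, hfG⟩ := isZOpen_good hE hn H₁ (Or.inr hH₁)
  have hN : ¬ LefPen.Transversal k n 1 (LefPen.secToSpec i ({H₁} : Set (LefPen.Form r k d))) := by
    obtain ⟨y, -, hxc, hsq, -⟩ := Groth.L05.Nd.unique_of_oneOrdQuad hH₁
    obtain ⟨a, hxa⟩ : ∃ a, i (LefPen.secι i ({H₁} : Set (LefPen.Form r k d)) y) ∈ LefPen.chart r k a :=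
      Groth.L21.PlaneCurve.exists_mem_chart _
    exact fun h => (transversal_iff i n hn H₁).1 h a _ hxa hxc (hsq a hxa)
  obtain ⟨g, hg, hg0, hgG⟩ := Proj.exists_avoid_irreducible (Module.finBasis k (LefPen.Form r k d))
    (D := {H | ¬ LefPen.Transversal k n 1 (LefPen.secToSpec i ({H} : Set (LefPen.Form r k d)))})
    (fun t ht b hb hT => hb ((transversal_smul i ht b).1 hT))
    (fun f g hf hg hfg => tangent_irreducible hE hn hd hf hg hfg) (not_transversal_zero hn)
    hh hh0 (fun b hb => by_contra fun hne => hb (hhT b hne)) hf ⟨H₁, hN, hf0⟩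
  refine ⟨g, hg, hg0, fun G hG a => ?_⟩
  by_cases hT : LefPen.Transversal k n 1 (LefPen.secToSpec i ({G + a • H₀} : Set (LefPen.Form r k d)))
  · exact Or.inl hT
  · exact hfG _ (hgG G hG a hT)

/-- With one good pencil the lines through a transversal form are generally good. -/
theorem isGeneric_line_of_pencil (hE : Eqns i S m n) (hn : 1 ≤ n) {H₀ F G : LefPen.Form r k d}
    (hH₀ : LefPen.Transversal k n 1 (LefPen.secToSpec i ({H₀} : Set (LefPen.Form r k d))))
    (hP : LefPen.IsLefschetzPencil k n i d F G) :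
    LefPen.IsGeneric k {G : LefPen.Form r k d | ∀ a : k, Good i n (G + a • H₀)} := by
  haveI : Module.Finite k (LefPen.Form r k d) := finite_Form d
  obtain ⟨g, hg, hg0, hgG⟩ := Proj.exists_avoid_plane (Module.finBasis k (LefPen.Form r k d))
    (B := {H | ¬ Good i n H}) (fun t ht b hb hG => hb ((good_smul i n ht b).1 hG)) hP.1
    (fun s t hst => by
      by_contra hne
      have hgood : Good i n (s • F + t • G) := by
        by_cases hs : s = 0
        · have ht : t ≠ 0 := fun ht => hne ⟨hs, ht⟩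
          rw [hs, zero_smul, zero_add, good_smul i n ht]
          exact (good_iff i n G).1 (hP.2.2.2 G (Or.inl rfl))
        · rw [show t = s * (s⁻¹ * t) by field_simp, mul_smul, ← smul_add, good_smul i n hs]
          exact (good_iff i n _).1 (hP.2.2.2 _ (Or.inr ⟨_, rfl⟩))
      obtain ⟨f, hf, hf0, hfG⟩ := isZOpen_good hE hn _ hgood
      exact hf0 (hst f hf fun b hb => by_contra fun h => hb (hfG b h)))
    (ne_zero_of_transversal hn hH₀)
  exact ⟨g, hg, hg0, fun v hv a => by_contra fun h => hgG v hv a h⟩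

omit [IsClosedImmersion i] [IrreducibleSpace X] [IsReduced X] [IsLocallyNoetherian X]
  [SmoothOfRelativeDimension n (i ≫ CohB1.ProjSpace.toSpec r k)] in
theorem two_le_finrank (hE : Eqns i S m n) (hn : 1 ≤ n) (hd : 1 ≤ d) : 2 ≤ Module.finrank k (LefPen.Form r k d) := by
  haveI : Module.Finite k (LefPen.Form r k d) := finite_Form d
  have hr : 1 ≤ r := by have := hE.dim; omega
  let b : Fin 2 → Fin (r + 1) := fun j => ⟨j.1, by omega⟩
  let F : Fin 2 → LefPen.Form r k d := fun j => ⟨MvPolynomial.X (b j) ^ d, (mem_homogeneousSubmodule d _).2 (by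
    have h := (isHomogeneous_X k (b j)).pow d
    rwa [one_mul] at h)⟩
  have hli : LinearIndependent k F := by
    refine Fintype.linearIndependent_iff.2 fun g hg l => ?_
    have h := congrArg (fun H : LefPen.Form r k d => coeff (Finsupp.single (b l) d) H.1) hg
    simp only [Submodule.coe_sum, Submodule.coe_smul, coeff_sum, coeff_smul, F, Submodule.coe_zero, coeff_zero,
      smul_eq_mul, X_pow_eq_monomial, coeff_monomial] at h
    rw [Finset.sum_eq_single l (fun j _ hj => ?_) (by simp), if_pos rfl, mul_one] at h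
    · exact h
    · rw [if_neg, mul_zero]
      intro he
      have := (Finsupp.single_eq_single_iff (b j) (b l) d d).1 he
      rcases this with ⟨h1, -⟩ | ⟨h1, -⟩
      · exact hj (Fin.ext (by simpa [b] using congrArg Fin.val h1))
      · omega
  simpa using hli.fintype_card_le_finrank

end Groth.L05.Pencil
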