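import Groth.Agent.L05.Pencil.TanSys
import Groth.Agent.L05.DualVar.Main

/-! A general form with a vertex at a point of `X` cuts `X` smoothly away from that point. -/

set_option autoImplicit false
set_option linter.style.haveILetI false
set_option backward.isDefEq.respectTransparency false
set_option backward.isDefEq.respectTransparency.types false
set_option maxHeartbeats 1000000

universe u

open CategoryTheory CategoryTheory.Limits AlgebraicGeometry TopologicalSpace MvPolynomial IsLocalRing Opposite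

noncomputable section

namespace Groth.L05.Pencil

open Groth.L18.CIProj (deh deh_surjective)
open Groth.L05.OrdQuad (σ σ_X_self deh_C exists_coords)
open Groth.L05.HypBertini (res)
open Groth.L05.DualVar
open Groth.L05.Nd (mem_chart_of_coord eq_of_coord coord_change)
open Groth.L22.SchemeDim (sectHom)

variable {k : Type u} [Field k] [IsAlgClosed k] {r : ℕ} {X : Scheme.{u}} {i : X ⟶ CohB1.ProjSpace r k}
  [IsClosedImmersion i] [IrreducibleSpace X] [IsReduced X] [IsLocallyNoetherian X]
  {S : Finset (MvPolynomial (Fin (r + 1)) k)} {m n d : ℕ}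
  [SmoothOfRelativeDimension n (i ≫ CohB1.ProjSpace.toSpec r k)]

/-- The point `c` is off some embedded tangent space (or the degree is at least three). -/
def Escape (i : X ⟶ CohB1.ProjSpace r k) (S : Finset (MvPolynomial (Fin (r + 1)) k)) (c : Fin (r + 1) → k) (d : ℕ) : Prop :=
  3 ≤ d ∨ ∃ (b : Fin (r + 1)) (z : X) (hzb : i z ∈ LefPen.chart r k b) (e : Fin (r + 1) → k),
    IsCoord i b z hzb e ∧ ∃ F ∈ S, ∑ j, c j * grad e F j ≠ 0

/-- On one chart. -/
theorem exists_avoid_chart (hE : Eqns i S m n) (hn : 1 ≤ n) (hd : 2 ≤ d) {a : Fin (r + 1)} {x₀ : X}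
    {hxa : i x₀ ∈ LefPen.chart r k a} {c : Fin (r + 1) → k} (hc : IsCoord i a x₀ hxa c)
    (hesc : Escape i S c d) (y : X) (hy : y ≠ x₀) (hx₀ : IsClosed ({x₀} : Set X))
    {N : ℕ} (bs : Module.Basis (Fin N) k ↥(vertexForms c d)) :
    ∃ (D : X.Opens) (P : MvPolynomial (Fin N) k), y ∈ D ∧ P ≠ 0 ∧ ∀ H : ↥(vertexForms c d),
      eval (fun j => bs.repr H j) P ≠ 0 → ∀ (b : Fin (r + 1)) (z : X) (hzb : i z ∈ LefPen.chart r k b),
        IsClosed ({z} : Set X) → z ∈ D → σ i b z hzb H.1.1 ∉ maximalIdeal (X.presheaf.stalk z) ^ 2 := by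
  classical
  haveI : JacobsonSpace X := LocallyOfFiniteType.jacobsonSpace (i ≫ CohB1.ProjSpace.toSpec r k)
  letI : X.Over (Spec (CommRingCat.of k)) := ⟨i ≫ CohB1.ProjSpace.toSpec r k⟩
  obtain ⟨b, hyb⟩ : ∃ b, i y ∈ LefPen.chart r k b := Groth.L21.PlaneCurve.exists_mem_chart _
  have hW := Groth.L05.OrdQuad.isAffineOpen_preimage_chart i b
  obtain ⟨U, hU, V, hV, hyV, e₀, hsm⟩ :=
    SmoothOfRelativeDimension.exists_isStandardSmoothOfRelativeDimension (n := n)
      (f := i ≫ CohB1.ProjSpace.toSpec r k) y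
  obtain rfl : U = ⊤ := by
    ext w
    simp only [Opens.coe_top, Set.mem_univ, iff_true]
    have h : (i ≫ CohB1.ProjSpace.toSpec r k) y = w := Subsingleton.elim (α := PrimeSpectrum k) _ _
    rw [← h]
    exact e₀ hyV
  have hsmV : RingHom.IsStandardSmoothOfRelativeDimension n (sectHom k X V) :=
    RingHom.isStandardSmoothOfRelativeDimension_respectsIso.2 _
      (Scheme.ΓSpecIso (CommRingCat.of k)).symm.commRingCatIsoToRingEquiv hsm
  obtain ⟨g₀, hg₀le, hyg₀⟩ := hV.exists_basicOpen_le (V := V ⊓ ⟨({x₀} : Set X)ᶜ, hx₀.isOpen_compl⟩)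
    ⟨y, hyV, hy⟩ hyV
  have hV₁ : IsAffineOpen (X.basicOpen g₀) := hV.basicOpen g₀
  obtain ⟨f, g, hfg, hyf⟩ := exists_basicOpen_le_affine_inter hW hV₁ y ⟨hyb, hyg₀⟩
  set D := X.basicOpen f with hDdef
  have hD : IsAffineOpen D := hW.basicOpen f
  have hDW : D ≤ i ⁻¹ᵁ LefPen.chart r k b := X.basicOpen_le f
  have hDx : ∀ z ∈ D, z ≠ x₀ := fun z hz => (hg₀le ((hfg.trans_le (X.basicOpen_le g)) hz)).2
  have hsmD : RingHom.IsStandardSmoothOfRelativeDimension n (sectHom k X D) := by
    have h := isStandardSmooth_basicOpen hV₁ g (isStandardSmooth_basicOpen hV g₀ hsmV)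
    rw [hfg]
    exact h
  letI algD : Algebra k Γ(X, D) := (sectHom k X D).toAlgebra
  haveI : Algebra.IsStandardSmoothOfRelativeDimension n k Γ(X, D) := hsmD
  haveI : Nonempty D := ⟨⟨y, hyf⟩⟩
  haveI : IsIntegral X := isIntegral_of_irreducibleSpace_of_isReduced X
  let ψ : MvPolynomial (Fin (r + 1)) k →ₐ[k] Γ(X, D) :=
    { res i b D hDW with
      commutes' := fun t => by
        show (i.appLE (LefPen.chart r k b) D hDW).hom (deh b (C t)) = sectHom k X D t
        rw [deh_C, ← CommRingCat.comp_apply, Scheme.Hom.map_appLE]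
        show (i.appLE ⊤ D le_top).hom _ = (X.presheaf.map (homOfLE le_top).op).hom _
        rw [Scheme.Hom.appLE, CommRingCat.comp_apply]
        rfl }
  have hψb : ψ (MvPolynomial.X b) = 1 := by
    show (i.appLE (LefPen.chart r k b) D hDW).hom (deh b (MvPolynomial.X b)) = 1
    rw [show deh (k := k) b (MvPolynomial.X b) = 1 by
      show (Proj.awayToSection _ _).hom (Groth.L16.ProjSpace.toAway r k b (Groth.L16.ProjSpace.dehom r k b (MvPolynomial.X b))) = 1
      rw [Groth.L16.ProjSpace.dehom_X_self, map_one, map_one], map_one]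
  have hfrac : ∀ w : Γ(X, D), ∃ p s, IsUnit (ψ s) ∧ w * ψ s = ψ p := by
    intro w
    letI : Algebra Γ(X, i ⁻¹ᵁ LefPen.chart r k b) Γ(X, D) := (X.presheaf.map (homOfLE hDW).op).hom.toAlgebra
    haveI : IsLocalization.Away f Γ(X, D) := hW.isLocalization_basicOpen f
    obtain ⟨⟨g', s'⟩, h⟩ := IsLocalization.surj (Submonoid.powers f) w
    have hsurj : Function.Surjective ((i.app (LefPen.chart r k b)).hom.comp (deh b)) :=
      (Groth.L07.RegImmComp.app_surjective i (LefPen.chart r k b) (Groth.L21.PlaneCurve.isAffineOpen_chart b)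
        (IsZariskiLocalAtTarget.restrict (P := @IsClosedImmersion) inferInstance _)).comp (deh_surjective b)
    obtain ⟨g₁, hg₁⟩ := hsurj g'
    obtain ⟨s₁, hs₁⟩ := hsurj s'.1
    have hψ : ∀ t, ψ t = algebraMap Γ(X, i ⁻¹ᵁ LefPen.chart r k b) Γ(X, D)
        ((i.app (LefPen.chart r k b)).hom (deh b t)) := fun t => by
      show (i.appLE (LefPen.chart r k b) D hDW).hom (deh b t) = _
      rw [Scheme.Hom.appLE, CommRingCat.comp_apply]
      rfl
    refine ⟨g₁, s₁, ?_, ?_⟩
    · rw [hψ, show (i.app (LefPen.chart r k b)).hom (deh b s₁) = s'.1 from hs₁]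
      exact IsLocalization.map_units _ s'
    · rw [hψ, hψ, show (i.app (LefPen.chart r k b)).hom (deh b s₁) = s'.1 from hs₁,
        show (i.app (LefPen.chart r k b)).hom (deh b g₁) = g' from hg₁]
      exact h
  have hgerm : ∀ (z : X) (hz : z ∈ D) (G : MvPolynomial (Fin (r + 1)) k),
      (X.presheaf.germ D z hz).hom (ψ G) = σ i b z (hDW hz) G := by
    intro z hz G
    show (X.presheaf.germ D z hz).hom ((i.appLE (LefPen.chart r k b) D hDW).hom (deh b G)) = _
    rw [Scheme.Hom.appLE, CommRingCat.comp_apply]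
    exact X.presheaf.germ_res_apply _ z hz _
  have hclosed : ∀ (q : PrimeSpectrum Γ(X, D)), q.asIdeal.IsMaximal → IsClosed ({hD.fromSpec q} : Set X) := by
    intro q hq
    have hq' : IsClosed ({q} : Set (PrimeSpectrum Γ(X, D))) := (PrimeSpectrum.isClosed_singleton_iff_isMaximal q).mpr hq
    refine isClosed_singleton_of_isLocallyClosed_singleton ?_
    simpa [Set.image_singleton] using
      hq'.isLocallyClosed.image hD.fromSpec.isOpenEmbedding.isEmbedding.isInducing
        hD.fromSpec.isOpenEmbedding.isOpen_range.isLocallyClosed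
  have hpoint : ∀ (q : Ideal Γ(X, D)), q.IsMaximal → ∃ (z : X) (hz : z ∈ D),
      IsClosed ({z} : Set X) ∧ (hD.primeIdealOf ⟨z, hz⟩).asIdeal = q := by
    intro q hq
    let qs : PrimeSpectrum Γ(X, D) := ⟨q, hq.isPrime⟩
    refine ⟨hD.fromSpec qs, hD.range_fromSpec.le ⟨qs, rfl⟩, hclosed qs hq, ?_⟩
    exact congrArg PrimeSpectrum.asIdeal (hD.fromSpec.isOpenEmbedding.injective (hD.fromSpec_primeIdealOf _))
  have hmem : ∀ (z : X) (hz : z ∈ D) (w : Γ(X, D)),
      (X.presheaf.germ D z hz).hom w ∈ maximalIdeal (X.presheaf.stalk z) ↔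
        w ∈ (hD.primeIdealOf ⟨z, hz⟩).asIdeal := by
    intro z hz w
    letI : Algebra Γ(X, D) (X.presheaf.stalk z) := (X.presheaf.germ D z hz).hom.toAlgebra
    haveI := hD.isLocalization_stalk ⟨z, hz⟩
    exact IsLocalization.AtPrime.to_map_mem_maximal_iff (X.presheaf.stalk z) (hD.primeIdealOf ⟨z, hz⟩).asIdeal w
  have hmax : ∀ (z : X) (hz : z ∈ D), IsClosed ({z} : Set X) → (hD.primeIdealOf ⟨z, hz⟩).asIdeal.IsMaximal := by
    intro z hz hzc
    refine (PrimeSpectrum.isClosed_singleton_iff_isMaximal _).1 ?_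
    rw [show ({hD.primeIdealOf ⟨z, hz⟩} : Set (PrimeSpectrum Γ(X, D))) = hD.fromSpec ⁻¹' {z} by
      ext w
      simp only [Set.mem_singleton_iff, Set.mem_preimage]
      constructor
      · rintro rfl; exact hD.fromSpec_primeIdealOf _
      · exact fun h => hD.fromSpec.isOpenEmbedding.injective (h.trans (hD.fromSpec_primeIdealOf ⟨z, hz⟩).symm)]
    exact hzc.preimage hD.fromSpec.continuous
  have hsq : ∀ (z : X) (hz : z ∈ D), IsClosed ({z} : Set X) → ∀ w : Γ(X, D),
      (X.presheaf.germ D z hz).hom w ∈ maximalIdeal (X.presheaf.stalk z) ^ 2 →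
        w ∈ (hD.primeIdealOf ⟨z, hz⟩).asIdeal ^ 2 := by
    intro z hz hzc w hw
    letI : Algebra Γ(X, D) (X.presheaf.stalk z) := (X.presheaf.germ D z hz).hom.toAlgebra
    haveI := hD.isLocalization_stalk ⟨z, hz⟩
    set q := (hD.primeIdealOf ⟨z, hz⟩).asIdeal
    haveI hq : q.IsMaximal := hmax z hz hzc
    have hw' : algebraMap Γ(X, D) (X.presheaf.stalk z) w ∈ (q ^ 2).map (algebraMap Γ(X, D) (X.presheaf.stalk z)) := by
      rw [Ideal.map_pow, IsLocalization.AtPrime.map_eq_maximalIdeal q (X.presheaf.stalk z)]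
      exact hw
    obtain ⟨⟨⟨u, hu⟩, s⟩, hus⟩ := (IsLocalization.mem_map_algebraMap_iff q.primeCompl (X.presheaf.stalk z)).1 hw'
    rw [← map_mul] at hus
    obtain ⟨t, ht⟩ := (IsLocalization.eq_iff_exists q.primeCompl (X.presheaf.stalk z)).1 hus
    obtain ⟨v, j, hj, hvj⟩ := hq.exists_inv ((q.primeCompl).mul_mem t.2 s.2 : (t : Γ(X, D)) * s ∈ q.primeCompl)
    have h1 : w * ((t : Γ(X, D)) * s) ∈ q ^ 2 := by
      rw [show w * ((t : Γ(X, D)) * s) = t * (w * s) by ring, ht]
      exact Ideal.mul_mem_left _ _ hu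
    have e : w = w * ((t : Γ(X, D)) * s) * (v * (1 + j)) + w * (j * j) := by linear_combination -(w * (1 + j)) * hvj
    rw [e, pow_two]
    exact add_mem (Ideal.mul_mem_right _ _ (pow_two q ▸ h1)) (Ideal.mul_mem_left _ _ (Ideal.mul_mem_mul hj hj))
  -- coordinates and jets at a maximal ideal
  have hdata : ∀ (q : Ideal Γ(X, D)), q.IsMaximal → ∃ (z : X) (hz : z ∈ D) (e : Fin (r + 1) → k),
      IsClosed ({z} : Set X) ∧ IsCoord i b z (hDW hz) e ∧ (hD.primeIdealOf ⟨z, hz⟩).asIdeal = q ∧
      (∀ s : k, e ≠ s • c) ∧ (∀ G : MvPolynomial (Fin (r + 1)) k, ψ G - algebraMap k Γ(X, D) (eval e G) ∈ q) ∧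
      ∀ l : Γ(X, D), ∃ L : MvPolynomial (Fin (r + 1)) k, L.IsHomogeneous 1 ∧ ψ L - l ∈ q ^ 2 := by
    intro q hq
    obtain ⟨z, hz, hzc, hzq⟩ := hpoint q hq
    obtain ⟨e, he'⟩ := exists_coords i b z (hDW hz) hzc
    have he : IsCoord i b z (hDW hz) e := he'
    have heq : ∀ G : MvPolynomial (Fin (r + 1)) k, ψ G - algebraMap k Γ(X, D) (eval e G) ∈ q := by
      intro G
      rw [← hzq, ← hmem, map_sub, ← ψ.commutes, MvPolynomial.algebraMap_eq, hgerm, hgerm, ← map_sub, σ_mem_iff he,
        map_sub, eval_C, sub_self]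
    refine ⟨z, hz, e, hzc, he, hzq, fun s hs => ?_, heq, fun l => ?_⟩
    · have hs0 : s ≠ 0 := by
        rintro rfl
        rw [zero_smul] at hs
        exact one_ne_zero ((coord_self he).symm.trans (congrFun hs b))
      have hea : e a ≠ 0 := by
        rw [hs, Pi.smul_apply, coord_self hc, smul_eq_mul, mul_one]; exact hs0
      have hza := mem_chart_of_coord he hea
      obtain ⟨e', he'a⟩ := exists_coords i a z hza hzc
      have hca : IsCoord i a z hza e' := he'a
      have h2 : e' = c := by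
        have h := coord_change hca he
        rw [hs, Pi.smul_apply, coord_self hc, smul_eq_mul, mul_one] at h
        exact (smul_right_injective _ hs0 h).symm
      exact hDx z hz (eq_of_coord (h2 ▸ hca) hc)
    · obtain ⟨t₀, ht₀⟩ : ∃ t₀ : k, l - algebraMap k Γ(X, D) t₀ ∈ q := by
        obtain ⟨p, s, hs, hps⟩ := hfrac l
        have hes : eval e s ≠ 0 := fun h0 => by
          have := heq s
          rw [h0, map_zero, sub_zero] at this
          exact hq.ne_top (Ideal.eq_top_of_isUnit_mem _ this hs)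
        refine ⟨eval e p / eval e s, ?_⟩
        refine (Ideal.mul_unit_mem_iff_mem q hs).1 ?_
        have h1 := sub_mem (heq p) (Ideal.mul_mem_left q (algebraMap k Γ(X, D) (eval e p / eval e s)) (heq s))
        convert h1 using 1
        rw [sub_mul, hps, mul_sub, ← map_mul, div_mul_cancel₀ _ hes]
        ring
      let J := Ideal.span (Set.range fun j => ψ (MvPolynomial.X j) - algebraMap k Γ(X, D) (e j))
      have heval : ∀ G : MvPolynomial (Fin (r + 1)) k, ψ G - algebraMap k Γ(X, D) (eval e G) ∈ J := by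
        intro G
        induction G using MvPolynomial.induction_on with
        | C t => simp [← MvPolynomial.algebraMap_eq]
        | add p p' hp hp' =>
          have := J.add_mem hp hp'
          convert this using 1
          simp only [map_add]
          ring
        | mul_X p j hp =>
          have h2 : ψ (MvPolynomial.X j) - algebraMap k Γ(X, D) (e j) ∈ J := Ideal.subset_span ⟨j, rfl⟩
          have := J.add_mem (J.mul_mem_right (ψ (MvPolynomial.X j)) hp)
            (J.mul_mem_left (algebraMap k Γ(X, D) (eval e p)) h2)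
          convert this using 1
          simp only [map_mul, eval_X]
          ring
      obtain ⟨p, s, hs, hps⟩ := hfrac (l - algebraMap k Γ(X, D) t₀)
      have hp0 : eval e p = 0 := by
        by_contra h0
        have h1 := q.sub_mem (hps ▸ Ideal.mul_mem_right (ψ s) q ht₀) (heq p)
        rw [sub_sub_cancel] at h1
        exact hq.ne_top (Ideal.eq_top_of_isUnit_mem _ h1 ((IsUnit.mk0 _ h0).map _))
      have h3 : l - algebraMap k Γ(X, D) t₀ ∈ J := by
        have h := heval p
        rw [hp0, map_zero, sub_zero, ← hps] at h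
        exact (Ideal.mul_unit_mem_iff_mem J hs).1 h
      obtain ⟨v, hv⟩ := Ideal.mem_span_range_iff_exists_fun.1 h3
      have hres : ∀ j, ∃ w : k, v j - algebraMap k Γ(X, D) w ∈ q := by
        intro j
        obtain ⟨p', s', hs', hps'⟩ := hfrac (v j)
        have hes : eval e s' ≠ 0 := fun h0 => by
          have := heq s'
          rw [h0, map_zero, sub_zero] at this
          exact hq.ne_top (Ideal.eq_top_of_isUnit_mem _ this hs')
        refine ⟨eval e p' / eval e s', (Ideal.mul_unit_mem_iff_mem q hs').1 ?_⟩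
        have h1 := sub_mem (heq p') (Ideal.mul_mem_left q (algebraMap k Γ(X, D) (eval e p' / eval e s')) (heq s'))
        convert h1 using 1
        rw [sub_mul, hps', mul_sub, ← map_mul, div_mul_cancel₀ _ hes]
        ring
      choose w hw using hres
      refine ⟨C t₀ * MvPolynomial.X b + ∑ j, C (w j) * (MvPolynomial.X j - C (e j) * MvPolynomial.X b),
        (isHomogeneous_C_mul_X _ _).add (IsHomogeneous.sum _ _ _ fun j _ =>
          IsHomogeneous.C_mul ((isHomogeneous_X k _).sub (isHomogeneous_C_mul_X _ _)) _), ?_⟩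
      have h4 : ψ (C t₀ * MvPolynomial.X b + ∑ j, C (w j) * (MvPolynomial.X j - C (e j) * MvPolynomial.X b)) - l =
          -∑ j, (v j - algebraMap k Γ(X, D) (w j)) * (ψ (MvPolynomial.X j) - algebraMap k Γ(X, D) (e j)) := by
        simp only [map_add, map_sum, map_mul, map_sub, hψb, mul_one, ← MvPolynomial.algebraMap_eq, AlgHom.commutes,
          sub_mul, Finset.sum_sub_distrib]
        linear_combination hv
      rw [h4]
      refine neg_mem (Submodule.sum_mem _ fun j _ => ?_)
      rw [pow_two]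
      exact Ideal.mul_mem_mul (hw j) (by simpa using heq (MvPolynomial.X j))
  let al : Fin N → Γ(X, D) := fun j => ψ (bs j).1.1
  have hsum : ∀ H : ↥(vertexForms c d), ∑ j, algebraMap k Γ(X, D) (bs.repr H j) * al j = ψ H.1.1 := by
    intro H
    conv_rhs => rw [← bs.sum_repr H]
    simp only [Submodule.coe_sum, Submodule.coe_smul, map_sum, map_mul, AlgHom.commutes, Algebra.smul_def, al]
  obtain ⟨P, hP0, hP⟩ := exists_poly_avoid n hn al (fun q hq => by
      obtain ⟨z, hz, e, -, -, -, hne, heq, hlin⟩ := hdata q hq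
      haveI := hq
      obtain ⟨l₁, hl₁⟩ := (jets_vertexForms ψ (coord_self hc) hne heq hlin hd).1
      refine ⟨l₁, fun l => ?_⟩
      obtain ⟨H, t, hH, hHl⟩ := hl₁ l
      exact ⟨fun j => bs.repr ⟨H, hH⟩ j, t, by rw [hsum ⟨H, hH⟩]; exact hHl⟩) (by
    haveI : Algebra.IsStandardSmooth k Γ(X, D) := Algebra.IsStandardSmoothOfRelativeDimension.isStandardSmooth n
    haveI : Algebra.FiniteType k Γ(X, D) := inferInstance
    haveI : IsJacobsonRing Γ(X, D) := isJacobsonRing_of_finiteType (A := k)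
    have hfin : ∀ q : Ideal Γ(X, D), q.IsMaximal → (3 ≤ d ∨ ∃ μ : MvPolynomial (Fin (r + 1)) k,
        μ.IsHomogeneous 1 ∧ eval c μ ≠ 0 ∧ ψ μ ∈ q ^ 2) →
        ∃ q : Ideal Γ(X, D), q.IsMaximal ∧
          ∀ l, ∃ cf : Fin N → k, (∑ j, algebraMap k Γ(X, D) (cf j) * al j) - l ∈ q ^ 2 := by
      intro q hq h
      obtain ⟨z, hz, e, -, -, -, hne, heq, hlin⟩ := hdata q hq
      haveI := hq
      refine ⟨q, hq, fun l => ?_⟩
      obtain ⟨H, hH, hHl⟩ := (jets_vertexForms ψ (coord_self hc) hne heq hlin hd).2 h l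
      exact ⟨fun j => bs.repr ⟨H, hH⟩ j, by rw [hsum ⟨H, hH⟩]; exact hHl⟩
    rcases hesc with h3 | ⟨b₁, z₁, hzb₁, e₁, he₁, F, hF, hdot⟩
    · obtain ⟨q, hq⟩ := Ideal.exists_maximal Γ(X, D)
      exact hfin q hq (Or.inl h3)
    · obtain ⟨eF, heF⟩ := (hE.sub hF).1
      let G : MvPolynomial (Fin (r + 1)) k := ∑ j, C (c j) * pderiv j F
      have hG : G.IsHomogeneous (eF - 1) := IsHomogeneous.sum _ _ _ fun j _ => IsHomogeneous.C_mul heF.pderiv _
      have hGe : ∀ e' : Fin (r + 1) → k, eval e' G = ∑ j, c j * grad e' F j := fun e' => by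
        simp [G, map_sum, grad_apply]
      have hG0 : ψ G ≠ 0 := fun h0 => by
        have h := van_of_σ_eq_zero hG b y (hDW hyf) (by rw [← hgerm y hyf, h0, map_zero])
        refine hdot ((hGe e₁).symm.trans ((σ_mem_iff he₁ G).1 ?_))
        rw [σ_eq_zero_of_van h b₁ z₁ hzb₁]
        exact zero_mem _
      obtain ⟨q, hq, hGq⟩ : ∃ q : Ideal Γ(X, D), q.IsMaximal ∧ ψ G ∉ q := by
        by_contra hall
        push Not at hall
        refine hG0 ?_
        have h : ψ G ∈ (⊥ : Ideal Γ(X, D)).jacobson := Ideal.mem_sInf.2 fun {q} hq => hall q hq.2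
        rwa [IsJacobsonRing.out inferInstance (Ideal.isPrime_bot.isRadical)] at h
      obtain ⟨z, hz, e, hzc, he, hzq, -, heq, -⟩ := hdata q hq
      have hdot' : ∑ j, c j * grad e F j ≠ 0 := fun h0 => hGq (by
        have := heq G
        rwa [hGe, h0, map_zero, sub_zero] at this)
      refine hfin q hq (Or.inr ⟨∑ j, C (grad e F j) * MvPolynomial.X j,
        IsHomogeneous.sum _ _ _ fun j _ => isHomogeneous_C_mul_X _ _, ?_, ?_⟩)
      · rw [map_sum]
        simp only [map_mul, eval_C, eval_X]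
        rwa [Finset.sum_congr rfl fun j _ => mul_comm (grad e F j) (c j)]
      · rw [← hzq]
        refine hsq z hz hzc _ ?_
        rw [hgerm, σ_mem_sq_iff he]
        have hgr : grad e (∑ j, C (grad e F j) * MvPolynomial.X j) = grad e F := by
          funext l
          rw [grad_apply, map_sum, map_sum, Finset.sum_eq_single l]
          · simp [grad_apply]
          · intro j _ hj; simp [pderiv_X_of_ne hj]
          · simp
        refine ⟨?_, ?_⟩
        · rw [map_sum]
          simp only [map_mul, eval_C, eval_X]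
          rw [Finset.sum_congr rfl fun j _ => mul_comm (grad e F j) (e j)]
          exact dot_eq_zero he hE.sub (Submodule.subset_span ⟨F, hF, rfl⟩)
        · rw [hgr, jetKer_eq he hE.sub hE.gen]
          exact Submodule.mem_sup_right (Submodule.subset_span ⟨F, hF, rfl⟩))
  refine ⟨D, P, hyf, hP0, fun H hH b' z hzb' hzc hzD hbad => ?_⟩
  have h1 := sq_mem_change ((mem_homogeneousSubmodule d _).1 H.1.2) b' b z hzb' (hDW hzD) hbad
  rw [← hgerm z hzD] at h1
  refine hP _ hH _ (hmax z hzD hzc) ?_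
  rw [hsum]
  exact hsq z hzD hzc _ h1

/-- A general form with vertex at `x₀` has no other tangency point. -/
theorem exists_smooth_off (hE : Eqns i S m n) (hn : 1 ≤ n) (hd : 2 ≤ d) {a : Fin (r + 1)} {x₀ : X}
    {hxa : i x₀ ∈ LefPen.chart r k a} {c : Fin (r + 1) → k} (hc : IsCoord i a x₀ hxa c)
    (hesc : Escape i S c d) (hx₀ : IsClosed ({x₀} : Set X)) :
    ∃ f : LefPen.Form r k d → k, LefPen.IsPolyFun k f ∧ (∃ H ∈ vertexForms c d, f H ≠ 0) ∧
      ∀ H ∈ vertexForms c d, f H ≠ 0 → ∀ (b : Fin (r + 1)) (z : X) (hzb : i z ∈ LefPen.chart r k b),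
        IsClosed ({z} : Set X) → σ i b z hzb H.1 ∈ maximalIdeal (X.presheaf.stalk z) ^ 2 → z = x₀ := by
  classical
  haveI : Infinite k := IsAlgClosed.instInfinite
  haveI : QuasiCompact (i ≫ CohB1.ProjSpace.toSpec r k) := inferInstance
  haveI : CompactSpace X := QuasiCompact.compactSpace_of_compactSpace (i ≫ CohB1.ProjSpace.toSpec r k)
  haveI : IsNoetherian X := {}
  haveI : Module.Finite k (LefPen.Form r k d) := finite_Form d
  haveI : Module.Free k ↥(vertexForms c d) := Module.Free.of_divisionRing k ↥(vertexForms c d)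
  let bs := Module.finBasis k ↥(vertexForms c d)
  choose! D P hD hP0 hP using fun y (hy : y ≠ x₀) => exists_avoid_chart hE hn hd hc hesc y hy hx₀ bs
  obtain ⟨T, hT⟩ := (NoetherianSpace.isCompact (({x₀} : Set X)ᶜ)).elim_finite_subcover
    (fun y : {y : X // y ≠ x₀} => ((D y.1 : X.Opens) : Set X)) (fun y => (D y.1).2)
    (fun y hy => Set.mem_iUnion.2 ⟨⟨y, hy⟩, hD y hy⟩)
  let Q := ∏ y ∈ T, P y.1
  have hQ : Q ≠ 0 := Finset.prod_ne_zero_iff.2 fun y _ => hP0 y.1 y.2
  obtain ⟨v, hv⟩ : ∃ v, eval v Q ≠ 0 := by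
    by_contra hall
    push Not at hall
    exact hQ (MvPolynomial.funext fun v => (hall v).trans (map_zero _).symm)
  choose l hl using fun j => LinearMap.exists_extend (bs.coord j)
  refine ⟨fun H => eval (fun j => l j H) Q, isPolyFun_eval_linear l Q, ?_, fun H hH hfH b z hzb hzc hbad => ?_⟩
  · refine ⟨(bs.equivFun.symm v).1, (bs.equivFun.symm v).2, ?_⟩
    have e : (fun j => l j (bs.equivFun.symm v).1) = v := funext fun j => by
      have := LinearMap.congr_fun (hl j) (bs.equivFun.symm v)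
      rw [LinearMap.comp_apply, Submodule.subtype_apply, Module.Basis.coord_apply] at this
      rw [this, ← bs.equivFun_apply, LinearEquiv.apply_symm_apply]
    show eval (fun j => l j (bs.equivFun.symm v).1) Q ≠ 0
    rw [e]
    exact hv
  · by_contra hzx
    obtain ⟨y, hyT, hzy⟩ := Set.mem_iUnion₂.1 (hT hzx)
    have e : (fun j => l j H) = fun j => bs.repr ⟨H, hH⟩ j := funext fun j => LinearMap.congr_fun (hl j) ⟨H, hH⟩
    simp only at hfH
    rw [e, map_prod, Finset.prod_ne_zero_iff] at hfH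
    exact hP y.1 y.2 ⟨H, hH⟩ (hfH y hyT) b z hzb hzc hzy hbad

end Groth.L05.Pencil
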