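import Groth.Agent.L05.Pencil.Char0Dom
import Groth.Agent.L05.Pencil.Char0Quad
import Groth.Agent.L05.Pencil.TanGen
import Groth.Agent.L05.Pencil.Lef

/-! In characteristic zero every embedding is a Lefschetz embedding. -/

set_option autoImplicit false
set_option linter.style.haveILetI false
set_option backward.isDefEq.respectTransparency false
set_option backward.isDefEq.respectTransparency.types false
set_option maxHeartbeats 1000000

universe u

open CategoryTheory CategoryTheory.Limits AlgebraicGeometry TopologicalSpace MvPolynomial IsLocalRing Opposite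

noncomputable section

namespace Groth.L05.Pencil

open Groth.L18.CIProj (deh deh_surjective)
open Groth.L05.OrdQuad (σ σ_X_self deh_C exists_coords exists_mem_secι)
open Groth.L05.HypBertini (res)
open Groth.L05.DualVar
open Groth.L05.Nd (coord_change exists_param_coord ordQuad_iff oneOrdQuad_of_unique Param)
open Groth.L22.SchemeDim (sectHom)

variable {k : Type u} [Field k] [IsAlgClosed k] [CharZero k] {r : ℕ} {X : Scheme.{u}} {i : X ⟶ CohB1.ProjSpace r k}
  [IsClosedImmersion i] [IrreducibleSpace X] [IsReduced X] [IsLocallyNoetherian X]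
  {S : Finset (MvPolynomial (Fin (r + 1)) k)} {m n d : ℕ}
  [SmoothOfRelativeDimension n (i ≫ CohB1.ProjSpace.toSpec r k)]

/-- What holds at all tangency points of a member over one chart. -/
theorem exists_chart_char0 (hn : 1 ≤ n) (hd : 1 ≤ d) (y : X) {N M' : ℕ} (hM : M' + 1 = N)
    (bs : Module.Basis (Fin N) k (LefPen.Form r k d)) (z : Fin M' → Module.Dual k (LefPen.Form r k d)) :
    ∃ (D : X.Opens) (g : MvPolynomial (Fin M') k), y ∈ D ∧ g ≠ 0 ∧ ∀ H : LefPen.Form r k d,
      eval (fun l => z l H) g ≠ 0 → ∀ (b' : Fin (r + 1)) (p : X) (hpb : i p ∈ LefPen.chart r k b'),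
        IsClosed ({p} : Set X) → p ∈ D → σ i b' p hpb H.1 ∈ maximalIdeal (X.presheaf.stalk p) ^ 2 →
          σ i b' p hpb H.1 ≠ 0 ∧
          (∀ yS : LefPen.Sec i ({H} : Set (LefPen.Form r k d)),
            LefPen.secι i ({H} : Set (LefPen.Form r k d)) yS = p →
              LefPen.IsOrdQuadSing k (n - 1) (LefPen.secToSpec i ({H} : Set (LefPen.Form r k d))) yS) ∧
          ∀ P : MvPolynomial (Fin N) k,
            (∀ H' : LefPen.Form r k d,
              ¬ LefPen.Transversal k n 1 (LefPen.secToSpec i ({H'} : Set (LefPen.Form r k d))) →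
                eval (bs.equivFun H') P = 0) →
            ∀ (e' : Fin (r + 1) → k), IsCoord i b' p hpb e' → ∀ G : LefPen.Form r k d, eval e' G.1 = 0 →
              ∑ j, bs.equivFun G j * eval (bs.equivFun H) (pderiv j P) = 0 := by
  classical
  obtain ⟨m', rfl⟩ : ∃ m', n = m' + 1 := ⟨n - 1, by omega⟩
  haveI : Smooth (i ≫ CohB1.ProjSpace.toSpec r k) := SmoothOfRelativeDimension.smooth (m' + 1) _
  haveI : JacobsonSpace X := LocallyOfFiniteType.jacobsonSpace (i ≫ CohB1.ProjSpace.toSpec r k)
  letI : X.Over (Spec (CommRingCat.of k)) := ⟨i ≫ CohB1.ProjSpace.toSpec r k⟩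
  obtain ⟨b, hyb⟩ : ∃ b, i y ∈ LefPen.chart r k b := Groth.L21.PlaneCurve.exists_mem_chart _
  have hW := Groth.L05.OrdQuad.isAffineOpen_preimage_chart i b
  obtain ⟨U, hU, V, hV, hyV, e₀, hsm⟩ :=
    SmoothOfRelativeDimension.exists_isStandardSmoothOfRelativeDimension (n := m' + 1)
      (f := i ≫ CohB1.ProjSpace.toSpec r k) y
  obtain rfl : U = ⊤ := by
    ext w
    simp only [Opens.coe_top, Set.mem_univ, iff_true]
    have h : (i ≫ CohB1.ProjSpace.toSpec r k) y = w := Subsingleton.elim (α := PrimeSpectrum k) _ _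
    rw [← h]
    exact e₀ hyV
  have hsmV : RingHom.IsStandardSmoothOfRelativeDimension (m' + 1) (sectHom k X V) :=
    RingHom.isStandardSmoothOfRelativeDimension_respectsIso.2 _
      (Scheme.ΓSpecIso (CommRingCat.of k)).symm.commRingCatIsoToRingEquiv hsm
  obtain ⟨f, g₁, hfg, hyf⟩ := exists_basicOpen_le_affine_inter hW hV y ⟨hyb, hyV⟩
  set D := X.basicOpen f with hDdef
  have hD : IsAffineOpen D := hW.basicOpen f
  have hDW : D ≤ i ⁻¹ᵁ LefPen.chart r k b := X.basicOpen_le f
  have hsmD : RingHom.IsStandardSmoothOfRelativeDimension (m' + 1) (sectHom k X D) := by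
    have h := isStandardSmooth_basicOpen hV g₁ hsmV
    rw [hfg]
    exact h
  letI algD : Algebra k Γ(X, D) := (sectHom k X D).toAlgebra
  haveI : Algebra.IsStandardSmoothOfRelativeDimension (m' + 1) k Γ(X, D) := hsmD
  haveI : Algebra.IsStandardSmooth k Γ(X, D) :=
    Algebra.IsStandardSmoothOfRelativeDimension.isStandardSmooth (m' + 1)
  haveI : Algebra.FiniteType k Γ(X, D) := inferInstance
  haveI : IsJacobsonRing Γ(X, D) := isJacobsonRing_of_finiteType (A := k)
  haveI : Nonempty D := ⟨⟨y, hyf⟩⟩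
  haveI : IsIntegral X := isIntegral_of_irreducibleSpace_of_isReduced X
  let ψ : MvPolynomial (Fin (r + 1)) k →ₐ[k] Γ(X, D) :=
    { res i b D hDW with
      commutes' := fun t => by
        show (i.appLE (LefPen.chart r k b) D hDW).hom (deh b (C t)) = sectHom k X D t
        rw [deh_C, ← CommRingCat.comp_apply, Scheme.Hom.map_appLE]
        show (i.appLE ⊤ D le_top).hom _ = (X.presheaf.map (homOfLE le_top).op).hom _
        rw [Scheme.Hom.appLE, CommRingCat.comp_apply]
        rfl }
  have hψb : ψ (MvPolynomial.X b) = 1 := by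
    show (i.appLE (LefPen.chart r k b) D hDW).hom (deh b (MvPolynomial.X b)) = 1
    rw [show deh (k := k) b (MvPolynomial.X b) = 1 by
      show (Proj.awayToSection _ _).hom (Groth.L16.ProjSpace.toAway r k b (Groth.L16.ProjSpace.dehom r k b (MvPolynomial.X b))) = 1
      rw [Groth.L16.ProjSpace.dehom_X_self, map_one, map_one], map_one]
  have hfrac : ∀ w : Γ(X, D), ∃ p s, IsUnit (ψ s) ∧ w * ψ s = ψ p := by
    intro w
    letI : Algebra Γ(X, i ⁻¹ᵁ LefPen.chart r k b) Γ(X, D) := (X.presheaf.map (homOfLE hDW).op).hom.toAlgebra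
    haveI : IsLocalization.Away f Γ(X, D) := hW.isLocalization_basicOpen f
    obtain ⟨⟨g', s'⟩, h⟩ := IsLocalization.surj (Submonoid.powers f) w
    have hsurj : Function.Surjective ((i.app (LefPen.chart r k b)).hom.comp (deh b)) :=
      (Groth.L07.RegImmComp.app_surjective i (LefPen.chart r k b) (Groth.L21.PlaneCurve.isAffineOpen_chart b)
        (IsZariskiLocalAtTarget.restrict (P := @IsClosedImmersion) inferInstance _)).comp (deh_surjective b)
    obtain ⟨g', hg₁⟩ := hsurj g'
    obtain ⟨s₁, hs₁⟩ := hsurj s'.1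
    have hψ : ∀ t, ψ t = algebraMap Γ(X, i ⁻¹ᵁ LefPen.chart r k b) Γ(X, D)
        ((i.app (LefPen.chart r k b)).hom (deh b t)) := fun t => by
      show (i.appLE (LefPen.chart r k b) D hDW).hom (deh b t) = _
      rw [Scheme.Hom.appLE, CommRingCat.comp_apply]
      rfl
    refine ⟨g', s₁, ?_, ?_⟩
    · rw [hψ, show (i.app (LefPen.chart r k b)).hom (deh b s₁) = s'.1 from hs₁]
      exact IsLocalization.map_units _ s'
    · rw [hψ, hψ, show (i.app (LefPen.chart r k b)).hom (deh b s₁) = s'.1 from hs₁,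
        show (i.app (LefPen.chart r k b)).hom (deh b g') = _ from hg₁]
      exact h
  have hgerm : ∀ (p : X) (hp : p ∈ D) (G : MvPolynomial (Fin (r + 1)) k),
      (X.presheaf.germ D p hp).hom (ψ G) = σ i b p (hDW hp) G := by
    intro p hp G
    show (X.presheaf.germ D p hp).hom ((i.appLE (LefPen.chart r k b) D hDW).hom (deh b G)) = _
    rw [Scheme.Hom.appLE, CommRingCat.comp_apply]
    exact X.presheaf.germ_res_apply _ p hp _
  have hmem : ∀ (p : X) (hp : p ∈ D) (w : Γ(X, D)),
      (X.presheaf.germ D p hp).hom w ∈ maximalIdeal (X.presheaf.stalk p) ↔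
        w ∈ (hD.primeIdealOf ⟨p, hp⟩).asIdeal := by
    intro p hp w
    letI : Algebra Γ(X, D) (X.presheaf.stalk p) := (X.presheaf.germ D p hp).hom.toAlgebra
    haveI := hD.isLocalization_stalk ⟨p, hp⟩
    exact IsLocalization.AtPrime.to_map_mem_maximal_iff (X.presheaf.stalk p) (hD.primeIdealOf ⟨p, hp⟩).asIdeal w
  have hmax : ∀ (p : X) (hp : p ∈ D), IsClosed ({p} : Set X) → (hD.primeIdealOf ⟨p, hp⟩).asIdeal.IsMaximal := by
    intro p hp hpc
    refine (PrimeSpectrum.isClosed_singleton_iff_isMaximal _).1 ?_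
    rw [show ({hD.primeIdealOf ⟨p, hp⟩} : Set (PrimeSpectrum Γ(X, D))) = hD.fromSpec ⁻¹' {p} by
      ext w
      simp only [Set.mem_singleton_iff, Set.mem_preimage]
      constructor
      · rintro rfl; exact hD.fromSpec_primeIdealOf _
      · exact fun h => hD.fromSpec.isOpenEmbedding.injective (h.trans (hD.fromSpec_primeIdealOf ⟨p, hp⟩).symm)]
    exact hpc.preimage hD.fromSpec.continuous
  have hpoint : ∀ (q : Ideal Γ(X, D)), q.IsMaximal → ∃ (p : X) (hp : p ∈ D),
      IsClosed ({p} : Set X) ∧ (hD.primeIdealOf ⟨p, hp⟩).asIdeal = q := by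
    intro q hq
    let qs : PrimeSpectrum Γ(X, D) := ⟨q, hq.isPrime⟩
    refine ⟨hD.fromSpec qs, hD.range_fromSpec.le ⟨qs, rfl⟩, ?_,
      congrArg PrimeSpectrum.asIdeal (hD.fromSpec.isOpenEmbedding.injective (hD.fromSpec_primeIdealOf _))⟩
    have hq' : IsClosed ({qs} : Set (PrimeSpectrum Γ(X, D))) := (PrimeSpectrum.isClosed_singleton_iff_isMaximal qs).mpr hq
    refine isClosed_singleton_of_isLocallyClosed_singleton ?_
    simpa [Set.image_singleton] using
      hq'.isLocallyClosed.image hD.fromSpec.isOpenEmbedding.isEmbedding.isInducing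
        hD.fromSpec.isOpenEmbedding.isOpen_range.isLocallyClosed
  have hsq : ∀ (p : X) (hp : p ∈ D), IsClosed ({p} : Set X) → ∀ w : Γ(X, D),
      (X.presheaf.germ D p hp).hom w ∈ maximalIdeal (X.presheaf.stalk p) ^ 2 →
        w ∈ (hD.primeIdealOf ⟨p, hp⟩).asIdeal ^ 2 := by
    intro p hp hpc w hw
    letI : Algebra Γ(X, D) (X.presheaf.stalk p) := (X.presheaf.germ D p hp).hom.toAlgebra
    haveI := hD.isLocalization_stalk ⟨p, hp⟩
    set q := (hD.primeIdealOf ⟨p, hp⟩).asIdeal
    haveI hq : q.IsMaximal := hmax p hp hpc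
    have hw' : algebraMap Γ(X, D) (X.presheaf.stalk p) w ∈ (q ^ 2).map (algebraMap Γ(X, D) (X.presheaf.stalk p)) := by
      rw [Ideal.map_pow, IsLocalization.AtPrime.map_eq_maximalIdeal q (X.presheaf.stalk p)]
      exact hw
    obtain ⟨⟨⟨u, hu⟩, s⟩, hus⟩ := (IsLocalization.mem_map_algebraMap_iff q.primeCompl (X.presheaf.stalk p)).1 hw'
    rw [← map_mul] at hus
    obtain ⟨t, ht⟩ := (IsLocalization.eq_iff_exists q.primeCompl (X.presheaf.stalk p)).1 hus
    obtain ⟨v, j, hj, hvj⟩ := hq.exists_inv ((q.primeCompl).mul_mem t.2 s.2 : (t : Γ(X, D)) * s ∈ q.primeCompl)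
    have h1 : w * ((t : Γ(X, D)) * s) ∈ q ^ 2 := by
      rw [show w * ((t : Γ(X, D)) * s) = t * (w * s) by ring, ht]
      exact Ideal.mul_mem_left _ _ hu
    have e : w = w * ((t : Γ(X, D)) * s) * (v * (1 + j)) + w * (j * j) := by linear_combination -(w * (1 + j)) * hvj
    rw [e, pow_two]
    exact add_mem (Ideal.mul_mem_right _ _ (pow_two q ▸ h1)) (Ideal.mul_mem_left _ _ (Ideal.mul_mem_mul hj hj))
  let al : Fin N → Γ(X, D) := fun j => ψ (bs j).1
  have hsum : ∀ H : LefPen.Form r k d, ∑ j, algebraMap k Γ(X, D) (bs.equivFun H j) * al j = ψ H.1 := by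
    intro H
    conv_rhs => rw [← bs.sum_equivFun H]
    simp only [Submodule.coe_sum, Submodule.coe_smul, map_sum, map_mul, AlgHom.commutes, Algebra.smul_def, al]
  have hjet : ∀ q : Ideal Γ(X, D), q.IsMaximal → ∀ l : Γ(X, D),
      ∃ c : Fin N → k, (∑ j, algebraMap k Γ(X, D) (c j) * al j) - l ∈ q ^ 2 := by
    intro q hq l
    obtain ⟨p, hp, hpc, rfl⟩ := hpoint q hq
    set q := (hD.primeIdealOf ⟨p, hp⟩).asIdeal
    obtain ⟨e, he'⟩ := exists_coords i b p (hDW hp) hpc
    have he : IsCoord i b p (hDW hp) e := he'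
    have heq : ∀ G : MvPolynomial (Fin (r + 1)) k, ψ G - algebraMap k Γ(X, D) (eval e G) ∈ q := by
      intro G
      rw [← hmem, map_sub, ← ψ.commutes, MvPolynomial.algebraMap_eq, hgerm, hgerm, ← map_sub, σ_mem_iff he,
        map_sub, eval_C, sub_self]
    have hres : ∀ w : Γ(X, D), ∃ t : k, w - algebraMap k Γ(X, D) t ∈ q := by
      intro w
      obtain ⟨p', s', hs', hps'⟩ := hfrac w
      have hes : eval e s' ≠ 0 := fun h0 => by
        have := heq s'
        rw [h0, map_zero, sub_zero] at this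
        exact hq.ne_top (Ideal.eq_top_of_isUnit_mem _ this hs')
      refine ⟨eval e p' / eval e s', (Ideal.mul_unit_mem_iff_mem q hs').1 ?_⟩
      have h1 := sub_mem (heq p') (Ideal.mul_mem_left q (algebraMap k Γ(X, D) (eval e p' / eval e s')) (heq s'))
      convert h1 using 1
      rw [sub_mul, hps', mul_sub, ← map_mul, div_mul_cancel₀ _ hes]
      ring
    let J := Ideal.span (Set.range fun j => ψ (MvPolynomial.X j) - algebraMap k Γ(X, D) (e j))
    have heval : ∀ G : MvPolynomial (Fin (r + 1)) k, ψ G - algebraMap k Γ(X, D) (eval e G) ∈ J := by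
      intro G
      induction G using MvPolynomial.induction_on with
      | C t => simp [← MvPolynomial.algebraMap_eq]
      | add u u' hu hu' =>
        have := J.add_mem hu hu'
        convert this using 1
        simp only [map_add]
        ring
      | mul_X u j hu =>
        have h2 : ψ (MvPolynomial.X j) - algebraMap k Γ(X, D) (e j) ∈ J := Ideal.subset_span ⟨j, rfl⟩
        have := J.add_mem (J.mul_mem_right (ψ (MvPolynomial.X j)) hu)
          (J.mul_mem_left (algebraMap k Γ(X, D) (eval e u)) h2)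
        convert this using 1
        simp only [map_mul, eval_X]
        ring
    obtain ⟨t₀, ht₀⟩ := hres l
    obtain ⟨u, s, hs, hus⟩ := hfrac (l - algebraMap k Γ(X, D) t₀)
    have hu0 : eval e u = 0 := by
      by_contra h0
      have h1 := q.sub_mem (hus ▸ Ideal.mul_mem_right (ψ s) q ht₀) (heq u)
      rw [sub_sub_cancel] at h1
      exact hq.ne_top (Ideal.eq_top_of_isUnit_mem _ h1 ((IsUnit.mk0 _ h0).map _))
    have h3 : l - algebraMap k Γ(X, D) t₀ ∈ J := by
      have h := heval u
      rw [hu0, map_zero, sub_zero, ← hus] at h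
      exact (Ideal.mul_unit_mem_iff_mem J hs).1 h
    obtain ⟨v, hv⟩ := Ideal.mem_span_range_iff_exists_fun.1 h3
    choose w hw using fun j => hres (v j)
    let L : MvPolynomial (Fin (r + 1)) k :=
      C t₀ * MvPolynomial.X b + ∑ j, C (w j) * (MvPolynomial.X j - C (e j) * MvPolynomial.X b)
    have hL : L.IsHomogeneous 1 := (isHomogeneous_C_mul_X _ _).add (IsHomogeneous.sum _ _ _ fun j _ =>
      IsHomogeneous.C_mul ((isHomogeneous_X k _).sub (isHomogeneous_C_mul_X _ _)) _)
    let G : LefPen.Form r k d := ⟨MvPolynomial.X b ^ (d - 1) * L, (mem_homogeneousSubmodule d _).2 (by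
      have h := ((isHomogeneous_X k b).pow (d - 1)).mul hL
      rwa [show 1 * (d - 1) + 1 = d by omega] at h)⟩
    refine ⟨fun j => bs.equivFun G j, ?_⟩
    rw [hsum]
    have h4 : ψ G.1 - l =
        -∑ j, (v j - algebraMap k Γ(X, D) (w j)) * (ψ (MvPolynomial.X j) - algebraMap k Γ(X, D) (e j)) := by
      show ψ (MvPolynomial.X b ^ (d - 1) * L) - l = _
      simp only [L, map_add, map_sum, map_mul, map_sub, map_pow, hψb, one_pow, one_mul, mul_one,
        ← MvPolynomial.algebraMap_eq, AlgHom.commutes, sub_mul, Finset.sum_sub_distrib]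
      linear_combination hv
    rw [h4]
    refine neg_mem (Submodule.sum_mem _ fun j _ => ?_)
    rw [pow_two]
    exact Ideal.mul_mem_mul (hw j) (by simpa using heq (MvPolynomial.X j))
  let bD : Module.Basis (Fin (m' + 1)) Γ(X, D) Ω[Γ(X, D)⁄k] := Module.finBasisOfFinrankEq Γ(X, D) _
    (Module.finrank_eq_of_rank_eq (Algebra.IsStandardSmoothOfRelativeDimension.rank_kaehlerDifferential (m' + 1)))
  obtain ⟨g, hg0, hg⟩ := Char0.exists_poly_nondeg bD al (Groth.L24.Bertini.ringKrullDim_le (k := k) (m' + 1)) hM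
    (fun l => Proj.lp bs (z l)) hjet
  -- expansions at the points of the chart
  have hlocal : ∀ (p : X) (hp : p ∈ D), IsClosed ({p} : Set X) → ∀ (H : LefPen.Form r k d),
      ((∀ i', ∑ j, algebraMap k Γ(X, D) (bs.equivFun H j) * Char0.jv bD (al j) i' ∈
          (hD.primeIdealOf ⟨p, hp⟩).asIdeal) → σ i b p (hDW hp) H.1 ∈ maximalIdeal (X.presheaf.stalk p) ^ 2) ∧
      (σ i b p (hDW hp) H.1 ∈ maximalIdeal (X.presheaf.stalk p) ^ 2 →
        (∀ i', ∑ j, algebraMap k Γ(X, D) (bs.equivFun H j) * Char0.jv bD (al j) i' ∈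
          (hD.primeIdealOf ⟨p, hp⟩).asIdeal) ∧
        ((Char0.hess bD al (bs.equivFun H)).det ∉ (hD.primeIdealOf ⟨p, hp⟩).asIdeal →
          σ i b p (hDW hp) H.1 ≠ 0 ∧ ∀ yS : LefPen.Sec i ({H} : Set (LefPen.Form r k d)),
            LefPen.secι i ({H} : Set (LefPen.Form r k d)) yS = p →
              LefPen.IsOrdQuadSing k m' (LefPen.secToSpec i ({H} : Set (LefPen.Form r k d))) yS)) := by
    intro p hp hpc H
    set q := (hD.primeIdealOf ⟨p, hp⟩).asIdeal
    haveI : IsRegularLocalRing (X.presheaf.stalk p) :=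
      Groth.L08.Cube.isRegularLocalRing_of_smooth (i ≫ CohB1.ProjSpace.toSpec r k) p
    obtain ⟨e, he'⟩ := exists_coords i b p (hDW hp) hpc
    have he : IsCoord i b p (hDW hp) e := he'
    obtain ⟨sel, ⟨P⟩⟩ := exists_param_coord (n := m' + 1) he hpc
    let ν : Γ(X, D) →+* MvPowerSeries (Fin (m' + 1)) k := P.ν.comp (X.presheaf.germ D p hp).hom
    have hC : ∀ t : k, ν (algebraMap k Γ(X, D) t) = MvPowerSeries.C t := fun t => by
      show P.ν ((X.presheaf.germ D p hp).hom (algebraMap k Γ(X, D) t)) = _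
      rw [← ψ.commutes, MvPolynomial.algebraMap_eq, hgerm]
      exact P.ν_C t
    have hX : ∀ l, ∃ a, ν a = MvPowerSeries.X l := fun l =>
      ⟨ψ (MvPolynomial.X (sel l) - C (e (sel l))), (congrArg P.ν (hgerm p hp _)).trans (P.ν_t l)⟩
    have hconst : ∀ w, w ∈ q → MvPowerSeries.constantCoeff (ν w) = 0 := fun w hw => by
      have h : ν w ∈ Groth.L28.PSer.M (Fin (m' + 1)) k := P.mem_M ((hmem p hp w).2 hw)
      exact MvPowerSeries.one_le_order_iff_constCoeff_eq_zero.1
        (by simpa using Groth.L28.PSer.order_mem_pow _ 1 (by simpa using h))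
    have hne : ∀ w, w ∉ q → MvPowerSeries.constantCoeff (ν w) ≠ 0 := fun w hw => by
      have hu : IsUnit ((X.presheaf.germ D p hp).hom w) := by
        by_contra h
        exact hw ((hmem p hp w).1 ((mem_maximalIdeal _).2 h))
      exact ((hu.map P.ν).map MvPowerSeries.constantCoeff).ne_zero
    have hjv : ∀ i', ∑ j, algebraMap k Γ(X, D) (bs.equivFun H j) * Char0.jv bD (al j) i' = Char0.jv bD (ψ H.1) i' := by
      intro i'
      rw [← hsum H]
      induction i' using Fin.cases with
      | zero => simp [Char0.jv]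
      | succ l => simp [Char0.jv, map_sum, Derivation.leibniz]
    have hlow : (∀ i', Char0.jv bD (ψ H.1) i' ∈ q) →
        ∀ l, MvPowerSeries.constantCoeff (ν (Char0.dl bD l (ψ H.1))) = 0 := fun h l => hconst _ (h l.succ)
    refine ⟨fun h => ?_, fun h => ?_⟩
    · simp only [hjv] at h
      rw [← hgerm p hp]
      exact P.mem_sq_of_lin ((hmem p hp _).2 (h 0)) (Char0.jets_of_jacobian bD ν hC hX _ (hlow h)).1
    · have hq2 : ψ H.1 ∈ q ^ 2 := hsq p hp hpc _ (by rw [hgerm]; exact h)
      have hall : ∀ i', Char0.jv bD (ψ H.1) i' ∈ q := Char0.jv_mem_of_mem_sq bD q hq2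
      refine ⟨fun i' => by rw [hjv]; exact hall i', fun hdet => ?_⟩
      have hord : VanCyc.QuadOrd (VanCyc.quadPart (P.ν (σ i b p (hDW hp) H.1))) := by
        rw [← hgerm p hp]
        refine (Char0.jets_of_jacobian bD ν hC hX _ (hlow hall)).2 ?_
        have e1 : (Matrix.of fun l l' => MvPowerSeries.constantCoeff (ν (Char0.dl bD l' (Char0.dl bD l (ψ H.1))))) =
            (MvPowerSeries.constantCoeff.comp ν).mapMatrix (Char0.hess bD al (bs.equivFun H)) := by
          refine Matrix.ext fun l l' => ?_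
          simp only [RingHom.mapMatrix_apply, Matrix.map_apply, Char0.hess, Matrix.of_apply, RingHom.comp_apply]
          rw [← hsum H]
          simp [map_sum, Derivation.leibniz]
        rw [e1, ← RingHom.map_det]
        exact hne _ hdet
      refine ⟨fun h0 => ?_, fun yS hyS => (ordQuad_iff H P hpc h yS hyS).2 hord⟩
      rw [h0, map_zero] at hord
      have hz : ∀ u v, VanCyc.quadPart (0 : MvPowerSeries (Fin (m' + 1)) k) u v = 0 := fun u v => by
        simp [VanCyc.quadPart]
      have h2 := hord (Pi.single 0 1) (by simp [VanCyc.quadEval, hz]) (funext fun u => by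
        simp [Matrix.mulVec, dotProduct, VanCyc.polarMatrix, hz])
      simpa using congrFun h2 0
  refine ⟨D, g, hyf, hg0, fun H hH b' p hpb hpc hpD htan => ?_⟩
  have htanb := sq_mem_change ((mem_homogeneousSubmodule d _).1 H.2) b' b p hpb (hDW hpD) htan
  obtain ⟨hjvq, hnd⟩ := (hlocal p hpD hpc H).2 htanb
  have hq := hmax p hpD hpc
  have hdet := hg (bs.equivFun H) (by simp only [Proj.eval_lp]; exact hH) _ hq hjvq
  obtain ⟨hne, hord⟩ := hnd hdet
  refine ⟨fun h0 => hne ?_, hord, fun P hP e' he' G hG => ?_⟩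
  · rw [σ_change i H.1 ((mem_homogeneousSubmodule d _).1 H.2) b' b p hpb (hDW hpD), h0, zero_mul]
  · obtain ⟨e, he₁⟩ := exists_coords i b p (hDW hpD) hpc
    have he : IsCoord i b p (hDW hpD) e := he₁
    have hGe : eval e G.1 = 0 := by
      rw [coord_change he' he, eval_smul_of_isHomogeneous ((mem_homogeneousSubmodule d _).1 G.2), hG, mul_zero]
    refine Char0.tangent_direction bD al hq hjvq hdet (by
      rw [hsum, ← hmem, hgerm, σ_mem_iff he]; exact hGe) ?_
    -- `P` vanishes at all pairs of the chart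
    obtain ⟨s, hs⟩ := Char0.exists_rightInverse bD al hjet
    obtain ⟨eΦ⟩ := Groth.L03.GeneralVector.nonempty_equiv (Char0.M bD al) s hs
    haveI : IsDomain (MvPolynomial (Fin ((m' + 1) + 1)) (MvPolynomial (Fin N) Γ(X, D) ⧸ Char0.eqs bD al)) :=
      eΦ.symm.toMulEquiv.isDomain (MvPolynomial (Fin N) Γ(X, D))
    haveI hdom : IsDomain (MvPolynomial (Fin N) Γ(X, D) ⧸ Char0.eqs bD al) :=
      Function.Injective.isDomain (C : _ →+* MvPolynomial (Fin ((m' + 1) + 1))
        (MvPolynomial (Fin N) Γ(X, D) ⧸ Char0.eqs bD al)) (C_injective _ _)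
    haveI : IsJacobsonRing (MvPolynomial (Fin N) Γ(X, D)) := MvPolynomial.isJacobsonRing
    have hprime : (Char0.eqs bD al).IsPrime := (Ideal.Quotient.isDomain_iff_prime _).1 hdom
    rw [← IsJacobsonRing.out inferInstance hprime.isRadical]
    refine Ideal.mem_sInf.2 fun {M} hM' => ?_
    obtain ⟨hle, hMmax⟩ := hM'
    haveI := hMmax
    set q' := M.comap (C : Γ(X, D) →+* MvPolynomial (Fin N) Γ(X, D))
    letI := Ideal.Quotient.field M
    letI : Algebra k (MvPolynomial (Fin N) Γ(X, D) ⧸ M) := Ideal.Quotient.algebra k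
    haveI : Module.Finite k (MvPolynomial (Fin N) Γ(X, D) ⧸ M) := by
      haveI : Algebra.FiniteType k (MvPolynomial (Fin N) Γ(X, D)) :=
        Algebra.FiniteType.trans (inferInstance : Algebra.FiniteType k Γ(X, D)) inferInstance
      haveI : Algebra.FiniteType k (MvPolynomial (Fin N) Γ(X, D) ⧸ M) :=
        (inferInstance : Algebra.FiniteType k (MvPolynomial (Fin N) Γ(X, D))).of_surjective _
          (Ideal.Quotient.mkₐ_surjective k M)
      exact finite_of_finite_type_of_isJacobsonRing k _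
    have hbij := IsAlgClosed.algebraMap_bijective_of_isIntegral (k := k) (K := MvPolynomial (Fin N) Γ(X, D) ⧸ M)
    haveI hq' : q'.IsMaximal := by
      rw [show q' = RingHom.ker ((Ideal.Quotient.mk M).comp C) by rw [← RingHom.comap_ker, Ideal.mk_ker]]
      refine RingHom.ker_isMaximal_of_surjective _ fun x => ?_
      obtain ⟨t, rfl⟩ := hbij.2 x
      exact ⟨algebraMap k Γ(X, D) t, rfl⟩
    obtain ⟨p', hp', hpc', hpq⟩ := hpoint q' hq'
    choose c' hc' using fun j => hbij.2 (Ideal.Quotient.mk M (MvPolynomial.X j))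
    have hcX : ∀ j, MvPolynomial.X j - C (algebraMap k Γ(X, D) (c' j)) ∈ M := fun j => by
      rw [← Ideal.Quotient.eq]
      exact (hc' j).symm
    have hpair : ∀ i', ∑ j, algebraMap k Γ(X, D) (c' j) * Char0.jv bD (al j) i' ∈ q' := by
      intro i'
      have h1 : Groth.L03.GeneralVector.form (Char0.M bD al) i' ∈ M := hle (Ideal.subset_span ⟨i', rfl⟩)
      have h2 : Groth.L03.GeneralVector.form (Char0.M bD al) i' -
          C (∑ j, algebraMap k Γ(X, D) (c' j) * Char0.jv bD (al j) i') ∈ M := by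
        rw [Groth.L03.GeneralVector.form, map_sum, ← Finset.sum_sub_distrib]
        refine Submodule.sum_mem _ fun j _ => ?_
        rw [map_mul, show C (Char0.M bD al i' j) * MvPolynomial.X j -
            C (algebraMap k Γ(X, D) (c' j)) * C (Char0.jv bD (al j) i') =
            C (Char0.jv bD (al j) i') * (MvPolynomial.X j - C (algebraMap k Γ(X, D) (c' j))) by
          simp only [Char0.M, Matrix.of_apply]; ring]
        exact Ideal.mul_mem_left _ _ (hcX j)
      have := sub_mem h1 h2
      rwa [sub_sub_cancel] at this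
    let H' : LefPen.Form r k d := bs.equivFun.symm c'
    have hH' : bs.equivFun H' = c' := bs.equivFun.apply_symm_apply c'
    have htan' := (hlocal p' hp' hpc' H').1 (by rw [hH', hpq]; exact hpair)
    have hP0 := hP H' fun hT => (transversal_iff i (m' + 1) hn H').1 hT b p' (hDW hp') hpc' htan'
    rw [hH'] at hP0
    rw [← Ideal.Quotient.eq_zero_iff_mem]
    have e1 : Ideal.Quotient.mk M (aeval (fun j => (MvPolynomial.X j : MvPolynomial (Fin N) Γ(X, D))) P) =
        algebraMap k (MvPolynomial (Fin N) Γ(X, D) ⧸ M) (eval c' P) := by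
      clear hP hP0
      induction P using MvPolynomial.induction_on with
      | C t => rw [aeval_C, eval_C]; rfl
      | add u v hu hv => rw [map_add, map_add, map_add, map_add, hu, hv]
      | mul_X u j hu => rw [map_mul, map_mul, map_mul, map_mul, hu, aeval_X, eval_X, hc']
    rw [e1, hP0, map_zero]

end Groth.L05.Pencil
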