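import Groth.Agent.L05.Pencil.Char0Ring
import Mathlib.RingTheory.Algebraic.Basic
import Mathlib.LinearAlgebra.Matrix.ToLinearEquiv
import Mathlib.Algebra.Polynomial.Derivative

/-! Non-degeneracy of a general tangency pair in characteristic zero. -/

set_option autoImplicit false
set_option linter.style.haveILetI false
set_option maxHeartbeats 1000000

universe u

open MvPolynomial

noncomputable section

namespace Groth.L05.Pencil.Char0

open TrivSqZeroExt (inl inr fst snd)

theorem poly_dual {R K : Type u} [CommRing R] [CommRing K] (f : R →+* K) (p d : K) (P : Polynomial R) :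
    fst (P.eval₂ ((TrivSqZeroExt.inlHom K K).comp f) (inl p + inr d : DualNumber K)) = P.eval₂ f p ∧
    snd (P.eval₂ ((TrivSqZeroExt.inlHom K K).comp f) (inl p + inr d : DualNumber K)) = d * P.derivative.eval₂ f p := by
  induction P using Polynomial.induction_on with
  | C t => simp
  | add P Q hP hQ =>
    simp only [Polynomial.eval₂_add, TrivSqZeroExt.fst_add, TrivSqZeroExt.snd_add, hP.1, hP.2, hQ.1, hQ.2, map_add,
      mul_add, and_self]
  | monomial m t h =>
    rw [pow_succ, ← mul_assoc]
    set Q := Polynomial.C t * Polynomial.X ^ m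
    simp only [Polynomial.eval₂_mul, Polynomial.eval₂_X, TrivSqZeroExt.fst_mul, TrivSqZeroExt.snd_mul,
      TrivSqZeroExt.fst_add, TrivSqZeroExt.snd_add, TrivSqZeroExt.fst_inl, TrivSqZeroExt.fst_inr,
      TrivSqZeroExt.snd_inl, TrivSqZeroExt.snd_inr, add_zero, zero_add, h.1, h.2, MulOpposite.smul_eq_mul_unop,
      MulOpposite.unop_op, smul_eq_mul, true_and, Polynomial.derivative_mul, Polynomial.derivative_X, mul_one,
      Polynomial.eval₂_add]
    ring

theorem dim_le_of_add {x : WithBot ℕ∞} {n N M' : ℕ} (hM : M' + 1 = N)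
    (h : x + ((n + 1 : ℕ) : WithBot ℕ∞) ≤ ((n + N : ℕ) : WithBot ℕ∞)) : x ≤ (M' : WithBot ℕ∞) := by
  match x with
  | ⊥ => exact bot_le
  | (⊤ : ℕ∞) =>
    exfalso
    have h' : ((⊤ : ℕ∞) + ((n + 1 : ℕ) : ℕ∞) : ℕ∞) ≤ ((n + N : ℕ) : ℕ∞) := by exact_mod_cast h
    simp only [top_add, top_le_iff] at h'
    exact ENat.natCast_ne_top _ h'
  | ((m : ℕ) : ℕ∞) =>
    have h' : m + (n + 1) ≤ n + N := by exact_mod_cast h
    exact WithBot.coe_le_coe.2 (Nat.cast_le.2 (show m ≤ M' by omega))

variable {k : Type u} [Field k] [CharZero k] {A : Type u} [CommRing A] [IsDomain A] [Algebra k A]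
  [Algebra.FiniteType k A] {n N : ℕ} (b : Module.Basis (Fin n) A Ω[A⁄k]) (al : Fin N → A)

/-- Off a hypersurface of the parameters all tangency pairs are non-degenerate. -/
theorem exists_poly_nondeg (hdimA : ringKrullDim A ≤ n) {M' : ℕ} (hM : M' + 1 = N)
    (z : Fin M' → MvPolynomial (Fin N) k)
    (hjet : ∀ q : Ideal A, q.IsMaximal → ∀ l : A, ∃ c : Fin N → k, (∑ j, algebraMap k A (c j) * al j) - l ∈ q ^ 2) :
    ∃ g : MvPolynomial (Fin M') k, g ≠ 0 ∧ ∀ c : Fin N → k, eval (fun i => eval c (z i)) g ≠ 0 →
      ∀ q : Ideal A, q.IsMaximal → (∀ i, ∑ j, algebraMap k A (c j) * jv b (al j) i ∈ q) → (hess b al c).det ∉ q := by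
  classical
  obtain ⟨s, hs⟩ := exists_rightInverse b al hjet
  obtain ⟨e⟩ := Groth.L03.GeneralVector.nonempty_equiv (M b al) s hs
  set I := eqs b al
  set Φ := MvPolynomial (Fin N) A ⧸ I
  let e' : MvPolynomial (Fin N) A ≃+* MvPolynomial (Fin (n + 1)) Φ := e
  haveI : IsNoetherianRing A := Algebra.FiniteType.isNoetherianRing k A
  haveI : IsDomain (MvPolynomial (Fin (n + 1)) Φ) := e'.symm.toMulEquiv.isDomain (MvPolynomial (Fin N) A)
  haveI : IsDomain Φ := Function.Injective.isDomain (C : Φ →+* MvPolynomial (Fin (n + 1)) Φ) (C_injective _ _)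
  haveI : Algebra.FiniteType k (MvPolynomial (Fin N) A) :=
    Algebra.FiniteType.trans (inferInstance : Algebra.FiniteType k A) inferInstance
  haveI : Algebra.FiniteType k Φ :=
    (inferInstance : Algebra.FiniteType k (MvPolynomial (Fin N) A)).of_surjective _ (Ideal.Quotient.mkₐ_surjective k I)
  have hdimΦ : ringKrullDim Φ ≤ (M' : WithBot ℕ∞) := by
    refine dim_le_of_add (n := n) hM ?_
    have h2 := ringKrullDim_eq_of_ringEquiv e'
    rw [MvPolynomial.ringKrullDim_of_isNoetherianRing, MvPolynomial.ringKrullDim_of_isNoetherianRing, Nat.card_fin,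
      Nat.card_fin] at h2
    rw [← h2]
    push_cast
    exact add_le_add hdimA le_rfl
  let coef : MvPolynomial (Fin N) k →ₐ[k] Φ :=
    (Ideal.Quotient.mkₐ k I).comp (aeval fun j => (MvPolynomial.X j : MvPolynomial (Fin N) A))
  let θz : MvPolynomial (Fin M') k →ₐ[k] Φ := coef.comp (aeval z)
  let ev : ∀ (c : Fin N → k) (q : Ideal A), (∀ i, ∑ j, algebraMap k A (c j) * jv b (al j) i ∈ q) → (Φ →+* A ⧸ q) :=
    fun c q hc => Ideal.Quotient.lift I (eval₂Hom (Ideal.Quotient.mk q) fun j => Ideal.Quotient.mk q (algebraMap k A (c j))) (by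
      have hle : I ≤ RingHom.ker (eval₂Hom (Ideal.Quotient.mk q) fun j => Ideal.Quotient.mk q (algebraMap k A (c j))) := by
        refine Ideal.span_le.2 ?_
        rintro _ ⟨i, rfl⟩
        rw [SetLike.mem_coe, RingHom.mem_ker, Groth.L03.GeneralVector.form, map_sum,
          ← Ideal.Quotient.eq_zero_iff_mem.2 (hc i), map_sum]
        exact Finset.sum_congr rfl fun j _ => by simp [M, mul_comm]
      exact fun x hx => hle hx)
  have hev : ∀ (c : Fin N → k) (q : Ideal A) (hc : ∀ i, ∑ j, algebraMap k A (c j) * jv b (al j) i ∈ q)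
      (g : MvPolynomial (Fin M') k), ev c q hc (θz g) =
        Ideal.Quotient.mk q (algebraMap k A (eval (fun i => eval c (z i)) g)) := by
    intro c q hc g
    have h1 : ∀ P : MvPolynomial (Fin N) k, ev c q hc (coef P) = Ideal.Quotient.mk q (algebraMap k A (eval c P)) := by
      intro P
      show eval₂Hom (Ideal.Quotient.mk q) _ (aeval _ P) = _
      induction P using MvPolynomial.induction_on with
      | C t => simp
      | add P Q hP hQ => simp only [map_add, hP, hQ]
      | mul_X P j hP => simp only [map_mul, hP, aeval_X, eval₂Hom_X', eval_X]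
    rw [show θz g = coef (aeval z g) from rfl, h1]
    congr 2
    induction g using MvPolynomial.induction_on with
    | C t => simp
    | add P Q hP hQ => simp only [map_add, hP, hQ]
    | mul_X P j hP => simp only [map_mul, hP, aeval_X, eval_X]
  by_cases hinj : Function.Injective θz
  swap
  · obtain ⟨g, hg, hg0⟩ : ∃ g, θz g = 0 ∧ g ≠ 0 := by
      by_contra hcon
      exact hinj ((injective_iff_map_eq_zero _).2 fun g hg => by_contra fun h0 => hcon ⟨g, hg, h0⟩)
    refine ⟨g, hg0, fun c hc q hq htan _ => hc ?_⟩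
    have h := hev c q htan g
    rw [hg, map_zero] at h
    letI := Ideal.Quotient.field q
    refine ((Ideal.Quotient.mk q).comp (algebraMap k A)).injective ?_
    rw [map_zero]
    exact h.symm
  let Hs : Matrix (Fin n) (Fin n) Φ := Matrix.of fun l l' =>
    Ideal.Quotient.mk I (∑ j, MvPolynomial.X j * C (dl b l' (dl b l (al j))))
  have hevH : ∀ (c : Fin N → k) (q : Ideal A) (hc : ∀ i, ∑ j, algebraMap k A (c j) * jv b (al j) i ∈ q),
      ev c q hc Hs.det = Ideal.Quotient.mk q (hess b al c).det := by
    intro c q hc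
    rw [RingHom.map_det, RingHom.map_det]
    congr 1
    refine Matrix.ext fun l l' => ?_
    simp only [RingHom.mapMatrix_apply, Matrix.map_apply, Hs, hess, Matrix.of_apply, ev,
      map_sum, map_mul]
    refine Finset.sum_congr rfl fun x _ => ?_
    erw [Ideal.Quotient.lift_mk, Ideal.Quotient.lift_mk]
    simp
  by_cases hΔ : Hs.det = 0
  · exfalso
    set L := FractionRing Φ
    let ρ : A →+* L := (algebraMap Φ L).comp ((Ideal.Quotient.mk I).comp C)
    let p : Fin N → L := fun j => algebraMap Φ L (Ideal.Quotient.mk I (MvPolynomial.X j))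
    let HL : Matrix (Fin n) (Fin n) L := (algebraMap Φ L).mapMatrix Hs
    have hHL : HL.det = 0 := by rw [show HL.det = algebraMap Φ L Hs.det from (RingHom.map_det _ _).symm, hΔ, map_zero]
    obtain ⟨w, hw0, hw⟩ := Matrix.exists_mulVec_eq_zero_iff.2 hHL
    have hrow : ∀ i, ∑ j, ρ (M b al i j) * p j = 0 := fun i => by
      have h : Ideal.Quotient.mk I (Groth.L03.GeneralVector.form (M b al) i) = 0 :=
        Ideal.Quotient.eq_zero_iff_mem.2 (Ideal.subset_span ⟨i, rfl⟩)
      have h' := congrArg (algebraMap Φ L) h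
      rw [map_zero] at h'
      rw [← h', Groth.L03.GeneralVector.form, map_sum, map_sum]
      exact Finset.sum_congr rfl fun j _ => by rw [map_mul, map_mul]; rfl
    obtain ⟨θ, hθ, hθC, hθX⟩ := dual_point b al ρ p (fun _ => 0) w hrow (fun i => by
      simp only [mul_zero, zero_add]
      induction i using Fin.cases with
      | zero =>
        simp only [M, jv, Matrix.of_apply, Fin.cons_zero]
        refine (Finset.sum_congr rfl fun j _ => Finset.sum_mul _ _ _).trans ?_
        rw [Finset.sum_comm]
        refine Finset.sum_eq_zero fun l _ => ?_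
        simp only [mul_assoc, ← Finset.mul_sum]
        have h := hrow l.succ
        simp only [M, jv, Matrix.of_apply, Fin.cons_succ] at h
        rw [h, mul_zero]
      | succ l =>
        have h := congrFun hw l
        simp only [Matrix.mulVec, dotProduct, HL, Hs, RingHom.mapMatrix_apply, Matrix.map_apply, Matrix.of_apply,
          map_sum, map_mul, Finset.sum_mul, Pi.zero_apply] at h
        simp only [M, jv, Matrix.of_apply, Fin.cons_succ]
        refine (Finset.sum_congr rfl fun j _ => Finset.sum_mul _ _ _).trans ?_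
        rw [Finset.sum_comm, ← h]
        refine Finset.sum_congr rfl fun l' _ => Finset.sum_congr rfl fun j _ => ?_
        simp only [p, ρ, RingHom.comp_apply]
        ring)
    let θ' : Φ →+* DualNumber L := Ideal.Quotient.lift I θ hθ
    have hcoef : ∀ P : MvPolynomial (Fin N) k, θ' (coef P) = inl (algebraMap Φ L (coef P)) := by
      intro P
      induction P using MvPolynomial.induction_on with
      | C t =>
        show θ (aeval _ (C t)) = _
        rw [aeval_C, MvPolynomial.algebraMap_apply, hθC]
        simp only [Derivation.map_algebraMap, map_zero, mul_zero, Finset.sum_const_zero, TrivSqZeroExt.inr_zero,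
          add_zero]
        congr 1
        simp only [coef, AlgHom.comp_apply, aeval_C, MvPolynomial.algebraMap_apply]
        rfl
      | add P Q hP hQ =>
        simp only [map_add, hP, hQ]
        exact (TrivSqZeroExt.inl_add ..).symm
      | mul_X P j hP =>
        have hX : θ' (coef (MvPolynomial.X j)) = inl (algebraMap Φ L (coef (MvPolynomial.X j))) := by
          show θ (aeval _ (MvPolynomial.X j)) = _
          rw [aeval_X, hθX, TrivSqZeroExt.inr_zero, add_zero]
          congr 1
          simp only [p, coef, AlgHom.comp_apply, aeval_X]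
          rfl
        simp only [map_mul, hP, hX, TrivSqZeroExt.inl_mul]
    letI : Algebra (MvPolynomial (Fin M') k) Φ := θz.toRingHom.toAlgebra
    have hkill : ∀ a : A, ∑ l, w l * ρ (dl b l a) = 0 := by
      intro a
      set x : Φ := Ideal.Quotient.mk I (C a)
      have halg : IsAlgebraic (MvPolynomial (Fin M') k) x := by
        by_contra htr
        have hinj' : Function.Injective (Polynomial.aeval x : Polynomial (MvPolynomial (Fin M') k) →ₐ[_] Φ) :=
          transcendental_iff_injective.1 htr
        let Ψ : MvPolynomial (Fin (M' + 1)) k →ₐ[k] Φ :=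
          { ((Polynomial.aeval x).toRingHom.comp (finSuccEquiv k M').toRingEquiv.toRingHom) with
            commutes' := fun t => by
              show Polynomial.aeval x (finSuccEquiv k M' (algebraMap k _ t)) = _
              rw [AlgEquiv.commutes, Polynomial.algebraMap_apply, Polynomial.aeval_C]
              exact θz.commutes t }
        have h := (Groth.L03.GeneralVector.le_ringKrullDim_of_injective Ψ
          (hinj'.comp (finSuccEquiv k M').injective)).trans hdimΦ
        have h' : M' + 1 ≤ M' := by exact_mod_cast h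
        omega
      obtain ⟨P₀, hP₀, hP₀x⟩ := halg
      let S : Set ℕ := {m | ∃ P : Polynomial (MvPolynomial (Fin M') k), P ≠ 0 ∧ Polynomial.aeval x P = 0 ∧ P.natDegree = m}
      have hS : ∃ m, m ∈ S := ⟨_, P₀, hP₀, hP₀x, rfl⟩
      obtain ⟨P, hP, hPx, hPdeg⟩ := Nat.find_spec hS
      have hpos : P.natDegree ≠ 0 := fun h0 => by
        obtain ⟨t, rfl⟩ := Polynomial.natDegree_eq_zero.1 h0
        rw [Polynomial.aeval_C] at hPx
        exact hP (by rw [hinj (hPx.trans (map_zero θz).symm), map_zero])
      have hP' : Polynomial.aeval x P.derivative ≠ 0 := fun h0 => by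
        have hd0 : P.derivative ≠ 0 := fun h => hpos (Polynomial.derivative_eq_zero.1 h)
        exact Nat.find_min hS (hPdeg ▸ Polynomial.natDegree_derivative_lt hpos) ⟨_, hd0, h0, rfl⟩
      have hx : θ' x = inl (algebraMap Φ L x) + inr (∑ l, w l * ρ (dl b l a)) := hθC a
      have hcomp : θ'.comp θz.toRingHom = (TrivSqZeroExt.inlHom L L).comp ((algebraMap Φ L).comp θz.toRingHom) :=
        RingHom.ext fun g => hcoef (aeval z g)
      have h1 := congrArg (fun y => snd (θ' y)) hPx
      simp only [Polynomial.aeval_def, Polynomial.hom_eval₂, map_zero, TrivSqZeroExt.snd_zero, hx] at h1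
      rw [show θ'.comp (algebraMap (MvPolynomial (Fin M') k) Φ) =
        (TrivSqZeroExt.inlHom L L).comp ((algebraMap Φ L).comp θz.toRingHom) from hcomp, (poly_dual _ _ _ P).2] at h1
      refine (mul_eq_zero.1 h1).resolve_right fun h2 => hP' ?_
      refine IsFractionRing.injective Φ L ?_
      rw [map_zero, Polynomial.aeval_def, Polynomial.hom_eval₂]
      exact h2
    refine hw0 (funext fun l => ?_)
    let W : Submodule A Ω[A⁄k] :=
      { carrier := {ω | ∑ l, w l * ρ (b.repr ω l) = 0}
        zero_mem' := by simp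
        add_mem' := fun {ω ω'} h h' => by
          simp only [Set.mem_setOf_eq] at h h' ⊢
          simp [mul_add, Finset.sum_add_distrib, h, h']
        smul_mem' := fun t ω h => by
          simp only [Set.mem_setOf_eq] at h ⊢
          rw [Finset.sum_congr rfl fun l _ => show w l * ρ (b.repr (t • ω) l) = ρ t * (w l * ρ (b.repr ω l)) by
            simp [mul_left_comm], ← Finset.mul_sum, h, mul_zero] }
    have htop : (⊤ : Submodule A Ω[A⁄k]) ≤ W := by
      rw [← KaehlerDifferential.span_range_derivation]
      refine Submodule.span_le.2 ?_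
      rintro _ ⟨a, rfl⟩
      exact hkill a
    have h := htop (x := b l) trivial
    change ∑ l', w l' * ρ (b.repr (b l) l') = 0 at h
    simpa [Module.Basis.repr_self, Finsupp.single_apply] using h
  · haveI : Algebra.FiniteType k (Φ ⧸ Ideal.span {Hs.det}) :=
      (inferInstance : Algebra.FiniteType k Φ).of_surjective _ (Ideal.Quotient.mkₐ_surjective k _)
    obtain ⟨g, hg, hg0⟩ : ∃ g, (Ideal.Quotient.mkₐ k (Ideal.span {Hs.det})).comp θz g = 0 ∧ g ≠ 0 := by
      by_contra hcon
      have hi : Function.Injective ((Ideal.Quotient.mkₐ k (Ideal.span {Hs.det})).comp θz) :=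
        (injective_iff_map_eq_zero _).2 fun g hg => by_contra fun h0 => hcon ⟨g, hg, h0⟩
      have h1 : (M' : WithBot ℕ∞) ≤ ringKrullDim (Φ ⧸ Ideal.span {Hs.det}) :=
        @Groth.L03.GeneralVector.le_ringKrullDim_of_injective k _ (Φ ⧸ Ideal.span {Hs.det}) _ (Ideal.Quotient.algebra k) _ M'
          ((Ideal.Quotient.mkₐ k (Ideal.span {Hs.det})).comp θz) hi
      have h2 := ((add_le_add h1 (le_refl (1 : WithBot ℕ∞))).trans
        (ringKrullDim_quotient_succ_le_of_nonZeroDivisor (mem_nonZeroDivisors_of_ne_zero hΔ))).trans hdimΦ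
      have h3 : M' + 1 ≤ M' := by exact_mod_cast h2
      omega
    refine ⟨g, hg0, fun c hc q hq htan hdet => hc ?_⟩
    obtain ⟨t, ht⟩ := Ideal.mem_span_singleton'.1 (Ideal.Quotient.eq_zero_iff_mem.1 hg)
    have h := hev c q htan g
    rw [show θz g = t * Hs.det from ht.symm, map_mul, hevH c q htan, Ideal.Quotient.eq_zero_iff_mem.2 hdet, mul_zero] at h
    letI := Ideal.Quotient.field q
    refine ((Ideal.Quotient.mk q).comp (algebraMap k A)).injective ?_
    rw [map_zero]
    exact h.symm

end Groth.L05.Pencil.Char0
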