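import Groth.Agent.L05.Pencil.Char0

/-! Every embedding in characteristic zero is a Lefschetz embedding. -/

set_option autoImplicit false
set_option linter.style.haveILetI false
set_option backward.isDefEq.respectTransparency false
set_option backward.isDefEq.respectTransparency.types false
set_option maxHeartbeats 1000000

universe u

open CategoryTheory CategoryTheory.Limits AlgebraicGeometry TopologicalSpace MvPolynomial IsLocalRing

noncomputable section

namespace Groth.L05.Pencil

open Groth.L05.OrdQuad (σ exists_coords exists_mem_secι)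
open Groth.L05.DualVar
open Groth.L05.Nd (coord_change mem_chart_of_coord eq_of_coord oneOrdQuad_of_unique σ_form_eq_zero)

section Derivative

variable {k : Type u} [Field k] {N : ℕ}

theorem derivative_line (c c₀ : Fin N → k) (P : MvPolynomial (Fin N) k) :
    Polynomial.derivative (aeval (fun j => Polynomial.C (c j) + Polynomial.C (c₀ j) * Polynomial.X) P) =
      aeval (fun j => Polynomial.C (c j) + Polynomial.C (c₀ j) * Polynomial.X) (∑ j, C (c₀ j) * pderiv j P) := by
  classical
  induction P using MvPolynomial.induction_on with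
  | C t => simp [Polynomial.algebraMap_eq]
  | add P Q hP hQ => simp only [map_add, hP, hQ, mul_add, Finset.sum_add_distrib]
  | mul_X P l hP =>
    rw [map_mul, Polynomial.derivative_mul, hP, aeval_X, Polynomial.derivative_add, Polynomial.derivative_C,
      Polynomial.derivative_C_mul, Polynomial.derivative_X, mul_one, zero_add]
    simp only [map_sum, map_mul, pderiv_mul, pderiv_X, map_add, aeval_X, Pi.single_apply, mul_ite, mul_one, mul_zero,
      apply_ite (aeval fun j => Polynomial.C (c j) + Polynomial.C (c₀ j) * Polynomial.X), map_zero, mul_add,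
      Finset.sum_add_distrib, Finset.sum_ite_eq, Finset.mem_univ, if_true, aeval_C, Polynomial.algebraMap_eq,
      Finset.sum_mul, mul_assoc]
    ring

/-- Without derivative along a direction a polynomial is invariant along it. -/
theorem eval_add_smul [CharZero k] {P : MvPolynomial (Fin N) k} {c₀ : Fin N → k}
    (h : (∑ j, C (c₀ j) * pderiv j P) = 0) (c : Fin N → k) (t : k) : eval (c + t • c₀) P = eval c P := by
  have hd := derivative_line c c₀ P
  rw [h, map_zero, Polynomial.derivative_eq_zero] at hd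
  set T := aeval (fun j => Polynomial.C (c j) + Polynomial.C (c₀ j) * Polynomial.X) P
  have hT : ∀ s : k, T.eval s = eval (c + s • c₀) P := fun s => by
    show (Polynomial.aeval s) _ = _
    rw [← AlgHom.comp_apply, MvPolynomial.comp_aeval, MvPolynomial.aeval_eq_eval]
    congr 2
    funext j
    simp only [Pi.add_apply, Pi.smul_apply, smul_eq_mul, map_add, map_mul, Polynomial.aeval_C, Polynomial.aeval_X,
      Algebra.algebraMap_self, RingHom.id_apply]
    ring
  obtain ⟨a, ha⟩ := Polynomial.natDegree_eq_zero.1 hd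
  have h0 := hT 0
  rw [zero_smul, add_zero] at h0
  rw [← hT t, ← h0, ← ha, Polynomial.eval_C, Polynomial.eval_C]

end Derivative

variable {k : Type u} [Field k] [IsAlgClosed k] [CharZero k] {r : ℕ} {X : Scheme.{u}} {i : X ⟶ CohB1.ProjSpace r k}
  [IsClosedImmersion i] [IrreducibleSpace X] [IsReduced X] [IsLocallyNoetherian X]
  {S : Finset (MvPolynomial (Fin (r + 1)) k)} {m n d : ℕ}
  [SmoothOfRelativeDimension n (i ≫ CohB1.ProjSpace.toSpec r k)]

/-- In characteristic zero the lines through a transversal form are generally good. -/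
theorem isGeneric_line_char0 (hE : Eqns i S m n) (hn : 1 ≤ n) (hd : 1 ≤ d) {H₀ : LefPen.Form r k d}
    (hH₀ : LefPen.Transversal k n 1 (LefPen.secToSpec i ({H₀} : Set (LefPen.Form r k d)))) :
    LefPen.IsGeneric k {G : LefPen.Form r k d | ∀ a : k, Good i n (G + a • H₀)} := by
  classical
  haveI : Infinite k := IsAlgClosed.instInfinite
  haveI : Module.Finite k (LefPen.Form r k d) := finite_Form d
  let bs := Module.finBasis k (LefPen.Form r k d)
  obtain ⟨M', z, hM, hzH, hz, hzsurj⟩ := Proj.exists_invariants bs H₀ (ne_zero_of_transversal hn hH₀)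
  -- charts
  haveI : QuasiCompact (i ≫ CohB1.ProjSpace.toSpec r k) := inferInstance
  haveI : CompactSpace X := QuasiCompact.compactSpace_of_compactSpace (i ≫ CohB1.ProjSpace.toSpec r k)
  choose D g hyD hg0 hg using fun y : X => exists_chart_char0 (i := i) (n := n) hn hd y hM bs z
  obtain ⟨T, hT⟩ := isCompact_univ.elim_finite_subcover (fun y : X => ((D y : X.Opens) : Set X))
    (fun y => (D y).2) (fun y _ => Set.mem_iUnion.2 ⟨y, hyD y⟩)
  let Q := ∏ y ∈ T, g y
  have hQ : Q ≠ 0 := Finset.prod_ne_zero_iff.2 fun y _ => hg0 y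
  have hgenQ : LefPen.IsGeneric k {v : LefPen.Form r k d | ∀ a : k, ∀ y ∈ T, eval (fun l => z l (v + a • H₀)) (g y) ≠ 0} := by
    obtain ⟨c, hc⟩ : ∃ c, eval c Q ≠ 0 := by
      by_contra hall
      push Not at hall
      exact hQ (MvPolynomial.funext fun c => (hall c).trans (map_zero _).symm)
    obtain ⟨v, hv⟩ := hzsurj c
    refine ⟨_, Proj.isPolyFun_eval_lin z Q, ⟨v, by show eval (fun l => z l v) Q ≠ 0; rw [funext hv]; exact hc⟩,
      fun w hw a y hy => ?_⟩
    rw [map_prod, Finset.prod_ne_zero_iff] at hw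
    have e : (fun l => z l (w + a • H₀)) = fun l => z l w := funext fun l => by simp [hzH]
    rw [e]
    exact hw y hy
  -- the equations of the dual variety
  set Dset : Set (LefPen.Form r k d) :=
    {H | ¬ LefPen.Transversal k n 1 (LefPen.secToSpec i ({H} : Set (LefPen.Form r k d)))}
  have hDcone : ∀ t : k, t ≠ 0 → ∀ b ∈ Dset, t • b ∈ Dset := fun t ht b hb hT' => hb ((transversal_smul i ht b).1 hT')
  have h0D : (0 : LefPen.Form r k d) ∈ Dset := not_transversal_zero hn
  obtain ⟨h, hh, hh0, hhT⟩ := isZOpen_transversal hE hn H₀ hH₀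
  have hhD : ∀ b ∈ Dset, h b = 0 := fun b hb => by_contra fun hne => hb (hhT b hne)
  obtain ⟨Ph, hPh⟩ := Proj.exists_poly bs hh
  obtain ⟨e, hecomp⟩ : ∃ e, homogeneousComponent e Ph ≠ 0 := by
    by_contra hall
    push Not at hall
    refine hh0 ((hPh H₀).trans ?_)
    rw [← sum_homogeneousComponent Ph, Finset.sum_eq_zero fun e _ => hall e, map_zero]
  let E : Set ℕ := {e | ∃ f ∈ Proj.van bs Dset, f ≠ 0 ∧ f.IsHomogeneous e}
  have hE' : ∃ e, e ∈ E := ⟨e, _, Proj.component_mem_van bs hDcone (fun b hb => (hPh b).symm.trans (hhD b hb)) e,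
    hecomp, homogeneousComponent_isHomogeneous e Ph⟩
  obtain ⟨f, hf, hf0, hfhom⟩ := Nat.find_spec hE'
  have hepos : 1 ≤ Nat.find hE' := by
    by_contra h0
    rw [show Nat.find hE' = 0 by omega] at hfhom
    obtain ⟨t, rfl⟩ : ∃ t, f = C t := ⟨coeff 0 f, by
      refine MvPolynomial.ext _ _ fun μ => ?_
      rw [coeff_C]
      split_ifs with hμ
      · rw [← hμ]
      · exact hfhom.coeff_eq_zero fun hdeg => hμ ((Finsupp.degree_eq_zero_iff μ).1 hdeg).symm⟩
    have := hf 0 h0D
    rw [eval_C] at this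
    exact hf0 (by rw [this, map_zero])
  set δf := ∑ j, C (bs.equivFun H₀ j) * pderiv j f
  have hδhom : δf.IsHomogeneous (Nat.find hE' - 1) :=
    IsHomogeneous.sum _ _ _ fun j _ => IsHomogeneous.C_mul hfhom.pderiv _
  by_cases hA : δf = 0
  · -- no tangency on a general line
    choose v hv using fun l => hzsurj (Pi.single l 1)
    let gA : MvPolynomial (Fin M') k :=
      aeval (fun j => ∑ l, C (bs.equivFun (v l) j) * MvPolynomial.X l) f
    have hgA : ∀ w, eval (fun l => z l w) gA = eval (bs.equivFun w) f := by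
      intro w
      obtain ⟨a, ha⟩ := hz (w - ∑ l, z l w • v l) fun l => by
        rw [map_sub, map_sum, Finset.sum_eq_single l]
        · simp [hv l]
        · intro l' _ hl; simp [hv l', Pi.single_eq_of_ne (Ne.symm hl)]
        · simp
      have e1 : eval (fun l => z l w) gA = eval (bs.equivFun (∑ l, z l w • v l)) f := by
        show eval _ (aeval _ f) = _
        rw [aeval_def, eval₂_comp_left, ← eval₂_id]
        congr 1
        · ext t; simp [MvPolynomial.algebraMap_eq]
        · funext j; simp [mul_comm]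
      rw [e1]
      conv_rhs => rw [show w = (∑ l, z l w • v l) + a • H₀ by rw [← ha]; abel, map_add, map_smul]
      exact (eval_add_smul hA _ a).symm
    obtain ⟨c, hc⟩ : ∃ c, eval c f ≠ 0 := by
      by_contra hall
      push Not at hall
      exact hf0 (MvPolynomial.funext fun c => (hall c).trans (map_zero _).symm)
    refine ⟨_, Proj.isPolyFun_eval_lin z gA, ⟨bs.equivFun.symm c, ?_⟩, fun w hw a => Or.inl (by_contra fun hN => hw ?_)⟩
    · show eval (fun l => z l _) gA ≠ 0
      rw [hgA, LinearEquiv.apply_symm_apply]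
      exact hc
    · have h1 := hf _ (show w + a • H₀ ∈ Dset from hN)
      rw [← hgA] at h1
      simpa [hzH] using h1
  · have hδ : δf ∉ Proj.van bs Dset := fun hm => Nat.find_min hE' (by omega) ⟨δf, hm, hA, hδhom⟩
    obtain ⟨b₀, hb₀, hb₀ne⟩ : ∃ b ∈ Dset, eval (bs.equivFun b) δf ≠ 0 := by
      by_contra hall
      push Not at hall
      exact hδ hall
    obtain ⟨g₂, hg₂, hg₂0, hg₂'⟩ := Proj.exists_avoid_irreducible bs hDcone
      (fun f g hf hg hfg => tangent_irreducible hE hn hd hf hg hfg) h0D hh hh0 hhD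
      (f := fun v => eval (bs.equivFun v) δf) (Proj.isPolyFun_eval_lin bs.coord δf) ⟨b₀, hb₀, hb₀ne⟩
    obtain ⟨F, hF, hF0, hFv⟩ := isGeneric_inter hgenQ ⟨g₂, hg₂, hg₂0, hg₂'⟩
    refine ⟨F, hF, hF0, fun v hv a => ?_⟩
    obtain ⟨hvQ, hvδ⟩ := hFv v hv
    by_cases hTr : LefPen.Transversal k n 1 (LefPen.secToSpec i ({v + a • H₀} : Set (LefPen.Form r k d)))
    · exact Or.inl hTr
    refine Or.inr ?_
    set H := v + a • H₀
    have hδH : eval (bs.equivFun H) δf ≠ 0 := hvδ a hTr
    have hlocal : ∀ (b : Fin (r + 1)) (p : X) (hpb : i p ∈ LefPen.chart r k b), IsClosed ({p} : Set X) →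
        σ i b p hpb H.1 ∈ maximalIdeal (X.presheaf.stalk p) ^ 2 →
        σ i b p hpb H.1 ≠ 0 ∧
          (∀ yS : LefPen.Sec i ({H} : Set (LefPen.Form r k d)), LefPen.secι i ({H} : Set (LefPen.Form r k d)) yS = p →
            LefPen.IsOrdQuadSing k (n - 1) (LefPen.secToSpec i ({H} : Set (LefPen.Form r k d))) yS) ∧
          ∀ (e' : Fin (r + 1) → k), IsCoord i b p hpb e' → ∀ G : LefPen.Form r k d, eval e' G.1 = 0 →
            ∑ j, bs.equivFun G j * eval (bs.equivFun H) (pderiv j f) = 0 := by
      intro b p hpb hpc hsq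
      obtain ⟨y, hy, hpy⟩ := Set.mem_iUnion₂.1 (hT (Set.mem_univ p))
      obtain ⟨h1, h2, h3⟩ := hg y H (hvQ a y hy) b p hpb hpc hpy hsq
      exact ⟨h1, h2, h3 f fun H' hH' => hf H' hH'⟩
    rw [transversal_iff i n hn] at hTr
    push Not at hTr
    obtain ⟨b₁, p₁, hpb₁, hpc₁, hsq₁⟩ := hTr
    obtain ⟨hne₁, hord₁, hdf₁⟩ := hlocal b₁ p₁ hpb₁ hpc₁ hsq₁
    obtain ⟨yS, rfl⟩ := exists_mem_secι i b₁ p₁ hpb₁ H (Ideal.pow_le_self two_ne_zero hsq₁)
    refine oneOrdQuad_of_unique hn yS (hord₁ yS rfl) hpb₁ hsq₁ hne₁ fun b₂ p₂ hpb₂ hpc₂ hsq₂ => ?_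
    obtain ⟨-, -, hdf₂⟩ := hlocal b₂ p₂ hpb₂ hpc₂ hsq₂
    obtain ⟨e₁, he₁'⟩ := exists_coords i b₁ _ hpb₁ hpc₁
    have he₁ : IsCoord i b₁ _ hpb₁ e₁ := he₁'
    obtain ⟨e₂, he₂'⟩ := exists_coords i b₂ _ hpb₂ hpc₂
    have he₂ : IsCoord i b₂ _ hpb₂ e₂ := he₂'
    have hprop : e₂ = e₂ b₁ • e₁ := by
      by_contra hne
      obtain ⟨l, hl⟩ : ∃ l, e₂ l - e₁ l * e₂ b₁ ≠ 0 := by
        by_contra hall
        push Not at hall
        exact hne (funext fun l => by rw [Pi.smul_apply, smul_eq_mul, mul_comm]; exact sub_eq_zero.1 (hall l))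
      let G : LefPen.Form r k d := ⟨(MvPolynomial.X l - C (e₁ l) * MvPolynomial.X b₁) ^ d,
        (mem_homogeneousSubmodule d _).2 (by
          have h := ((isHomogeneous_X k l).sub (isHomogeneous_C_mul_X (e₁ l) b₁)).pow d
          rwa [one_mul] at h)⟩
      have hG₁ : eval e₁ G.1 = 0 := by
        simp [G, coord_self he₁, zero_pow (show d ≠ 0 by omega)]
      have hG₂ : eval e₂ G.1 ≠ 0 := by
        simp only [G, map_pow, map_sub, map_mul, eval_X, eval_C]
        exact pow_ne_zero d hl
      let G' : LefPen.Form r k d := H₀ - (eval e₂ H₀.1 / eval e₂ G.1) • G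
      have hG' : eval e₂ G'.1 = 0 := by
        simp [G', smul_eq_C_mul, div_mul_cancel₀ _ hG₂]
      have h1 := hdf₁ e₁ he₁ G hG₁
      have h2 := hdf₂ e₂ he₂ G' hG'
      simp only [G', map_sub, map_smul, Pi.sub_apply, Pi.smul_apply, smul_eq_mul, sub_mul, mul_assoc,
        Finset.sum_sub_distrib, ← Finset.mul_sum, h1, mul_zero, sub_zero] at h2
      refine hδH ?_
      rw [← h2]
      simp [δf, map_sum]
    have hb : e₂ b₁ ≠ 0 := fun h0 => by
      rw [h0, zero_smul] at hprop
      exact one_ne_zero ((coord_self he₂).symm.trans (congrFun hprop b₂))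
    have hpa := mem_chart_of_coord he₂ hb
    obtain ⟨e₃, he₃'⟩ := exists_coords i b₁ _ hpa hpc₂
    have he₃ : IsCoord i b₁ _ hpa e₃ := he₃'
    have h := coord_change he₃ he₂
    have h3 : e₁ = e₃ := smul_right_injective _ hb (hprop.symm.trans h)
    exact eq_of_coord (h3 ▸ he₃) he₁

end Groth.L05.Pencil
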