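import Groth.Agent.L24.Bertini.Jets
import Mathlib.RingTheory.KrullDimension.NonZeroDivisors
import Mathlib.Algebra.TrivSqZeroExt.Basic
import Mathlib.Algebra.DualNumber
import Mathlib.Algebra.MvPolynomial.Equiv
import Mathlib.Algebra.CharP.Defs

/-! In characteristic zero the degenerate tangency pairs of a chart do not dominate. -/

set_option autoImplicit false
set_option linter.style.haveILetI false
set_option maxHeartbeats 1000000

universe u

open MvPolynomial

noncomputable section

namespace Groth.L05.Pencil.Char0

open TrivSqZeroExt (inl inr fst snd)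

section Jets

variable {k : Type u} [Field k] {A : Type u} [CommRing A] [Algebra k A] {n : ℕ}
  (b : Module.Basis (Fin n) A Ω[A⁄k])

/-- The derivations dual to a basis of differentials. -/
def dl (l : Fin n) : Derivation k A A := (b.coord l).compDer (KaehlerDifferential.D k A)

/-- Value and derivatives. -/
def jv (x : A) : Fin (n + 1) → A := Fin.cons x fun l => dl b l x

theorem jv_mem_of_mem_sq (q : Ideal A) {x : A} (hx : x ∈ q ^ 2) (i : Fin (n + 1)) : jv b x i ∈ q := by
  rw [pow_two] at hx
  induction i using Fin.cases with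
  | zero => exact Ideal.mul_le_right hx
  | succ l =>
    show dl b l x ∈ q
    induction hx using Submodule.mul_induction_on' with
    | mem_mul_mem u hu v hv =>
      rw [Derivation.leibniz, smul_eq_mul, smul_eq_mul]
      exact add_mem (q.mul_mem_right _ hu) (q.mul_mem_right _ hv)
    | add u _ v _ hu hv => rw [map_add]; exact add_mem hu hv

/-- Evaluation over the dual numbers. -/
theorem eval₂_dual {σ : Type*} [Fintype σ] {K : Type u} [CommRing K] (f : k →+* K) (p g : σ → K) (P : MvPolynomial σ k) :
    fst (eval₂ ((TrivSqZeroExt.inlHom K K).comp f) (fun j => (inl (p j) + inr (g j) : DualNumber K)) P) = eval₂ f p P ∧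
    snd (eval₂ ((TrivSqZeroExt.inlHom K K).comp f) (fun j => (inl (p j) + inr (g j) : DualNumber K)) P) =
      ∑ j, g j * eval₂ f p (pderiv j P) := by
  classical
  induction P using MvPolynomial.induction_on with
  | C t => simp
  | add P Q hP hQ =>
    simp only [eval₂_add, TrivSqZeroExt.fst_add, TrivSqZeroExt.snd_add, hP.1, hP.2, hQ.1, hQ.2, map_add, mul_add,
      Finset.sum_add_distrib, and_self]
  | mul_X P l hP =>
    simp only [eval₂_mul, eval₂_X, TrivSqZeroExt.fst_mul, TrivSqZeroExt.snd_mul, TrivSqZeroExt.fst_add,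
      TrivSqZeroExt.snd_add, TrivSqZeroExt.fst_inl, TrivSqZeroExt.fst_inr, TrivSqZeroExt.snd_inl,
      TrivSqZeroExt.snd_inr, add_zero, zero_add, hP.1, hP.2, MulOpposite.smul_eq_mul_unop, MulOpposite.unop_op,
      smul_eq_mul, true_and]
    simp only [pderiv_mul, pderiv_X, eval₂_add, eval₂_mul, eval₂_X, Pi.single_apply, mul_ite, mul_one, mul_zero,
      apply_ite (eval₂ f p), eval₂_zero, mul_add, Finset.sum_add_distrib, Finset.sum_ite_eq,
      Finset.mem_univ, if_true, Finset.sum_mul, mul_assoc]
    ring

variable {N : ℕ} (al : Fin N → A)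

/-- The matrix of value and derivatives of the system. -/
def M : Matrix (Fin (n + 1)) (Fin N) A := Matrix.of fun i j => jv b (al j) i

/-- The equations of tangency pairs. -/
def eqs : Ideal (MvPolynomial (Fin N) A) := Ideal.span (Set.range (Groth.L03.GeneralVector.form (M b al)))

/-- A tangent pair together with a first order motion. -/
theorem dual_point {K : Type u} [CommRing K] (π : A →+* K) (p g : Fin N → K) (w : Fin n → K)
    (h0 : ∀ i, ∑ j, π (M b al i j) * p j = 0)
    (h1 : ∀ i, ∑ j, (π (M b al i j) * g j + (∑ l, w l * π (dl b l (M b al i j))) * p j) = 0) :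
    ∃ θ : MvPolynomial (Fin N) A →+* DualNumber K, (∀ x ∈ eqs b al, θ x = 0) ∧
      (∀ a : A, θ (C a) = inl (π a) + inr (∑ l, w l * π (dl b l a))) ∧
      ∀ j, θ (MvPolynomial.X j) = inl (p j) + inr (g j) := by
  let φ : A →+* DualNumber K :=
    { toFun := fun a => inl (π a) + inr (∑ l, w l * π (dl b l a))
      map_one' := by ext <;> simp
      map_mul' := fun x y => by
        ext
        · simp
        · simp [Finset.sum_mul, Finset.mul_sum, ← Finset.sum_add_distrib]
          exact Finset.sum_congr rfl fun l _ => by ring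
      map_zero' := by ext <;> simp
      map_add' := fun x y => by
        ext
        · simp
        · simp [mul_add, Finset.sum_add_distrib] }
  refine ⟨eval₂Hom φ fun j => inl (p j) + inr (g j), fun x hx => ?_, fun a => by simp [φ], fun j => by simp⟩
  have hle : eqs b al ≤ RingHom.ker (eval₂Hom φ fun j => (inl (p j) + inr (g j) : DualNumber K)) := by
    refine Ideal.span_le.2 ?_
    rintro _ ⟨i, rfl⟩
    rw [SetLike.mem_coe, RingHom.mem_ker, Groth.L03.GeneralVector.form, map_sum]
    ext
    · rw [TrivSqZeroExt.fst_sum, TrivSqZeroExt.fst_zero, ← h0 i]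
      refine Finset.sum_congr rfl fun j _ => ?_
      simp [φ]
    · rw [TrivSqZeroExt.snd_sum, TrivSqZeroExt.snd_zero, ← h1 i]
      refine Finset.sum_congr rfl fun j _ => ?_
      simp [φ]
  exact hle hx

end Jets

variable {k : Type u} [Field k] {A : Type u} [CommRing A] [Algebra k A] {n N : ℕ}
  (b : Module.Basis (Fin n) A Ω[A⁄k]) (al : Fin N → A)

/-- The Hessian of a member. -/
def hess (c : Fin N → k) : Matrix (Fin n) (Fin n) A :=
  Matrix.of fun l l' => ∑ j, algebraMap k A (c j) * dl b l' (dl b l (al j))

/-- A first order motion through a non-degenerate pair. -/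
theorem tangent_direction {q : Ideal A} (hq : q.IsMaximal) {c G : Fin N → k}
    (hc : ∀ i, ∑ j, algebraMap k A (c j) * jv b (al j) i ∈ q) (hnd : (hess b al c).det ∉ q)
    (hG : ∑ j, algebraMap k A (G j) * al j ∈ q) {P : MvPolynomial (Fin N) k}
    (hP : aeval (fun j => (MvPolynomial.X j : MvPolynomial (Fin N) A)) P ∈ eqs b al) :
    ∑ j, G j * eval c (pderiv j P) = 0 := by
  classical
  letI := Ideal.Quotient.field q
  set π := Ideal.Quotient.mk q
  set ι := π.comp (algebraMap k A)
  let H : Matrix (Fin n) (Fin n) (A ⧸ q) := π.mapMatrix (hess b al c)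
  have hdet : IsUnit H.det := by
    rw [isUnit_iff_ne_zero, show H.det = π (hess b al c).det from (RingHom.map_det π _).symm]
    exact fun h => hnd (Ideal.Quotient.eq_zero_iff_mem.1 h)
  let v : Fin n → A ⧸ q := fun l => - ∑ j, π (dl b l (al j)) * ι (G j)
  let w := H⁻¹.mulVec v
  have hw : H.mulVec w = v := by rw [Matrix.mulVec_mulVec, Matrix.mul_nonsing_inv H hdet, Matrix.one_mulVec]
  obtain ⟨θ, hθ, hθC, hθX⟩ := dual_point b al π (fun j => ι (c j)) (fun j => ι (G j)) w (fun i => by
    rw [← Ideal.Quotient.eq_zero_iff_mem.2 (hc i), map_sum]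
    refine Finset.sum_congr rfl fun j _ => ?_
    simp [M, ι, π, mul_comm]) (fun i => by
    rw [Finset.sum_add_distrib]
    induction i using Fin.cases with
    | zero =>
      have h1 : ∑ j, π (M b al 0 j) * ι (G j) = 0 := by
        rw [← Ideal.Quotient.eq_zero_iff_mem.2 hG, map_sum]
        exact Finset.sum_congr rfl fun j _ => by simp [M, jv, ι, π, mul_comm]
      have h2 : ∀ l : Fin n, ∑ j, π (dl b l (al j)) * ι (c j) = 0 := fun l => by
        rw [← Ideal.Quotient.eq_zero_iff_mem.2 (hc l.succ), map_sum]
        exact Finset.sum_congr rfl fun j _ => by simp [jv, ι, π, mul_comm]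
      rw [h1, zero_add]
      simp only [M, jv, Matrix.of_apply, Fin.cons_zero, Finset.sum_mul]
      rw [Finset.sum_comm]
      refine Finset.sum_eq_zero fun l _ => ?_
      simp only [mul_assoc, ← Finset.mul_sum, h2 l, mul_zero]
    | succ l =>
      have h := congrFun hw l
      simp only [Matrix.mulVec, dotProduct, v, H, RingHom.mapMatrix_apply, Matrix.map_apply, hess, Matrix.of_apply,
        map_sum, map_mul, Finset.sum_mul] at h
      simp only [M, jv, Matrix.of_apply, Fin.cons_succ, Finset.sum_mul]
      rw [Finset.sum_comm (f := fun (j : Fin N) (l' : Fin n) => w l' * π (dl b l' (dl b l (al j))) * ι (c j))]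
      rw [← eq_neg_iff_add_eq_zero.1 h, add_comm]
      congr 1
      refine Finset.sum_congr rfl fun l' _ => Finset.sum_congr rfl fun j _ => ?_
      simp only [ι, RingHom.comp_apply]
      ring)
  have h1 := congrArg snd (hθ _ hP)
  have e : θ.comp (aeval fun j => (MvPolynomial.X j : MvPolynomial (Fin N) A)).toRingHom =
      eval₂Hom ((TrivSqZeroExt.inlHom (A ⧸ q) (A ⧸ q)).comp ι) fun j => (inl (ι (c j)) + inr (ι (G j)) : DualNumber (A ⧸ q)) := by
    refine MvPolynomial.ringHom_ext (fun t => ?_) fun j => ?_
    · simp only [RingHom.comp_apply, AlgHom.toRingHom_eq_coe, RingHom.coe_coe, aeval_C, MvPolynomial.algebraMap_apply,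
        hθC, eval₂Hom_C, Derivation.map_algebraMap, map_zero, mul_zero, Finset.sum_const_zero]
      simp [ι, π]
    · simp only [RingHom.comp_apply, AlgHom.toRingHom_eq_coe, RingHom.coe_coe, aeval_X, hθX, eval₂Hom_X']
  have e' := RingHom.congr_fun e P
  simp only [RingHom.comp_apply, AlgHom.toRingHom_eq_coe, RingHom.coe_coe, coe_eval₂Hom] at e'
  rw [e', (eval₂_dual ι (fun j => ι (c j)) (fun j => ι (G j)) P).2, TrivSqZeroExt.snd_zero] at h1
  refine ι.injective ?_
  rw [map_zero, ← h1, map_sum]
  refine Finset.sum_congr rfl fun j _ => ?_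
  rw [map_mul]
  congr 1
  exact eval₂_comp ι c (pderiv j P)

/-- Full jets give a right inverse. -/
theorem exists_rightInverse
    (hjet : ∀ q : Ideal A, q.IsMaximal → ∀ l : A, ∃ c : Fin N → k, (∑ j, algebraMap k A (c j) * al j) - l ∈ q ^ 2) :
    ∃ s : Matrix (Fin N) (Fin (n + 1)) A, M b al * s = 1 := by
  classical
  let vec : A →ₗ[k] (Fin (n + 1) → A) :=
    { toFun := jv b
      map_add' := fun x y => by
        ext i
        induction i using Fin.cases <;> simp [jv]
      map_smul' := fun c x => by
        ext i
        induction i using Fin.cases <;> simp [jv] }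
  let T : (Fin N → A) →ₗ[A] (Fin (n + 1) → A) := Fintype.linearCombination A fun j => vec (al j)
  have hT : LinearMap.range T = ⊤ := by
    refine Groth.L24.Bertini.linear_eq_top_of_forall_maximal _ fun q hq => ?_
    set R := LinearMap.range T ⊔ q • ⊤
    have hvec : ∀ l, vec l ∈ R := fun l => by
      obtain ⟨c, hc⟩ := hjet q hq l
      have h1 : vec (∑ j, algebraMap k A (c j) * al j) ∈ R := by
        refine Submodule.mem_sup_left ⟨fun j => algebraMap k A (c j), ?_⟩
        rw [Fintype.linearCombination_apply, map_sum]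
        exact Finset.sum_congr rfl fun j _ => by
          rw [← Algebra.smul_def, map_smul, IsScalarTower.algebraMap_smul]
      have h2 : vec ((∑ j, algebraMap k A (c j) * al j) - l) ∈ R := by
        refine Submodule.mem_sup_right ?_
        rw [show vec ((∑ j, algebraMap k A (c j) * al j) - l) =
            ∑ i, (jv b ((∑ j, algebraMap k A (c j) * al j) - l) i) • (Pi.single i 1 : Fin (n + 1) → A) by
          funext i'
          simp [vec, Finset.sum_apply, Pi.single_apply]]
        exact Submodule.sum_mem _ fun i _ => Submodule.smul_mem_smul (jv_mem_of_mem_sq b q hc i) trivial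
      have := sub_mem h1 h2
      rwa [← map_sub, sub_sub_cancel] at this
    have he : Pi.single (M := fun _ => A) (0 : Fin (n + 1)) (1 : A) ∈ R := by
      convert hvec 1 using 1
      ext i
      induction i using Fin.cases <;> simp [vec, jv, dl]
    let φ : Ω[A⁄k] →ₗ[A] (Fin (n + 1) → A) :=
      { toFun := fun ω => Fin.cons 0 fun i => b.repr ω i
        map_add' := fun x y => by ext i; induction i using Fin.cases <;> simp
        map_smul' := fun c x => by ext i; induction i using Fin.cases <;> simp }
    have hφ : (⊤ : Submodule A Ω[A⁄k]) ≤ R.comap φ := by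
      rw [← KaehlerDifferential.span_range_derivation]
      refine Submodule.span_le.2 ?_
      rintro _ ⟨l, rfl⟩
      have : φ (KaehlerDifferential.D k A l) = vec l - l • Pi.single (0 : Fin (n + 1)) (1 : A) := by
        ext i
        induction i using Fin.cases <;> simp [φ, vec, jv, dl]
      show φ _ ∈ R
      rw [this]
      exact sub_mem (hvec l) (R.smul_mem _ he)
    refine eq_top_iff.2 fun y _ => ?_
    have hy : y = y 0 • Pi.single (0 : Fin (n + 1)) (1 : A) + φ (b.equivFun.symm fun i => y i.succ) := by
      ext i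
      induction i using Fin.cases <;> simp [φ, Finsupp.single_apply]
    rw [hy]
    exact add_mem (R.smul_mem _ he) (hφ (x := b.equivFun.symm fun i => y i.succ) trivial)
  choose s hs using fun l : Fin (n + 1) => (LinearMap.range_eq_top.1 hT) (Pi.single l 1)
  refine ⟨Matrix.of fun j l => s l j, Matrix.ext fun i l => ?_⟩
  have h := congrFun (hs l) i
  rw [Fintype.linearCombination_apply, Finset.sum_apply] at h
  rw [Matrix.mul_apply, Matrix.one_apply]
  simp only [M, Matrix.of_apply]
  rw [Finset.sum_congr rfl fun j _ => mul_comm (jv b (al j) i) (s l j)]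
  simpa [Pi.single_apply, vec] using h

end Groth.L05.Pencil.Char0
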