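import Groth.Agent.L24.Bertini.Jets
import Groth.Agent.L05.DualVar.Minors
import Groth.Agent.L02.CAlg.Bertini.Main
import Mathlib.RingTheory.KrullDimension.NonZeroDivisors
import Mathlib.LinearAlgebra.Matrix.NonsingularInverse
import Mathlib.RingTheory.Localization.Away.Basic

/-! A general member of a linear system whose jets have corank at most one, and zero somewhere, is smooth. -/

set_option autoImplicit false
set_option linter.style.haveILetI false
set_option maxHeartbeats 1000000

universe u

open MvPolynomial

noncomputable section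

namespace Groth.L05.Pencil

variable {k : Type u} [Field k]

/-- An invertible square minor gives a general vector outside the kernels. -/
theorem exists_poly_rows {B : Type u} [CommRing B] [Algebra k B] [Algebra.FiniteType k B] {D σ N : ℕ}
    (hd : ringKrullDim B ≤ D) (hDσ : D < σ) (Mx : Matrix (Fin σ) (Fin N) B) (cols : Fin σ → Fin N)
    (hu : IsUnit (Matrix.of fun s t => Mx s (cols t)).det) :
    ∃ P : MvPolynomial (Fin N) k, P ≠ 0 ∧ ∀ c : Fin N → k, eval c P ≠ 0 →
      Ideal.span (Set.range fun i => ∑ j, algebraMap k B (c j) * Mx i j) = ⊤ := by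
  classical
  set Q := Matrix.of fun s t => Mx s (cols t)
  let S : Matrix (Fin N) (Fin σ) B := Matrix.of fun j i => ∑ t, if cols t = j then Q⁻¹ t i else 0
  have hS : Mx * S = 1 := by
    rw [← Matrix.mul_nonsing_inv Q hu]
    refine Matrix.ext fun l i => ?_
    simp only [Matrix.mul_apply, S, Matrix.of_apply, Finset.mul_sum, mul_ite, mul_zero]
    rw [Finset.sum_comm]
    refine Finset.sum_congr rfl fun t _ => ?_
    rw [Finset.sum_ite_eq, if_pos (Finset.mem_univ _)]
    rfl
  exact Groth.L03.GeneralVector.exists_poly Mx S hS hd hDσ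

theorem exists_rows_cols {K : Type u} [Field K] {N ρ σ : ℕ} (v : Fin N → Fin ρ → K)
    (h : σ ≤ Module.finrank K (Submodule.span K (Set.range v))) :
    ∃ (rows : Fin σ → Fin ρ) (cols : Fin σ → Fin N), (Matrix.of fun s t => v (cols t) (rows s)).det ≠ 0 := by
  classical
  obtain ⟨f, hf, -, hli⟩ := Submodule.exists_fun_fin_finrank_span_eq K (Set.range v)
  choose g hg using hf
  let cols : Fin σ → Fin N := fun t => g (Fin.castLE h t)
  have hli' : LinearIndependent K (fun t => v (cols t)) := by
    have : (fun t => v (cols t)) = f ∘ Fin.castLE h := funext fun t => hg _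
    rw [this]
    exact hli.comp _ (Fin.castLE_injective h)
  obtain ⟨rows, hrows⟩ := Groth.L05.DualVar.exists_minor _ hli'
  refine ⟨rows, cols, fun h0 => hrows ?_⟩
  rw [← Matrix.det_transpose]
  exact h0


/-- A general member of a linear system with jets of corank at most one has no singular zero. -/
theorem exists_poly_avoid {A : Type u} [CommRing A] [IsDomain A] [Algebra k A] (n : ℕ) (hn : 1 ≤ n)
    [Algebra.IsStandardSmoothOfRelativeDimension n k A] {N : ℕ} (al : Fin N → A)
    (h1 : ∀ q : Ideal A, q.IsMaximal → ∃ l₁ : A, ∀ l : A, ∃ (c : Fin N → k) (t : k),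
      (∑ j, algebraMap k A (c j) * al j) + algebraMap k A t * l₁ - l ∈ q ^ 2)
    (h2 : ∃ q : Ideal A, q.IsMaximal ∧ ∀ l : A, ∃ c : Fin N → k, (∑ j, algebraMap k A (c j) * al j) - l ∈ q ^ 2) :
    ∃ P : MvPolynomial (Fin N) k, P ≠ 0 ∧ ∀ c : Fin N → k, eval c P ≠ 0 →
      ∀ q : Ideal A, q.IsMaximal → ∑ j, algebraMap k A (c j) * al j ∉ q ^ 2 := by
  classical
  haveI : Algebra.IsStandardSmooth k A := Algebra.IsStandardSmoothOfRelativeDimension.isStandardSmooth n
  haveI : Algebra.FiniteType k A := inferInstance
  let b : Module.Basis (Fin n) A Ω[A⁄k] := Module.finBasisOfFinrankEq A _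
    (Module.finrank_eq_of_rank_eq (Algebra.IsStandardSmoothOfRelativeDimension.rank_kaehlerDifferential n))
  let vec : A →ₗ[k] (Fin (n + 1) → A) :=
    { toFun := fun x => Fin.cons x fun i => b.repr (KaehlerDifferential.D k A x) i
      map_add' := fun x y => by
        ext i
        induction i using Fin.cases <;> simp
      map_smul' := fun c x => by
        ext i
        induction i using Fin.cases with
        | zero => simp
        | succ i =>
          simp only [Fin.cons_succ, Pi.smul_apply, RingHom.id_apply]
          rw [Derivation.map_smul, ← IsScalarTower.algebraMap_smul A c (KaehlerDifferential.D k A x), map_smul]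
          simp [Algebra.smul_def] }
  have hsq : ∀ (q : Ideal A), ∀ x ∈ q ^ 2, ∀ i, vec x i ∈ q := by
    intro q x hx
    rw [pow_two, ← smul_eq_mul] at hx
    refine Submodule.smul_induction_on hx (fun u hu v hv i => ?_) fun u v hu hv i => by
      rw [map_add]; exact add_mem (hu i) (hv i)
    induction i using Fin.cases with
    | zero => exact q.mul_mem_right _ hu
    | succ i =>
      show b.repr (KaehlerDifferential.D k A (u • v)) i ∈ q
      rw [smul_eq_mul, Derivation.leibniz, map_add, map_smul, map_smul, Finsupp.add_apply, Finsupp.smul_apply,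
        Finsupp.smul_apply, smul_eq_mul, smul_eq_mul]
      exact add_mem (q.mul_mem_right _ hu) (q.mul_mem_right _ hv)
  -- the residual column space
  have hrank : ∀ (q : Ideal A) (hq : q.IsMaximal) (L : List A),
      (∀ l : A, ∃ (c : Fin N → k) (t : Fin L.length → k),
        (∑ j, algebraMap k A (c j) * al j) + (∑ s, algebraMap k A (t s) * L.get s) - l ∈ q ^ 2) →
      ∃ (rows : Fin (n + 1 - L.length) → Fin (n + 1)) (cols : Fin (n + 1 - L.length) → Fin N),
        (Matrix.of fun s t => vec (al (cols t)) (rows s)).det ∉ q := by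
    intro q hq L hL
    letI := Ideal.Quotient.field q
    let π := Ideal.Quotient.mk q
    let col : Fin N → Fin (n + 1) → A ⧸ q := fun j i => π (vec (al j) i)
    let ext : Fin L.length → Fin (n + 1) → A ⧸ q := fun s i => π (vec (L.get s) i)
    let W := Submodule.span (A ⧸ q) (Set.range col) ⊔ Submodule.span (A ⧸ q) (Set.range ext)
    let R : Submodule A (Fin (n + 1) → A) :=
      { carrier := {y | (fun i => π (y i)) ∈ W}
        zero_mem' := by
          show (fun i => π ((0 : Fin (n + 1) → A) i)) ∈ W
          simp only [Pi.zero_apply, map_zero]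
          exact zero_mem W
        add_mem' := fun {y z} hy hz => by
          have := add_mem (show (fun i => π (y i)) ∈ W from hy) (show (fun i => π (z i)) ∈ W from hz)
          show (fun i => π ((y + z) i)) ∈ W
          simp only [Pi.add_apply, map_add]
          exact this
        smul_mem' := fun x y hy => by
          have := W.smul_mem (π x) (show (fun i => π (y i)) ∈ W from hy)
          show (fun i => π ((x • y) i)) ∈ W
          simp only [Pi.smul_apply, smul_eq_mul, map_mul]
          exact this }
    have hvec : ∀ l, vec l ∈ R := by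
      intro l
      obtain ⟨c, t, hct⟩ := hL l
      show (fun i => π (vec l i)) ∈ W
      have e : (fun i => π (vec l i)) = (∑ j, π (algebraMap k A (c j)) • col j) +
          ∑ s, π (algebraMap k A (t s)) • ext s := by
        funext i
        have h := hsq q _ hct i
        rw [map_sub, Pi.sub_apply, ← Ideal.Quotient.eq] at h
        rw [← h]
        simp only [← Algebra.smul_def, map_add, map_sum, map_smul, Pi.add_apply, Finset.sum_apply, Pi.smul_apply,
          smul_eq_mul, col, ext, π]
        simp only [Algebra.smul_def, map_mul]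
      rw [e]
      exact Submodule.add_mem_sup (Submodule.sum_mem _ fun j _ => Submodule.smul_mem _ _ (Submodule.subset_span ⟨j, rfl⟩))
        (Submodule.sum_mem _ fun s _ => Submodule.smul_mem _ _ (Submodule.subset_span ⟨s, rfl⟩))
    have he : Pi.single (M := fun _ => A) (0 : Fin (n + 1)) (1 : A) ∈ R := by
      convert hvec 1 using 1
      ext i
      induction i using Fin.cases with
      | zero => simp [vec]
      | succ i => simp [vec]
    let φ : Ω[A⁄k] →ₗ[A] (Fin (n + 1) → A) :=
      { toFun := fun ω => Fin.cons 0 fun i => b.repr ω i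
        map_add' := fun x y => by ext i; induction i using Fin.cases <;> simp
        map_smul' := fun c x => by ext i; induction i using Fin.cases <;> simp }
    have hφ : (⊤ : Submodule A Ω[A⁄k]) ≤ R.comap φ := by
      rw [← KaehlerDifferential.span_range_derivation]
      refine Submodule.span_le.2 ?_
      rintro _ ⟨l, rfl⟩
      have : φ (KaehlerDifferential.D k A l) = vec l - l • Pi.single (0 : Fin (n + 1)) (1 : A) := by
        ext i
        induction i using Fin.cases with
        | zero => simp [φ, vec]
        | succ i => simp [φ, vec]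
      show φ _ ∈ R
      rw [this]
      exact sub_mem (hvec l) (R.smul_mem _ he)
    have htop : W = ⊤ := by
      refine eq_top_iff.2 fun z _ => ?_
      choose y hy using fun i => Ideal.Quotient.mk_surjective (I := q) (z i)
      have hy' : y = y 0 • Pi.single (0 : Fin (n + 1)) (1 : A) + φ (b.equivFun.symm fun i => y i.succ) := by
        ext i
        induction i using Fin.cases with
        | zero => simp [φ]
        | succ i => simp [φ, Finsupp.single_apply]
      have hmem : y ∈ R := by
        rw [hy']
        exact add_mem (R.smul_mem _ he) (hφ (x := b.equivFun.symm fun i => y i.succ) trivial)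
      have : (fun i => π (y i)) ∈ W := hmem
      rwa [show (fun i => π (y i)) = z from funext hy] at this
    have hdim : n + 1 - L.length ≤ Module.finrank (A ⧸ q) (Submodule.span (A ⧸ q) (Set.range col)) := by
      have h3 := Submodule.finrank_add_le_finrank_add_finrank (Submodule.span (A ⧸ q) (Set.range col))
        (Submodule.span (A ⧸ q) (Set.range ext))
      change Module.finrank _ W ≤ _ at h3
      rw [(LinearEquiv.ofEq W ⊤ htop).finrank_eq, finrank_top, Module.finrank_fin_fun] at h3
      have h4 := finrank_range_le_card (R := A ⧸ q) ext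
      rw [Set.finrank, Fintype.card_fin] at h4
      omega
    obtain ⟨rows, cols, hdet⟩ := exists_rows_cols col hdim
    refine ⟨rows, cols, fun hmem => hdet ?_⟩
    rw [show (Matrix.of fun s t => col (cols t) (rows s)) = π.mapMatrix (Matrix.of fun s t => vec (al (cols t)) (rows s))
      from rfl, ← RingHom.map_det]
    exact Ideal.Quotient.eq_zero_iff_mem.2 hmem
  have hvan : ∀ (c : Fin N → k) (q : Ideal A), ∑ j, algebraMap k A (c j) * al j ∈ q ^ 2 →
      ∀ i, ∑ j, algebraMap k A (c j) * vec (al j) i ∈ q := by
    intro c q h i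
    have h' := hsq q _ h i
    simp only [← Algebra.smul_def, map_sum, map_smul, Finset.sum_apply, Pi.smul_apply] at h'
    simp only [← Algebra.smul_def]
    exact h'
  obtain ⟨q₀, hq₀, hfull⟩ := h2
  obtain ⟨rows₀, cols₀, hδ₀⟩ := hrank q₀ hq₀ [] fun l => by
    obtain ⟨c, hc⟩ := hfull l
    exact ⟨c, Fin.elim0, by simpa using hc⟩
  set δ₀ := (Matrix.of fun s t => vec (al (cols₀ t)) (rows₀ s)).det with hδ₀def
  have hδ₀0 : δ₀ ≠ 0 := fun h => hδ₀ (h ▸ zero_mem _)
  haveI : Algebra.FiniteType k (Localization.Away δ₀) :=
    Algebra.FiniteType.trans (inferInstance : Algebra.FiniteType k A) inferInstance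
  obtain ⟨P₀, hP₀, hP₀'⟩ := exists_poly_rows (k := k) (B := Localization.Away δ₀)
    ((L02.CAlg.BertiniV.ringKrullDim_away_le δ₀).trans (Groth.L24.Bertini.ringKrullDim_le (k := k) n))
    (show n < n + 1 - ([] : List A).length by simp)
    (Matrix.of fun s j => algebraMap A (Localization.Away δ₀) (vec (al j) (rows₀ s))) cols₀
    (by
      have h := IsLocalization.Away.algebraMap_isUnit (S := Localization.Away δ₀) δ₀
      rw [hδ₀def, RingHom.map_det] at h
      exact h)
  have hd1 : ringKrullDim (A ⧸ Ideal.span {δ₀}) ≤ ((n - 1 : ℕ) : WithBot ℕ∞) := by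
    have h := (ringKrullDim_quotient_succ_le_of_nonZeroDivisor (mem_nonZeroDivisors_of_ne_zero hδ₀0)).trans
      (Groth.L24.Bertini.ringKrullDim_le (k := k) n)
    revert h
    generalize ringKrullDim (A ⧸ Ideal.span {δ₀}) = e
    intro h
    match e with
    | ⊥ => exact bot_le
    | (⊤ : ℕ∞) =>
      exfalso
      have h' : ((⊤ : ℕ∞) + 1 : ℕ∞) ≤ (n : ℕ∞) := by exact_mod_cast h
      simp at h'
    | ((m : ℕ) : ℕ∞) =>
      have h' : m + 1 ≤ n := by exact_mod_cast h
      exact WithBot.coe_le_coe.2 (Nat.cast_le.2 (show m ≤ n - 1 by omega))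
  let εs : (Fin n → Fin (n + 1)) × (Fin n → Fin N) → A ⧸ Ideal.span {δ₀} := fun p =>
    Ideal.Quotient.mk _ (Matrix.of fun s t => vec (al (p.2 t)) (p.1 s)).det
  have hF : ∀ p, ∃ P : MvPolynomial (Fin N) k, P ≠ 0 ∧ ∀ c, eval c P ≠ 0 →
      Ideal.span (Set.range fun s => ∑ j, algebraMap k (Localization.Away (εs p)) (c j) *
        algebraMap _ (Localization.Away (εs p)) (Ideal.Quotient.mk (Ideal.span {δ₀}) (vec (al j) (p.1 s)))) = ⊤ := by
    intro p
    haveI : Algebra.FiniteType k (A ⧸ Ideal.span {δ₀}) :=
      (inferInstance : Algebra.FiniteType k A).of_surjective _ (Ideal.Quotient.mkₐ_surjective k _)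
    haveI : Algebra.FiniteType k (Localization.Away (εs p)) :=
      Algebra.FiniteType.trans (inferInstance : Algebra.FiniteType k (A ⧸ Ideal.span {δ₀})) inferInstance
    refine exists_poly_rows (B := Localization.Away (εs p)) ((L02.CAlg.BertiniV.ringKrullDim_away_le _).trans hd1)
      (show n - 1 < n by omega) (Matrix.of fun s j => algebraMap _ (Localization.Away (εs p))
        (Ideal.Quotient.mk (Ideal.span {δ₀}) (vec (al j) (p.1 s)))) p.2 ?_
    have h := IsLocalization.Away.algebraMap_isUnit (S := Localization.Away (εs p)) (εs p)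
    simp only [εs, RingHom.map_det] at h
    exact h
  choose F hF0 hF' using hF
  refine ⟨P₀ * ∏ p, F p, mul_ne_zero hP₀ (Finset.prod_ne_zero_iff.2 fun p _ => hF0 p), fun c hc q hq hmem => ?_⟩
  rw [map_mul, map_prod, mul_ne_zero_iff, Finset.prod_ne_zero_iff] at hc
  letI := Ideal.Quotient.field q
  have hz : ∀ i, Ideal.Quotient.mk q (∑ j, algebraMap k A (c j) * vec (al j) i) = 0 :=
    fun i => Ideal.Quotient.eq_zero_iff_mem.2 (hvan c q hmem i)
  by_cases hδq : δ₀ ∈ q
  · obtain ⟨l₁, hl₁⟩ := h1 q hq
    obtain ⟨rows, cols, hdet⟩ := hrank q hq [l₁] fun l => by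
      obtain ⟨c, t, hct⟩ := hl₁ l
      exact ⟨c, fun _ => t, by simpa using hct⟩
    let p : (Fin n → Fin (n + 1)) × (Fin n → Fin N) :=
      (fun s => rows (Fin.cast (by simp) s), fun s => cols (Fin.cast (by simp) s))
    have hp : (Matrix.of fun s t => vec (al (p.2 t)) (p.1 s)).det ∉ q := by
      have e : (Matrix.of fun s t => vec (al (p.2 t)) (p.1 s)) = (Matrix.of fun s t => vec (al (cols t)) (rows s)).submatrix
          (finCongr (show n = n + 1 - [l₁].length by simp)) (finCongr (show n = n + 1 - [l₁].length by simp)) := rfl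
      rw [e, Matrix.det_submatrix_equiv_self]
      exact hdet
    let π₁ : A ⧸ Ideal.span {δ₀} →+* A ⧸ q :=
      Ideal.Quotient.factor (Ideal.span_le.2 (Set.singleton_subset_iff.2 hδq))
    let π₂ : Localization.Away (εs p) →+* A ⧸ q := IsLocalization.Away.lift (εs p) (g := π₁)
      (isUnit_iff_ne_zero.2 fun h0 => hp (Ideal.Quotient.eq_zero_iff_mem.1 h0))
    have h := hF' p c (hc.2 p (Finset.mem_univ _))
    have hle : Ideal.span (Set.range fun s => ∑ j, algebraMap k (Localization.Away (εs p)) (c j) *
        algebraMap _ (Localization.Away (εs p)) (Ideal.Quotient.mk (Ideal.span {δ₀}) (vec (al j) (p.1 s)))) ≤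
        RingHom.ker π₂ := by
      refine Ideal.span_le.2 ?_
      rintro _ ⟨s, rfl⟩
      rw [SetLike.mem_coe, RingHom.mem_ker, ← hz (p.1 s), map_sum, map_sum]
      refine Finset.sum_congr rfl fun j _ => ?_
      rw [IsScalarTower.algebraMap_apply k (A ⧸ Ideal.span {δ₀}) (Localization.Away (εs p)), ← map_mul]
      refine (IsLocalization.Away.lift_eq (εs p) _ _).trans ?_
      rw [← Ideal.Quotient.mk_algebraMap, ← map_mul]
      rfl
    exact RingHom.ker_ne_top π₂ (eq_top_iff.2 (h ▸ hle))
  · let π₂ : Localization.Away δ₀ →+* A ⧸ q := IsLocalization.Away.lift δ₀ (g := Ideal.Quotient.mk q)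
      (isUnit_iff_ne_zero.2 fun h0 => hδq (Ideal.Quotient.eq_zero_iff_mem.1 h0))
    have h := hP₀' c hc.1
    have hle : Ideal.span (Set.range fun s => ∑ j, algebraMap k (Localization.Away δ₀) (c j) *
        (Matrix.of fun s j => algebraMap A (Localization.Away δ₀) (vec (al j) (rows₀ s))) s j) ≤ RingHom.ker π₂ := by
      refine Ideal.span_le.2 ?_
      rintro _ ⟨s, rfl⟩
      rw [SetLike.mem_coe, RingHom.mem_ker, ← hz (rows₀ s), map_sum, map_sum]
      refine Finset.sum_congr rfl fun j _ => ?_
      rw [Matrix.of_apply, IsScalarTower.algebraMap_apply k A (Localization.Away δ₀), ← map_mul]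
      exact IsLocalization.Away.lift_eq δ₀ _ _
    exact RingHom.ker_ne_top π₂ (eq_top_iff.2 (h ▸ hle))

end Groth.L05.Pencil
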