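import Groth.Agent.L05.Pencil.Members

/-! Lefschetz pencils form an open set. -/

set_option autoImplicit false
set_option linter.style.haveILetI false
set_option backward.isDefEq.respectTransparency false
set_option backward.isDefEq.respectTransparency.types false
set_option maxHeartbeats 1000000

universe u

open CategoryTheory CategoryTheory.Limits AlgebraicGeometry TopologicalSpace MvPolynomial IsLocalRing

noncomputable section

namespace Groth.L05.Pencil

open Groth.L05.DualVar

variable {k : Type u} [Field k] {V : Type u} [AddCommGroup V] [Module k V]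

theorem isPolyFun_mul {f g : V → k} (hf : LefPen.IsPolyFun k f) (hg : LefPen.IsPolyFun k g) :
    LefPen.IsPolyFun k fun v => f v * g v := by
  unfold LefPen.IsPolyFun at hf hg ⊢
  exact mul_mem hf hg

theorem isZOpen_inter {A B : Set V} (hA : LefPen.IsZOpen k A) (hB : LefPen.IsZOpen k B) :
    LefPen.IsZOpen k (A ∩ B) := by
  rintro v ⟨ha, hb⟩
  obtain ⟨f, hf, hf0, hfA⟩ := hA v ha
  obtain ⟨g, hg, hg0, hgB⟩ := hB v hb
  exact ⟨_, isPolyFun_mul hf hg, mul_ne_zero hf0 hg0,
    fun w hw => ⟨hfA w (left_ne_zero_of_mul hw), hgB w (right_ne_zero_of_mul hw)⟩⟩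

variable {r d : ℕ}

theorem isZOpen_linearIndependent :
    LefPen.IsZOpen k {v : LefPen.Form r k d × LefPen.Form r k d | LinearIndependent k ![v.1, v.2]} := by
  classical
  intro v₀ hv₀
  let ev : LefPen.Form r k d →ₗ[k] (Groth.L14.Fano.Mon (r + 1) d → k) :=
    LinearMap.pi fun μ => (MvPolynomial.lcoeff k μ.1).comp (CohB1.polyGrading r k d).subtype
  have hev : Function.Injective ev := fun F G h => by
    rw [Subtype.ext_iff, Groth.L05.HypBertini.form_eq_sum F, Groth.L05.HypBertini.form_eq_sum G]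
    exact Finset.sum_congr rfl fun μ _ => congrArg (monomial μ.1) (congrFun h μ)
  obtain ⟨col, hcol⟩ := exists_minor (fun s => ev (![v₀.1, v₀.2] s))
    (hv₀.map' ev (LinearMap.ker_eq_bot.2 hev))
  refine ⟨fun v => (Matrix.of fun s t => ev (![v.1, v.2] s) (col t)).det, isPolyFun_det _ fun s t => ?_, hcol,
    fun v hv => ?_⟩
  · fin_cases s
    · exact isPolyFun_linear (V := LefPen.Form r k d × LefPen.Form r k d) ((LinearMap.proj (col t)).comp (ev.comp (LinearMap.fst k (LefPen.Form r k d) (LefPen.Form r k d))))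
    · exact isPolyFun_linear (V := LefPen.Form r k d × LefPen.Form r k d) ((LinearMap.proj (col t)).comp (ev.comp (LinearMap.snd k (LefPen.Form r k d) (LefPen.Form r k d))))
  · have hu := Matrix.linearIndependent_rows_iff_isUnit.2
      ((Matrix.isUnit_iff_isUnit_det _).2 (isUnit_iff_ne_zero.2 hv))
    exact LinearIndependent.of_comp ((LinearMap.funLeft k k col).comp ev) hu

variable [IsAlgClosed k] {X : Scheme.{u}} {i : X ⟶ CohB1.ProjSpace r k}
  [IsClosedImmersion i] [IrreducibleSpace X]
  {S : Finset (MvPolynomial (Fin (r + 1)) k)} {m n : ℕ}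
  [SmoothOfRelativeDimension n (i ≫ CohB1.ProjSpace.toSpec r k)] [IsReduced X] [IsLocallyNoetherian X]

omit [IsAlgClosed k] [IrreducibleSpace X] [IsClosedImmersion i] [IsReduced X] [IsLocallyNoetherian X]
  [SmoothOfRelativeDimension n (i ≫ CohB1.ProjSpace.toSpec r k)] in
/-- A polynomial function nonzero at a transversal member forces the finiteness condition. -/
theorem finite_of_poly {f : LefPen.Form r k d → k} (hf : LefPen.IsPolyFun k f)
    (hfT : ∀ H, f H ≠ 0 → LefPen.Transversal k n 1 (LefPen.secToSpec i ({H} : Set (LefPen.Form r k d))))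
    {F G : LefPen.Form r k d} {c₁ : k} (h : f (F + c₁ • G) ≠ 0) :
    {c : k | ¬ LefPen.Transversal k n 1 (LefPen.secToSpec i ({F + c • G} : Set (LefPen.Form r k d)))}.Finite := by
  classical
  obtain ⟨P, hP⟩ := exists_poly_comp (![1, MvPolynomial.X 0] : Fin 2 → MvPolynomial (Fin 1) k) ![F, G] hf
  let T : Polynomial k := MvPolynomial.aeval (fun _ : Fin 1 => (Polynomial.X : Polynomial k)) P
  have hT : ∀ c : k, T.eval c = f (F + c • G) := by
    intro c
    have h1 : f (F + c • G) = eval (fun _ => c) P := by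
      rw [← hP (fun _ => c)]
      simp
    rw [h1]
    show (Polynomial.aeval c) (MvPolynomial.aeval (fun _ : Fin 1 => (Polynomial.X : Polynomial k)) P) = _
    rw [← AlgHom.comp_apply, MvPolynomial.comp_aeval]
    simp [MvPolynomial.aeval_eq_eval]
  have hT0 : T ≠ 0 := fun h0 => h (by rw [← hT, h0, Polynomial.eval_zero])
  refine (Polynomial.finite_setOfPred_isRoot hT0).subset fun c hc => ?_
  by_contra hne
  exact hc (hfT _ (by rw [← hT]; exact hne))

/-- Lefschetz pencils form an open set of pairs. -/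
theorem isZOpen_lefschetz (hE : Eqns i S m n) (hn : 1 ≤ n) :
    LefPen.IsZOpen k {v : LefPen.Form r k d × LefPen.Form r k d | LefPen.IsLefschetzPencil k n i d v.1 v.2} := by
  intro v₀ hv₀
  obtain ⟨h1, h2, h3, h4⟩ := hv₀
  haveI : Infinite k := IsAlgClosed.instInfinite
  obtain ⟨f₁, hf₁, hf₁0, hf₁A⟩ := isZOpen_inter (isZOpen_inter (isZOpen_linearIndependent (r := r) (d := d))
    (isZOpen_transversal2 hE hn)) (isZOpen_members hE hn) v₀
    ⟨⟨h1, h2⟩, fun H hH => (good_iff i n H).1 (h4 H hH)⟩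
  obtain ⟨c₁, hc₁⟩ := h3.infinite_compl.nonempty
  obtain ⟨f, hf, hf0, hfT⟩ := isZOpen_transversal hE hn (v₀.1 + c₁ • v₀.2) (not_not.1 hc₁)
  refine ⟨_, isPolyFun_mul hf₁ (isPolyFun_comp (LinearMap.fst k (LefPen.Form r k d) (LefPen.Form r k d) +
    c₁ • LinearMap.snd k (LefPen.Form r k d) (LefPen.Form r k d)) hf), mul_ne_zero hf₁0 hf0, fun v hv => ?_⟩
  obtain ⟨⟨ha, hb⟩, hc⟩ := hf₁A v (left_ne_zero_of_mul hv)
  exact ⟨ha, hb, finite_of_poly hf hfT (right_ne_zero_of_mul hv), fun H hH => (good_iff i n H).2 (hc H hH)⟩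

end Groth.L05.Pencil
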