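import Groth.Agent.L05.Pencil.Pair
import Groth.Agent.L05.Nd.Crit
import Groth.Agent.L05.Nd.Family
import Groth.Agent.L05.DualVar.Final

/-! Transversality of the base locus is open in the pencil. -/

set_option autoImplicit false
set_option linter.style.haveILetI false
set_option backward.isDefEq.respectTransparency false
set_option backward.isDefEq.respectTransparency.types false
set_option maxHeartbeats 1000000

universe u

open CategoryTheory CategoryTheory.Limits AlgebraicGeometry TopologicalSpace MvPolynomial IsLocalRing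

noncomputable section

namespace Groth.L05.Pencil

open Groth.L05.OrdQuad (σ exists_coords)
open Groth.L05.DualVar
open Groth.L05.Nd (PFun spec cst fam spec_fam spec_cst isPolyFun_coeff exists_frame)

section PolyFun

variable {k : Type u} [Field k] {V W : Type u} [AddCommGroup V] [Module k V] [AddCommGroup W] [Module k W]

theorem isPolyFun_comp (π : V →ₗ[k] W) {f : W → k} (hf : LefPen.IsPolyFun k f) :
    LefPen.IsPolyFun k fun v => f (π v) := by
  unfold LefPen.IsPolyFun at hf ⊢
  induction hf using Algebra.adjoin_induction with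
  | mem g hg =>
    obtain ⟨l, rfl⟩ := hg
    exact Algebra.subset_adjoin ⟨l.comp π, rfl⟩
  | algebraMap a => exact Subalgebra.algebraMap_mem _ a
  | add g h _ _ hg hh => exact add_mem hg hh
  | mul g h _ _ hg hh => exact mul_mem hg hh

/-- Polynomial functions pulled back by a linear map. -/
def pull (π : V →ₗ[k] W) : PFun k W →+* PFun k V where
  toFun f := ⟨fun v => f.1 (π v), isPolyFun_comp π f.2⟩
  map_one' := rfl
  map_mul' _ _ := rfl
  map_zero' := rfl
  map_add' _ _ := rfl

theorem spec_pull {r : ℕ} (π : V →ₗ[k] W) (v : V) (p : MvPolynomial (Fin (r + 1)) (PFun k W)) :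
    spec v (MvPolynomial.map (pull π) p) = spec (π v) p := by
  rw [spec, spec, map_map]
  rfl

end PolyFun

variable {k : Type u} [Field k] {r m d : ℕ} (S : Finset (MvPolynomial (Fin (r + 1)) k))

/-- The rows of the Jacobian of a pencil and some equations, as families. -/
def rowFam (p : Fin m → ↥S) : Fin (m + 2) → MvPolynomial (Fin (r + 1)) (PFun k (LefPen.Form r k d × LefPen.Form r k d)) :=
  Fin.cons (MvPolynomial.map (pull (LinearMap.fst k _ _)) (fam LinearMap.id))
    (Fin.cons (MvPolynomial.map (pull (LinearMap.snd k _ _)) (fam LinearMap.id)) fun s => cst (p s).1)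

theorem spec_rowFam (p : Fin m → ↥S) (v : LefPen.Form r k d × LefPen.Form r k d) (s : Fin (m + 2)) :
    spec v (rowFam S p s) =
      (Fin.cons v.1.1 (Fin.cons v.2.1 fun s => (p s).1) : Fin (m + 2) → MvPolynomial (Fin (r + 1)) k) s := by
  refine Fin.cases ?_ (fun s => ?_) s
  · rw [rowFam, Fin.cons_zero, Fin.cons_zero, spec_pull, spec_fam]; rfl
  · refine Fin.cases ?_ (fun s => ?_) s
    · rw [rowFam, Fin.cons_succ, Fin.cons_succ, Fin.cons_zero, Fin.cons_zero, spec_pull, spec_fam]; rfl
    · rw [rowFam, Fin.cons_succ, Fin.cons_succ, Fin.cons_succ, Fin.cons_succ, spec_cst]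

/-- A maximal minor of the Jacobian, as a family. -/
def minorFam (p : Fin m → ↥S) (col : Fin (m + 2) → Fin (r + 1)) :
    MvPolynomial (Fin (r + 1)) (PFun k (LefPen.Form r k d × LefPen.Form r k d)) :=
  (Matrix.of fun s t => pderiv (col t) (rowFam S p s)).det

theorem spec_minorFam (p : Fin m → ↥S) (col : Fin (m + 2) → Fin (r + 1))
    (v : LefPen.Form r k d × LefPen.Form r k d) :
    spec v (minorFam S p col) = (Matrix.of fun s t => pderiv (col t)
      ((Fin.cons v.1.1 (Fin.cons v.2.1 fun s => (p s).1) : Fin (m + 2) → MvPolynomial (Fin (r + 1)) k) s)).det := by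
  rw [minorFam]
  refine (RingHom.map_det (n := Fin (m + 2)) (R := MvPolynomial (Fin (r + 1)) (PFun k (LefPen.Form r k d × LefPen.Form r k d)))
    (S := MvPolynomial (Fin (r + 1)) k) (spec v) _).trans ?_
  congr 1
  refine Matrix.ext fun s t => ?_
  simp only [RingHom.mapMatrix_apply, Matrix.map_apply, Matrix.of_apply]
  rw [← spec_rowFam S p v s]
  unfold spec
  rw [pderiv_map]

theorem eval_minorFam (p : Fin m → ↥S) (col : Fin (m + 2) → Fin (r + 1))
    (v : LefPen.Form r k d × LefPen.Form r k d) (c : Fin (r + 1) → k) :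
    eval c (spec v (minorFam S p col)) = (Matrix.of fun s t =>
      (Fin.cons (grad c v.1.1) (Fin.cons (grad c v.2.1) fun s => grad c (p s).1) :
        Fin (m + 2) → Fin (r + 1) → k) s (col t)).det := by
  rw [spec_minorFam]
  refine (RingHom.map_det (n := Fin (m + 2)) (R := MvPolynomial (Fin (r + 1)) k) (S := k) (eval c) _).trans ?_
  congr 1
  refine Matrix.ext fun s t => ?_
  simp only [RingHom.mapMatrix_apply, Matrix.map_apply, Matrix.of_apply]
  refine Fin.cases ?_ (fun s => ?_) s
  · rw [Fin.cons_zero, Fin.cons_zero, grad_apply]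
  · refine Fin.cases ?_ (fun s => ?_) s
    · simp only [Fin.cons_succ, Fin.cons_zero, grad_apply]
    · simp only [Fin.cons_succ, grad_apply]

theorem minorFam_isHomogeneous {e : ↥S → ℕ} (he : ∀ F : ↥S, F.1.IsHomogeneous (e F)) (p : Fin m → ↥S)
    (col : Fin (m + 2) → Fin (r + 1)) (v : LefPen.Form r k d × LefPen.Form r k d) :
    (spec v (minorFam S p col)).IsHomogeneous
      (∑ s : Fin (m + 2), ((Fin.cons d (Fin.cons d fun s => e (p s)) : Fin (m + 2) → ℕ) s - 1)) := by
  classical
  rw [spec_minorFam, Matrix.det_apply']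
  refine IsHomogeneous.sum _ _ _ fun σp _ => ?_
  rw [← map_intCast (C : k →+* MvPolynomial (Fin (r + 1)) k)]
  refine IsHomogeneous.C_mul ?_ _
  rw [← Equiv.sum_comp σp]
  refine IsHomogeneous.prod _ _ _ fun t _ => IsHomogeneous.pderiv ?_
  refine Fin.cases ?_ (fun s => ?_) (σp t)
  · exact (mem_homogeneousSubmodule d _).1 v.1.2
  · refine Fin.cases ?_ (fun s => ?_) s
    · exact (mem_homogeneousSubmodule d _).1 v.2.2
    · exact he (p s)

variable [IsAlgClosed k] {X : Scheme.{u}} {i : X ⟶ CohB1.ProjSpace r k} [IsClosedImmersion i] [IrreducibleSpace X]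
  [IsReduced X] [IsLocallyNoetherian X] {n : ℕ} [SmoothOfRelativeDimension n (i ≫ CohB1.ProjSpace.toSpec r k)]

variable {S}

/-- Transversality of the base locus is open in the pair of forms. -/
theorem isZOpen_transversal2 (hE : Eqns i S m n) (hn : 1 ≤ n) :
    LefPen.IsZOpen k {v : LefPen.Form r k d × LefPen.Form r k d |
      LefPen.Transversal k n 2 (LefPen.secToSpec i ({v.1, v.2} : Set (LefPen.Form r k d)))} := by
  classical
  intro v₀ hv₀
  choose e he using fun F : ↥S => (hE.sub F.2).1
  let J := ↥S ⊕ (Bool ⊕ ((Fin m → ↥S) × (Fin (m + 2) → Fin (r + 1))))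
  let Q : J → MvPolynomial (Fin (r + 1)) (PFun k (LefPen.Form r k d × LefPen.Form r k d)) :=
    Sum.elim (fun F => cst F.1) (Sum.elim
      (fun b => cond b (MvPolynomial.map (pull (LinearMap.fst k _ _)) (fam LinearMap.id))
        (MvPolynomial.map (pull (LinearMap.snd k _ _)) (fam LinearMap.id)))
      fun p => minorFam S p.1 p.2)
  let P : J → LefPen.Form r k d × LefPen.Form r k d → MvPolynomial (Fin (r + 1)) k := fun j v => spec v (Q j)
  let δ : J → ℕ := Sum.elim e (Sum.elim (fun _ => d) fun p =>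
    ∑ s : Fin (m + 2), ((Fin.cons d (Fin.cons d fun s => e (p.1 s)) : Fin (m + 2) → ℕ) s - 1))
  have hP1 : ∀ v, P (Sum.inr (Sum.inl true)) v = v.1.1 := fun v => by
    show spec v (MvPolynomial.map (pull (LinearMap.fst k _ _)) (fam LinearMap.id)) = _
    rw [spec_pull, spec_fam]; rfl
  have hP2 : ∀ v, P (Sum.inr (Sum.inl false)) v = v.2.1 := fun v => by
    show spec v (MvPolynomial.map (pull (LinearMap.snd k _ _)) (fam LinearMap.id)) = _
    rw [spec_pull, spec_fam]; rfl
  have hPS : ∀ v (F : ↥S), P (Sum.inl F) v = F.1 := fun v F => spec_cst v F.1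
  have hhom : ∀ j v, (P j v).IsHomogeneous (δ j) := by
    rintro (F | b | p) v
    · rw [hPS]; exact he F
    · cases b
      · rw [hP2]; exact (mem_homogeneousSubmodule d _).1 v.2.2
      · rw [hP1]; exact (mem_homogeneousSubmodule d _).1 v.1.2
    · exact minorFam_isHomogeneous S he p.1 p.2 v
  have hpoly : ∀ j μ, LefPen.IsPolyFun k fun v => coeff μ (P j v) := fun j μ => isPolyFun_coeff (Q j) μ
  have h0 : ∀ w : Fin (r + 1) → k, (∀ j, eval w (P j v₀) = 0) → w = 0 := by
    intro u hu
    by_contra hu0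
    obtain ⟨a, ha⟩ := Function.ne_iff.1 hu0
    set w := (u a)⁻¹ • u
    have hw : ∀ j, eval w (P j v₀) = 0 := fun j => by
      rw [eval_smul_of_isHomogeneous (hhom j v₀), hu j, mul_zero]
    have hwa : w a = 1 := by
      show (u a)⁻¹ * u a = 1
      exact inv_mul_cancel₀ ha
    obtain ⟨x, hxa, hx, hc⟩ := exists_point_of_zero (i := i) hwa (fun F hF => by
      have hle : Ideal.span (S : Set (MvPolynomial (Fin (r + 1)) k)) ≤ RingHom.ker (eval w) :=
        Ideal.span_le.2 fun G hG => by
          have := hw (Sum.inl ⟨G, hG⟩)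
          rwa [hPS] at this
      exact hle (hE.gen F hF))
    obtain ⟨g, hg, hli, hspan⟩ := exists_frame hE hc hx
    let v : Fin (m + 2) → Fin (r + 1) → k :=
      Fin.cons (grad w v₀.1.1) (Fin.cons (grad w v₀.2.1) fun s => grad w (g s))
    have hdep : ¬ LinearIndependent k v := fun hv => by
      obtain ⟨col, hcol⟩ := exists_minor v hv
      exact hcol ((eval_minorFam S (fun s => ⟨g s, hg s⟩) col v₀ w).symm.trans
        (hw (Sum.inr (Sum.inr (fun s => ⟨g s, hg s⟩, col)))))
    obtain ⟨l, hl, l', hl'⟩ := Fintype.not_linearIndependent_iff.1 hdep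
    rw [Fin.sum_univ_succ, Fin.sum_univ_succ] at hl
    simp only [v, Fin.cons_zero, Fin.cons_succ] at hl
    have hF : σ i a x hxa v₀.1.1 ∈ maximalIdeal (X.presheaf.stalk x) := by
      rw [σ_mem_iff hc, ← hP1 v₀]; exact hw _
    have hG : σ i a x hxa v₀.2.1 ∈ maximalIdeal (X.presheaf.stalk x) := by
      rw [σ_mem_iff hc, ← hP2 v₀]; exact hw _
    have hsq : σ i a x hxa (l 0 • v₀.1 + l (Fin.succ 0) • v₀.2).1 ∈ maximalIdeal (X.presheaf.stalk x) ^ 2 := by
      rw [σ_form_mem_sq_iff hc hE.sub hE.gen]
      have h1 : eval w v₀.1.1 = 0 := by rw [← hP1 v₀]; exact hw _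
      have h2 : eval w v₀.2.1 = 0 := by rw [← hP2 v₀]; exact hw _
      refine ⟨by simp [smul_eq_C_mul, h1, h2], ?_⟩
      rw [Submodule.coe_add, Submodule.coe_smul, Submodule.coe_smul, map_add, map_smul, map_smul]
      rw [← add_assoc] at hl
      rw [eq_neg_of_add_eq_zero_left hl]
      refine neg_mem (Submodule.sum_mem _ fun s _ => Submodule.smul_mem _ _ (Submodule.subset_span ⟨g s, hg s, rfl⟩))
    obtain ⟨hs, ht⟩ := (transversal2_iff i n hn v₀.1 v₀.2).1 hv₀ a x hxa hx hF hG _ _ hsq
    rw [hs, ht, zero_smul, zero_smul, zero_add, zero_add] at hl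
    have h3 := Fintype.linearIndependent_iff.1 hli (fun s => l s.succ.succ) hl
    refine hl' (Fin.cases hs (fun s => Fin.cases ht (fun s => h3 s) s) l')
  obtain ⟨f, hf, hf0, hfH⟩ := isOpen_noCommonZero δ P hhom hpoly v₀ h0
  refine ⟨f, hf, hf0, fun v hv => (transversal2_iff i n hn v.1 v.2).2 fun a x hxa hx hF hG s t hmem => ?_⟩
  obtain ⟨c, hc'⟩ := exists_coords i a x hxa hx
  have hc : IsCoord i a x hxa c := hc'
  by_contra hst
  have h2 : c = 0 := hfH v hv c fun j => by
    rcases j with F | b | p
    · rw [hPS]; exact eval_eq_zero_of_mem hc hE.sub F.2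
    · cases b
      · rw [hP2, ← σ_mem_iff hc]; exact hG
      · rw [hP1, ← σ_mem_iff hc]; exact hF
    · show eval c (spec v (minorFam S p.1 p.2)) = 0
      rw [eval_minorFam]
      by_contra h0'
      have hu := Matrix.linearIndependent_rows_iff_isUnit.2
        ((Matrix.isUnit_iff_isUnit_det _).2 (isUnit_iff_ne_zero.2 h0'))
      let w : Fin (m + 2) → Fin (r + 1) → k :=
        Fin.cons (grad c v.1.1) (Fin.cons (grad c v.2.1) fun s => grad c (p.1 s).1)
      have hwli : LinearIndependent k w := LinearIndependent.of_comp (LinearMap.funLeft k k p.2) hu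
      have hgli : LinearIndependent k fun s => grad c (p.1 s).1 := by
        have h := hwli.comp (fun s : Fin m => s.succ.succ) (fun _ _ h => Fin.succ_inj.1 (Fin.succ_inj.1 h))
        exact h
      have hle : Submodule.span k (Set.range fun s => grad c (p.1 s).1) ≤
          Submodule.span k (grad c '' (S : Set (MvPolynomial (Fin (r + 1)) k))) :=
        Submodule.span_mono (by rintro _ ⟨s, rfl⟩; exact ⟨_, (p.1 s).2, rfl⟩)
      have heq := Submodule.eq_of_le_of_finrank_eq hle (by
        rw [finrank_span_eq_card hgli, Fintype.card_fin, finrank_span hE hc hx])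
      have h1 := ((σ_form_mem_sq_iff hc hE.sub hE.gen (s • v.1 + t • v.2)).1 hmem).2
      rw [← heq, Submodule.mem_span_range_iff_exists_fun] at h1
      obtain ⟨l, hl⟩ := h1
      have h4 := Fintype.linearIndependent_iff.1 hwli (Fin.cons s (Fin.cons t fun j => - l j)) (by
        rw [Fin.sum_univ_succ, Fin.sum_univ_succ]
        simp only [w, Fin.cons_zero, Fin.cons_succ, neg_smul, Finset.sum_neg_distrib, hl, Submodule.coe_add,
          Submodule.coe_smul, map_add, map_smul]
        abel)
      have h5 := h4 0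
      have h6 := h4 (Fin.succ 0)
      simp only [Fin.cons_zero, Fin.cons_succ] at h5 h6
      exact hst ⟨h5, h6⟩
  exact one_ne_zero ((coord_self hc).symm.trans (congrFun h2 a))

end Groth.L05.Pencil
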