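import Groth.Agent.L05.Pencil.Basic
import Groth.Agent.L05.Pencil.PairOpen
import Groth.Agent.L05.Nd.Main

/-! That every member of a pencil is transversal or has a single node is open in the pencil. -/

set_option autoImplicit false
set_option linter.style.haveILetI false
set_option backward.isDefEq.respectTransparency false
set_option backward.isDefEq.respectTransparency.types false
set_option maxHeartbeats 1000000

universe u

open CategoryTheory CategoryTheory.Limits AlgebraicGeometry TopologicalSpace MvPolynomial IsLocalRing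

noncomputable section

namespace Groth.L05.Pencil

open Groth.L05.DualVar
open Groth.L05.Nd (PFun spec isPolyFun_coeff relOpen_oneOrdQuad)

variable {k : Type u} [Field k]

/-- A polynomial function on a pencil is a polynomial in the two parameters. -/
theorem exists_binary {W : Type u} [AddCommGroup W] [Module k W] {f : W → k} (hf : LefPen.IsPolyFun k f) :
    ∃ q : MvPolynomial (Fin 2) (PFun k (W × W)), ∀ (v : W × W) (c : Fin 2 → k),
      eval c (spec v q) = f (c 0 • v.1 + c 1 • v.2) := by
  unfold LefPen.IsPolyFun at hf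
  induction hf using Algebra.adjoin_induction with
  | mem g hg =>
    obtain ⟨l, rfl⟩ := hg
    refine ⟨C ⟨_, Algebra.subset_adjoin ⟨l.comp (LinearMap.fst k W W), rfl⟩⟩ * X 0 +
      C ⟨_, Algebra.subset_adjoin ⟨l.comp (LinearMap.snd k W W), rfl⟩⟩ * X 1, fun v c => ?_⟩
    simp only [spec, map_add, map_mul, map_C, map_X, eval_C, eval_X, map_smul, smul_eq_mul]
    show l v.1 * c 0 + l v.2 * c 1 = _
    ring
  | algebraMap a =>
    refine ⟨C (algebraMap k _ a), fun v c => ?_⟩
    simp only [spec, map_C, eval_C]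
    rfl
  | add g h _ _ hg hh =>
    obtain ⟨P, hP⟩ := hg
    obtain ⟨Q, hQ⟩ := hh
    exact ⟨P + Q, fun v c => by rw [map_add, map_add, hP, hQ, Pi.add_apply]⟩
  | mul g h _ _ hg hh =>
    obtain ⟨P, hP⟩ := hg
    obtain ⟨Q, hQ⟩ := hh
    exact ⟨P * Q, fun v c => by rw [map_mul, map_mul, hP, hQ, Pi.mul_apply]⟩

theorem spec_homogeneousComponent {V : Type u} [AddCommGroup V] [Module k V] {r : ℕ} (e : ℕ) (v : V)
    (q : MvPolynomial (Fin (r + 1)) (PFun k V)) :
    spec v (homogeneousComponent e q) = homogeneousComponent e (spec v q) := by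
  ext μ
  rw [coeff_homogeneousComponent]
  unfold spec
  rw [coeff_map, coeff_homogeneousComponent, coeff_map]
  split_ifs <;> simp

theorem exists_component_ne_zero {p : MvPolynomial (Fin 2) k} {c : Fin 2 → k} (h : eval c p ≠ 0) :
    ∃ e, eval c (homogeneousComponent e p) ≠ 0 := by
  by_contra hall
  push Not at hall
  refine h ?_
  conv_lhs => rw [← sum_homogeneousComponent p, map_sum]
  exact Finset.sum_eq_zero fun e _ => hall e

theorem eval_component_eq_zero [IsAlgClosed k] {p : MvPolynomial (Fin 2) k} {c : Fin 2 → k}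
    (h : ∀ t : k, t ≠ 0 → eval (t • c) p = 0) (e : ℕ) : eval c (homogeneousComponent e p) = 0 := by
  classical
  let T : Polynomial k := ∑ j ∈ Finset.range (p.totalDegree + 1),
    Polynomial.C (eval c (homogeneousComponent j p)) * Polynomial.X ^ j
  have hT : ∀ t : k, T.eval t = eval (t • c) p := by
    intro t
    conv_rhs => rw [← sum_homogeneousComponent p, map_sum]
    simp only [T, Polynomial.eval_finsetSum, Polynomial.eval_mul, Polynomial.eval_C, Polynomial.eval_pow,
      Polynomial.eval_X]
    exact Finset.sum_congr rfl fun j _ => by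
      rw [eval_smul_of_isHomogeneous (homogeneousComponent_isHomogeneous j p) t c, mul_comm]
  have hT0 : T = 0 := by
    refine Polynomial.eq_zero_of_infinite_isRoot T (Set.Infinite.mono (s := ({0} : Set k)ᶜ) (fun t ht => ?_)
      (Set.Finite.infinite_compl (Set.finite_singleton 0)))
    exact (hT t).trans (h t ht)
  have h1 := congrArg (fun P : Polynomial k => P.coeff e) hT0
  simp only [T, Polynomial.finsetSum_coeff, Polynomial.coeff_C_mul_X_pow, Polynomial.coeff_zero,
    Finset.sum_ite_eq] at h1
  split_ifs at h1 with he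
  · exact h1
  · have h2 : p.totalDegree < e := by
      have := mt Finset.mem_range.2 he
      omega
    rw [homogeneousComponent_eq_zero e p h2, map_zero]

variable [IsAlgClosed k] {r : ℕ} {X : Scheme.{u}} {i : X ⟶ CohB1.ProjSpace r k}
  [IsClosedImmersion i] [IrreducibleSpace X]
  {S : Finset (MvPolynomial (Fin (r + 1)) k)} {m n d : ℕ}
  [SmoothOfRelativeDimension n (i ≫ CohB1.ProjSpace.toSpec r k)] [IsReduced X] [IsLocallyNoetherian X]

theorem isZOpen_good (hE : Eqns i S m n) (hn : 1 ≤ n) :
    LefPen.IsZOpen k {H : LefPen.Form r k d | Good i n H} := by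
  intro H₀ hH₀
  rcases hH₀ with hT | hO
  · obtain ⟨f, hf, hf0, hfH⟩ := isZOpen_transversal hE hn H₀ hT
    exact ⟨f, hf, hf0, fun H hH => Or.inl (hfH H hH)⟩
  · obtain ⟨f, hf, hf0, hfH⟩ := relOpen_oneOrdQuad hE hn hO
    exact ⟨f, hf, hf0, fun H hH => (good_iff i n H).1 fun hN => hfH H hN hH⟩

/-- Every member being transversal or with a single node is open in the pencil. -/
theorem isZOpen_members (hE : Eqns i S m n) (hn : 1 ≤ n) :
    LefPen.IsZOpen k {v : LefPen.Form r k d × LefPen.Form r k d |
      ∀ H ∈ LefPen.members k v.1 v.2, Good i n H} := by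
  classical
  intro v₀ hv₀
  haveI : Infinite k := IsAlgClosed.instInfinite
  let K := {f : LefPen.Form r k d → k // LefPen.IsPolyFun k f ∧ ∀ H, ¬ Good i n H → f H = 0}
  choose q hq using fun f : K => exists_binary (W := LefPen.Form r k d) f.2.1
  let P : K × ℕ → LefPen.Form r k d × LefPen.Form r k d → MvPolynomial (Fin 2) k :=
    fun j v => spec v (homogeneousComponent j.2 (q j.1))
  have hP : ∀ j v, P j v = homogeneousComponent j.2 (spec v (q j.1)) := fun j v =>
    spec_homogeneousComponent j.2 v (q j.1)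
  obtain ⟨s, hs, hspan⟩ := (Submodule.fg_span_iff_fg_span_finset_subset (R := MvPolynomial (Fin 2) k)
    (Set.range fun j => P j v₀)).1 (IsNoetherian.noetherian _)
  choose g hg using fun p : ↥s => hs p.2
  have hgood : ∀ c : Fin 2 → k, c ≠ 0 → Good i n (c 0 • v₀.1 + c 1 • v₀.2) := by
    intro c hc
    by_cases h0 : c 0 = 0
    · have h1 : c 1 ≠ 0 := fun h1 => hc (funext fun j => by fin_cases j <;> assumption)
      rw [h0, zero_smul, zero_add, good_smul i n h1]
      exact hv₀ _ (Or.inl rfl)
    · rw [show c 1 = c 0 * ((c 0)⁻¹ * c 1) by field_simp, mul_smul, ← smul_add, good_smul i n h0]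
      exact hv₀ _ (Or.inr ⟨_, rfl⟩)
  obtain ⟨F, hF, hF0, hFv⟩ := isOpen_noCommonZero (r := 1) (J := ↥s) (fun p => (g p).2)
    (fun p v => P (g p) v) (fun p v => by rw [hP]; exact homogeneousComponent_isHomogeneous _ _)
    (fun p μ => isPolyFun_coeff _ μ) v₀ (fun c hc => by
      by_contra hc0
      obtain ⟨f, hf, hf0, hfH⟩ := isZOpen_good hE hn _ (hgood c hc0)
      let f' : K := ⟨f, hf, fun H hH => by_contra fun h => hH (hfH H h)⟩
      obtain ⟨e, he⟩ := exists_component_ne_zero (p := spec v₀ (q f')) (c := c) (by rw [hq f' v₀ c]; exact hf0)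
      rw [← hP (f', e) v₀] at he
      have hle : Submodule.span (MvPolynomial (Fin 2) k) (Set.range fun j => P j v₀) ≤ RingHom.ker (eval c) := by
        rw [hspan]
        refine Submodule.span_le.2 fun p hp => ?_
        have := hc ⟨p, hp⟩
        rw [show P (g ⟨p, hp⟩) v₀ = p from hg ⟨p, hp⟩] at this
        exact this
      exact he (hle (Submodule.subset_span ⟨(f', e), rfl⟩)))
  refine ⟨F, hF, hF0, fun v hv H hH => ?_⟩
  obtain ⟨c, hc, rfl⟩ : ∃ c : Fin 2 → k, c ≠ 0 ∧ H = c 0 • v.1 + c 1 • v.2 := by
    rcases hH with rfl | ⟨t, rfl⟩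
    · exact ⟨![0, 1], fun h => one_ne_zero (congrFun h 1), by simp⟩
    · exact ⟨![1, t], fun h => one_ne_zero (congrFun h 0), by simp⟩
  by_contra hbad
  refine hc (hFv v hv c fun p => ?_)
  show eval c (P (g p) v) = 0
  rw [hP]
  refine eval_component_eq_zero (fun t ht => ?_) _
  rw [hq (g p).1 v (t • c)]
  refine (g p).1.2.2 _ ?_
  simp only [Pi.smul_apply, smul_eq_mul, mul_smul, ← smul_add]
  rw [good_smul i n ht]
  exact hbad

end Groth.L05.Pencil
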