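import Groth.Agent.L05.Pencil.Basic

/-! Transversality of the base locus of a pencil in terms of first order jets. -/

set_option autoImplicit false
set_option linter.style.haveILetI false
set_option backward.isDefEq.respectTransparency false
set_option backward.isDefEq.respectTransparency.types false
set_option maxHeartbeats 1000000

universe u

open CategoryTheory CategoryTheory.Limits AlgebraicGeometry TopologicalSpace MvPolynomial IsLocalRing

noncomputable section

namespace Groth.L05.Pencil

open Groth.L05.OrdQuad (σ)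
open Groth.L05.DualVar (spanFinrank_le_of_mem_sq)

theorem spanFinrank_le_succ {A B : Type u} [CommRing A] [IsLocalRing A] [IsNoetherianRing A] [CommRing B]
    [IsLocalRing B] [IsNoetherianRing B] (p : A →+* B) (hp : Function.Surjective p) {h g : A}
    (hker : RingHom.ker p = Ideal.span {h, g}) (hh : h ∈ maximalIdeal A ^ 2) :
    (maximalIdeal A).spanFinrank ≤ (maximalIdeal B).spanFinrank + 1 := by
  have hg : g ∈ maximalIdeal A :=
    le_maximalIdeal (RingHom.ker_ne_top p) (hker.ge (Ideal.subset_span (by simp)))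
  have hne : Ideal.span {g} ≠ ⊤ := fun ht => (maximalIdeal.isMaximal A).ne_top
    (eq_top_iff.2 (ht ▸ Ideal.span_le.2 (Set.singleton_subset_iff.2 hg)))
  haveI : Nontrivial (A ⧸ Ideal.span {g}) := Ideal.Quotient.nontrivial_iff.2 hne
  haveI : IsLocalRing (A ⧸ Ideal.span {g}) := IsLocalRing.of_surjective' (Ideal.Quotient.mk _) Ideal.Quotient.mk_surjective
  have hle : ∀ a ∈ Ideal.span {g}, p a = 0 := fun a ha => by
    have : a ∈ RingHom.ker p := hker.ge (Ideal.span_mono (by simp) ha)
    exact this
  let p' : A ⧸ Ideal.span {g} →+* B := Ideal.Quotient.lift _ p hle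
  have hp' : Function.Surjective p' := fun b => by
    obtain ⟨a, rfl⟩ := hp b
    exact ⟨Ideal.Quotient.mk (Ideal.span {g}) a, rfl⟩
  have hmax : (maximalIdeal A).map (Ideal.Quotient.mk (Ideal.span {g})) = maximalIdeal (A ⧸ Ideal.span {g}) := by
    rcases Ideal.map_eq_top_or_isMaximal_of_surjective (Ideal.Quotient.mk (Ideal.span {g})) Ideal.Quotient.mk_surjective
      (maximalIdeal.isMaximal A) with h | h
    · exfalso
      refine (maximalIdeal.isMaximal A).ne_top ?_
      have h2 := congrArg (Ideal.comap (Ideal.Quotient.mk (Ideal.span {g}))) h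
      rwa [Ideal.comap_map_of_surjective _ Ideal.Quotient.mk_surjective, Ideal.comap_top, ← RingHom.ker_eq_comap_bot,
        Ideal.mk_ker, sup_eq_left.2 (Ideal.span_le.2 (Set.singleton_subset_iff.2 hg))] at h2
    · exact eq_maximalIdeal h
  have hh' : Ideal.Quotient.mk (Ideal.span {g}) h ∈ maximalIdeal (A ⧸ Ideal.span {g}) ^ 2 := by
    rw [← hmax, ← Ideal.map_pow]
    exact Ideal.mem_map_of_mem _ hh
  have hker' : RingHom.ker p' = Ideal.span {Ideal.Quotient.mk (Ideal.span {g}) h} := by
    rw [Ideal.ker_quotient_lift, hker, Ideal.map_span, Set.image_pair,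
      Ideal.Quotient.eq_zero_iff_mem.2 (Ideal.mem_span_singleton_self g), Set.pair_comm, Ideal.span_insert_zero]
  have h1 := spanFinrank_le_of_mem_sq p' hp' hker' hh'
  have hfin : (maximalIdeal (A ⧸ Ideal.span {g})).FG := IsNoetherian.noetherian _
  classical
  set G' := (maximalIdeal (A ⧸ Ideal.span {g})).generators
  have hG' : G'.Finite := Submodule.FG.finite_generators hfin
  choose s hs using (Ideal.Quotient.mk_surjective (I := Ideal.span {g}))
  have he : maximalIdeal A = Submodule.span A (insert g (s '' G')) := by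
    have h2 : (Ideal.span (s '' G')).map (Ideal.Quotient.mk (Ideal.span {g})) = maximalIdeal _ := by
      rw [Ideal.map_span, Set.image_image, show (fun b => Ideal.Quotient.mk _ (s b)) = id from funext hs, Set.image_id]
      exact Submodule.span_generators _
    have h3 := congrArg (Ideal.comap (Ideal.Quotient.mk (Ideal.span {g}))) (h2.trans hmax.symm)
    rw [Ideal.comap_map_of_surjective _ Ideal.Quotient.mk_surjective,
      Ideal.comap_map_of_surjective _ Ideal.Quotient.mk_surjective, ← RingHom.ker_eq_comap_bot, Ideal.mk_ker,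
      sup_eq_left.2 (Ideal.span_le.2 (Set.singleton_subset_iff.2 hg))] at h3
    rw [← h3, Submodule.span_insert, sup_comm]
  rw [he]
  refine (Submodule.spanFinrank_span_le_ncard_of_finite ((hG'.image s).insert g)).trans ?_
  refine (Set.ncard_insert_le _ _).trans (Nat.add_le_add_right ((Set.ncard_image_le hG').trans ?_) 1)
  exact (Submodule.FG.generators_ncard hfin).le.trans h1

variable {k : Type u} [Field k] [IsAlgClosed k] {r : ℕ} {X : Scheme.{u}} (i : X ⟶ CohB1.ProjSpace r k)
  [IsClosedImmersion i] (n : ℕ) [SmoothOfRelativeDimension n (i ≫ CohB1.ProjSpace.toSpec r k)]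

include n in
theorem transversal2_iff (hn : 1 ≤ n) {d : ℕ} (F G : LefPen.Form r k d) :
    LefPen.Transversal k n 2 (LefPen.secToSpec i ({F, G} : Set (LefPen.Form r k d))) ↔
      ∀ (a : Fin (r + 1)) (x : X) (hxa : i x ∈ LefPen.chart r k a), IsClosed ({x} : Set X) →
        σ i a x hxa F.1 ∈ maximalIdeal (X.presheaf.stalk x) →
        σ i a x hxa G.1 ∈ maximalIdeal (X.presheaf.stalk x) →
        ∀ s t : k, σ i a x hxa (s • F + t • G).1 ∈ maximalIdeal (X.presheaf.stalk x) ^ 2 → s = 0 ∧ t = 0 := by
  haveI : Smooth (i ≫ CohB1.ProjSpace.toSpec r k) := SmoothOfRelativeDimension.smooth n _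
  haveI : IsLocallyNoetherian X := LocallyOfFiniteType.isLocallyNoetherian i
  set ι' := LefPen.secι i ({F, G} : Set (LefPen.Form r k d))
  haveI : IsLocallyNoetherian (LefPen.Sec i ({F, G} : Set (LefPen.Form r k d))) :=
    LocallyOfFiniteType.isLocallyNoetherian ι'
  haveI : LocallyOfFiniteType (LefPen.secToSpec i ({F, G} : Set (LefPen.Form r k d))) := inferInstance
  have hσ : ∀ (a : Fin (r + 1)) (x : X) (hxa : i x ∈ LefPen.chart r k a) (s t : k),
      σ i a x hxa (s • F + t • G).1 =
        σ i a x hxa (C s) * σ i a x hxa F.1 + σ i a x hxa (C t) * σ i a x hxa G.1 := by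
    intro a x hxa s t
    rw [Submodule.coe_add, Submodule.coe_smul, Submodule.coe_smul, smul_eq_C_mul, smul_eq_C_mul, map_add, map_mul,
      map_mul]
  constructor
  · intro hT a x hxa hx hF hG s t hmem
    obtain ⟨y, hy⟩ := exists_mem_secι_pair i a x hxa F G hF hG
    rcases hT with ⟨h2, hsm⟩ | ⟨-, he⟩
    swap
    · exact he.elim y
    haveI := hsm
    by_contra hst
    obtain ⟨p, hp, hker⟩ := σ_pair_ker_secι i a x hxa F G y hy
    have hyc : IsClosed ({y} : Set (LefPen.Sec i ({F, G} : Set (LefPen.Form r k d)))) := by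
      have : ({y} : Set (LefPen.Sec i ({F, G} : Set (LefPen.Form r k d)))) = ι' ⁻¹' {x} := by
        ext z
        simp only [Set.mem_singleton_iff, Set.mem_preimage]
        exact ⟨fun h => h ▸ hy, fun h => ι'.isClosedEmbedding.injective (h.trans hy.symm)⟩
      rw [this]
      exact hx.preimage ι'.continuous
    have h1 := Groth.L14.Quot.finrank_cotangent_of_smoothOfRelativeDimension
      (LefPen.secToSpec i ({F, G} : Set (LefPen.Form r k d))) (n - 2) y hyc
    have h2' := Groth.L14.Quot.finrank_cotangent_of_smoothOfRelativeDimension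
      (i ≫ CohB1.ProjSpace.toSpec r k) n x hx
    rw [hσ] at hmem
    set f := σ i a x hxa F.1
    set g := σ i a x hxa G.1
    set u := σ i a x hxa (C s)
    set v := σ i a x hxa (C t)
    obtain ⟨g', hker'⟩ : ∃ g', RingHom.ker p = Ideal.span {u * f + v * g, g'} := by
      by_cases hs : s = 0
      · have ht : t ≠ 0 := fun ht => hst ⟨hs, ht⟩
        refine ⟨f, ?_⟩
        rw [hker, show u = 0 by simp [u, hs], zero_mul, zero_add, Set.pair_comm, Ideal.span_insert, Ideal.span_insert,
          Ideal.span_singleton_mul_left_unit (((IsUnit.mk0 t ht).map C).map (σ i a x hxa))]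
      · refine ⟨g, ?_⟩
        rw [hker, show Ideal.span {u * f + v * g, g} = Ideal.span {u * f, g} from Ideal.span_pair_add_mul_right (u * f) g v,
          Ideal.span_insert, Ideal.span_insert,
          Ideal.span_singleton_mul_left_unit (((IsUnit.mk0 s hs).map C).map (σ i a x hxa))]
    have h3 := spanFinrank_le_succ p hp hker' hmem
    rw [spanFinrank_maximalIdeal_eq_finrank_cotangentSpace, spanFinrank_maximalIdeal_eq_finrank_cotangentSpace,
      h1, h2'] at h3
    omega
  · intro hall
    have hloc : ∀ y : LefPen.Sec i ({F, G} : Set (LefPen.Form r k d)), IsClosed ({y} : Set _) →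
        2 ≤ n ∧ IsRegularLocalRing ((LefPen.Sec i ({F, G} : Set (LefPen.Form r k d))).presheaf.stalk y) ∧
        ringKrullDim ((LefPen.Sec i ({F, G} : Set (LefPen.Form r k d))).presheaf.stalk y) = ((n - 2 : ℕ) : WithBot ℕ∞) := by
      intro y hy
      set x₀ := ι' y
      have hx₀ : IsClosed ({x₀} : Set X) := by
        simpa [Set.image_singleton] using ι'.isClosedEmbedding.isClosedMap _ hy
      obtain ⟨a, hxa⟩ : ∃ a, i x₀ ∈ LefPen.chart r k a := Groth.L21.PlaneCurve.exists_mem_chart _
      set A := X.presheaf.stalk x₀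
      obtain ⟨p, hp, hker⟩ := σ_pair_ker_secι i a x₀ hxa F G y rfl
      haveI : IsRegularLocalRing A := Groth.L08.Cube.isRegularLocalRing_of_smooth (i ≫ CohB1.ProjSpace.toSpec r k) x₀
      haveI := Groth.L01.isDomain_of_regular A
      set f := σ i a x₀ hxa F.1
      set g := σ i a x₀ hxa G.1
      have hf : f ∈ maximalIdeal A := le_maximalIdeal (RingHom.ker_ne_top p) (hker.ge (Ideal.subset_span (by simp)))
      have hg : g ∈ maximalIdeal A := le_maximalIdeal (RingHom.ker_ne_top p) (hker.ge (Ideal.subset_span (by simp)))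
      have hcrit : ∀ s t : k, σ i a x₀ hxa (C s) * f + σ i a x₀ hxa (C t) * g ∈ maximalIdeal A ^ 2 → s = 0 ∧ t = 0 :=
        fun s t h => hall a x₀ hxa hx₀ hf hg s t (by rw [hσ]; exact h)
      have hfsq : f ∉ maximalIdeal A ^ 2 := fun h => one_ne_zero (hcrit 1 0 (by simpa using h)).1
      haveI : Nontrivial (A ⧸ Ideal.span {f}) := Ideal.Quotient.nontrivial_iff.2 fun ht =>
        (maximalIdeal.isMaximal A).ne_top (eq_top_iff.2 (ht ▸ Ideal.span_le.2 (Set.singleton_subset_iff.2 hf)))
      haveI : IsLocalRing (A ⧸ Ideal.span {f}) := IsLocalRing.of_surjective' (Ideal.Quotient.mk _) Ideal.Quotient.mk_surjective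
      haveI hA1 : IsRegularLocalRing (A ⧸ Ideal.span {f}) := (Groth.L01.regular_quotient_of_notMem_sq hf hfsq).1
      haveI := Groth.L01.isDomain_of_regular (A ⧸ Ideal.span {f})
      set q := Ideal.Quotient.mk (Ideal.span {f})
      have hloc' : IsLocalHom q := IsLocalHom.of_surjective q Ideal.Quotient.mk_surjective
      have hgm : q g ∈ maximalIdeal (A ⧸ Ideal.span {f}) := fun hu => (mem_maximalIdeal _).1 hg (isUnit_of_map_unit q g hu)
      have hgsq : q g ∉ maximalIdeal (A ⧸ Ideal.span {f}) ^ 2 := by
        intro hmem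
        have hmax : (maximalIdeal A).map q = maximalIdeal (A ⧸ Ideal.span {f}) := by
          rcases Ideal.map_eq_top_or_isMaximal_of_surjective q Ideal.Quotient.mk_surjective
            (maximalIdeal.isMaximal A) with h | h
          · exfalso
            have h2 := congrArg (Ideal.comap q) h
            rw [Ideal.comap_map_of_surjective _ Ideal.Quotient.mk_surjective, Ideal.comap_top, ← RingHom.ker_eq_comap_bot,
              Ideal.mk_ker, sup_eq_left.2 (Ideal.span_le.2 (Set.singleton_subset_iff.2 hf))] at h2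
            exact (maximalIdeal.isMaximal A).ne_top h2
          · exact eq_maximalIdeal h
        rw [← hmax, ← Ideal.map_pow, ← Ideal.mem_comap, Ideal.comap_map_of_surjective _ Ideal.Quotient.mk_surjective,
          ← RingHom.ker_eq_comap_bot, Ideal.mk_ker] at hmem
        obtain ⟨z, hz, w, hw, hzw⟩ := Submodule.mem_sup.1 hmem
        obtain ⟨e, rfl⟩ := Ideal.mem_span_singleton'.1 hw
        obtain ⟨c, hc⟩ := Groth.L05.OrdQuad.exists_residue i a x₀ hxa hx₀ e
        refine one_ne_zero (hcrit (-c) 1 ?_).2
        have h1 : (e - σ i a x₀ hxa (C c)) * f ∈ maximalIdeal A ^ 2 := by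
          rw [pow_two]
          exact Ideal.mul_mem_mul hc hf
        have h2 := add_mem hz h1
        convert h2 using 1
        rw [← hzw, map_neg, map_one, map_neg, map_one]
        ring
      let p' : A ⧸ Ideal.span {f} →+* _ := Ideal.Quotient.lift _ p fun z hz => by
        have : z ∈ RingHom.ker p := hker.ge (Ideal.span_mono (by simp) hz)
        exact this
      have hp' : Function.Surjective p' := fun b => by
        obtain ⟨z, rfl⟩ := hp b
        exact ⟨Ideal.Quotient.mk (Ideal.span {f}) z, rfl⟩
      have hker' : RingHom.ker p' = Ideal.span {q g} := by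
        rw [Ideal.ker_quotient_lift, hker, Ideal.map_span, Set.image_pair,
          Ideal.Quotient.eq_zero_iff_mem.2 (Ideal.mem_span_singleton_self f), Ideal.span_insert_zero]
      let e := (Ideal.quotEquivOfEq hker'.symm).trans (RingHom.quotientKerEquivOfSurjective hp')
      have hreg : IsRegularLocalRing ((LefPen.Sec i ({F, G} : Set (LefPen.Form r k d))).presheaf.stalk y) := by
        haveI : Nontrivial ((A ⧸ Ideal.span {f}) ⧸ Ideal.span {q g}) := e.toEquiv.nontrivial
        haveI : IsLocalRing ((A ⧸ Ideal.span {f}) ⧸ Ideal.span {q g}) :=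
          IsLocalRing.of_surjective' (Ideal.Quotient.mk _) Ideal.Quotient.mk_surjective
        haveI : IsRegularLocalRing ((A ⧸ Ideal.span {f}) ⧸ Ideal.span {q g}) :=
          (Groth.L01.regular_quotient_of_notMem_sq hgm hgsq).1
        exact IsRegularLocalRing.of_ringEquiv e
      have hdim : ringKrullDim A = ((n : ℕ) : WithBot ℕ∞) := by
        rw [← (IsRegularLocalRing.iff_finrank_cotangentSpace _).1 inferInstance,
          Groth.L14.Quot.finrank_cotangent_of_smoothOfRelativeDimension (i ≫ CohB1.ProjSpace.toSpec r k) n x₀ hx₀]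
      have h1 := ringKrullDim_quotient_span_singleton_succ_eq_ringKrullDim_of_mem_nonZeroDivisors
        (mem_nonZeroDivisors_of_ne_zero (x := f) (fun h => hfsq (h ▸ zero_mem _))) hf
      have h2 := ringKrullDim_quotient_span_singleton_succ_eq_ringKrullDim_of_mem_nonZeroDivisors
        (mem_nonZeroDivisors_of_ne_zero (x := q g) (fun h => hgsq (h ▸ zero_mem _))) hgm
      rw [ringKrullDim_eq_of_ringEquiv e] at h2
      obtain ⟨m, hm⟩ := Groth.L01.exists_dim_eq_nat (R := (LefPen.Sec i ({F, G} : Set (LefPen.Form r k d))).presheaf.stalk y)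
      rw [← h2, hdim, hm] at h1
      have h3 : m + 1 + 1 = n := by exact_mod_cast h1
      exact ⟨by omega, hreg, hm.trans (by exact_mod_cast (show m = n - 2 by omega))⟩
    by_cases h2 : 2 ≤ n
    · haveI : Smooth (LefPen.secToSpec i ({F, G} : Set (LefPen.Form r k d))) :=
        Groth.L26.Weil.smooth_of_regular_closed _ fun y hy => (hloc y hy).2.1
      exact Or.inl ⟨h2, Groth.L05.HypBertini.smoothOfRelativeDimension_of_stalks _ (n - 2) fun y hy => (hloc y hy).2.2⟩
    · refine Or.inr ⟨by omega, ⟨fun y => ?_⟩⟩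
      haveI : JacobsonSpace (LefPen.Sec i ({F, G} : Set (LefPen.Form r k d))) :=
        LocallyOfFiniteType.jacobsonSpace (LefPen.secToSpec i ({F, G} : Set (LefPen.Form r k d)))
      haveI : Nonempty (LefPen.Sec i ({F, G} : Set (LefPen.Form r k d))) := ⟨y⟩
      obtain ⟨z, -, hz⟩ := nonempty_inter_closedPoints (X := LefPen.Sec i ({F, G} : Set (LefPen.Form r k d)))
        (Z := Set.univ) Set.univ_nonempty isOpen_univ.isLocallyClosed
      exact h2 (hloc z hz).1

end Groth.L05.Pencil
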