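import Groth.Agent.L05.Pencil.GenAvoid
import Groth.Agent.L05.Pencil.PairOpen
import Groth.Agent.L05.Nd.Point

/-! The forms with a vertex at a point of `X` and the jets they give at other points. -/

set_option autoImplicit false
set_option linter.style.haveILetI false
set_option backward.isDefEq.respectTransparency false
set_option backward.isDefEq.respectTransparency.types false
set_option maxHeartbeats 1000000

universe u

open CategoryTheory CategoryTheory.Limits AlgebraicGeometry TopologicalSpace MvPolynomial IsLocalRing Opposite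

noncomputable section

namespace Groth.L05.Pencil

open Groth.L18.CIProj (deh deh_surjective)
open Groth.L05.OrdQuad (σ σ_X_self deh_C exists_coords)
open Groth.L05.HypBertini (res)
open Groth.L05.DualVar
open Groth.L22.SchemeDim (sectHom)

variable {k : Type u} [Field k] {r : ℕ}

/-- Forms vanishing to second order at a point of the affine cone. -/
def vertexForms (c : Fin (r + 1) → k) (d : ℕ) : Submodule k (LefPen.Form r k d) :=
  LinearMap.ker (((aeval c).toLinearMap).comp (CohB1.polyGrading r k d).subtype) ⊓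
    LinearMap.ker ((grad c).comp (CohB1.polyGrading r k d).subtype)

theorem mem_vertexForms {c : Fin (r + 1) → k} {d : ℕ} {H : LefPen.Form r k d} :
    H ∈ vertexForms c d ↔ eval c H.1 = 0 ∧ grad c H.1 = 0 := by
  simp [vertexForms, aeval_eq_eval]

theorem pow_mul_mem_vertexForms {c : Fin (r + 1) → k} {d : ℕ} (hd : 2 ≤ d) {ℓ L : MvPolynomial (Fin (r + 1)) k}
    (hℓ : ℓ.IsHomogeneous 1) (hL : L.IsHomogeneous 1) (hℓc : eval c ℓ = 0) (h : 3 ≤ d ∨ eval c L = 0) :
    ∃ H : LefPen.Form r k d, H ∈ vertexForms c d ∧ H.1 = ℓ ^ (d - 1) * L := by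
  refine ⟨⟨ℓ ^ (d - 1) * L, (mem_homogeneousSubmodule d _).2 ?_⟩, mem_vertexForms.2 ⟨?_, ?_⟩, rfl⟩
  · have h := (hℓ.pow (d - 1)).mul hL
    rwa [show 1 * (d - 1) + 1 = d by omega] at h
  · rw [map_mul, map_pow, hℓc, zero_pow (by omega), zero_mul]
  · have h1 : eval c (ℓ ^ (d - 1)) = 0 := by rw [map_pow, hℓc, zero_pow (by omega)]
    rw [grad_mul, h1, zero_smul, add_zero]
    rcases h with h | h
    · obtain ⟨e, he⟩ : ∃ e, d - 1 = e + 2 := ⟨d - 3, by omega⟩
      rw [he, pow_succ', grad_mul, hℓc, map_pow, hℓc, zero_pow (Nat.succ_ne_zero e), zero_smul, zero_smul, add_zero,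
        smul_zero]
    · rw [h, zero_smul]

/-- Jets on a chart of the forms with vertex at `c`. -/
theorem jets_vertexForms {A : Type u} [CommRing A] [Algebra k A] (ψ : MvPolynomial (Fin (r + 1)) k →ₐ[k] A)
    {c e : Fin (r + 1) → k} {a : Fin (r + 1)} (hca : c a = 1) (hne : ∀ s : k, e ≠ s • c)
    {q : Ideal A} [hq : q.IsMaximal]
    (he : ∀ g : MvPolynomial (Fin (r + 1)) k, ψ g - algebraMap k A (eval e g) ∈ q)
    (hlin : ∀ l : A, ∃ L : MvPolynomial (Fin (r + 1)) k, L.IsHomogeneous 1 ∧ ψ L - l ∈ q ^ 2)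
    {d : ℕ} (hd : 2 ≤ d) :
    (∃ l₁ : A, ∀ l : A, ∃ (H : LefPen.Form r k d) (t : k), H ∈ vertexForms c d ∧
      ψ H.1 + algebraMap k A t * l₁ - l ∈ q ^ 2) ∧
    ((3 ≤ d ∨ ∃ μ : MvPolynomial (Fin (r + 1)) k, μ.IsHomogeneous 1 ∧ eval c μ ≠ 0 ∧ ψ μ ∈ q ^ 2) →
      ∀ l : A, ∃ H : LefPen.Form r k d, H ∈ vertexForms c d ∧ ψ H.1 - l ∈ q ^ 2) := by
  obtain ⟨p, hp⟩ : ∃ p, e p - e a * c p ≠ 0 := by
    by_contra hall
    push Not at hall
    exact hne (e a) (funext fun j => sub_eq_zero.1 (hall j))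
  let ℓ : MvPolynomial (Fin (r + 1)) k := MvPolynomial.X p - C (c p) * MvPolynomial.X a
  have hℓ : ℓ.IsHomogeneous 1 := (isHomogeneous_X k _).sub (isHomogeneous_C_mul_X _ _)
  have hℓc : eval c ℓ = 0 := by simp [ℓ, hca]
  have hu : ∃ v : A, ψ ℓ ^ (d - 1) * v - 1 ∈ q ^ 2 := by
    have hnq : ψ ℓ ^ (d - 1) ∉ q := fun h => by
      have h1 := q.sub_mem (hq.isPrime.mem_of_pow_mem _ h) (he ℓ)
      rw [sub_sub_cancel] at h1
      exact hq.ne_top (Ideal.eq_top_of_isUnit_mem _ h1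
        ((IsUnit.mk0 _ (by simp only [ℓ, map_sub, map_mul, eval_X, eval_C]; rwa [mul_comm])).map _))
    obtain ⟨y, i, hi, hyi⟩ := hq.exists_inv hnq
    refine ⟨y * (1 + i), ?_⟩
    have : ψ ℓ ^ (d - 1) * (y * (1 + i)) - 1 = -(i * i) := by linear_combination (1 + i) * hyi
    rw [this, pow_two]
    exact neg_mem (Ideal.mul_mem_mul hi hi)
  obtain ⟨v, hv⟩ := hu
  have key : ∀ (l : A) (L : MvPolynomial (Fin (r + 1)) k), ψ L - l * v ∈ q ^ 2 → ψ (ℓ ^ (d - 1) * L) - l ∈ q ^ 2 := by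
    intro l L hL
    have : ψ (ℓ ^ (d - 1) * L) - l = ψ ℓ ^ (d - 1) * (ψ L - l * v) + l * (ψ ℓ ^ (d - 1) * v - 1) := by
      rw [map_mul, map_pow]; ring
    rw [this]
    exact add_mem (Ideal.mul_mem_left _ _ hL) (Ideal.mul_mem_left _ _ hv)
  refine ⟨⟨ψ (ℓ ^ (d - 1) * MvPolynomial.X a), fun l => ?_⟩, fun h l => ?_⟩
  · obtain ⟨L, hL, hLl⟩ := hlin (l * v)
    obtain ⟨H, hH, hH1⟩ := pow_mul_mem_vertexForms hd hℓ (hL.sub (isHomogeneous_C_mul_X (eval c L) a)) hℓc
      (Or.inr (by simp [hca]))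
    refine ⟨H, eval c L, hH, ?_⟩
    have e1 : ψ H.1 + algebraMap k A (eval c L) * ψ (ℓ ^ (d - 1) * MvPolynomial.X a) = ψ (ℓ ^ (d - 1) * L) := by
      rw [hH1]
      simp only [map_mul, map_sub, ← MvPolynomial.algebraMap_eq, AlgHom.commutes]
      ring
    rw [e1]
    exact key l L hLl
  · obtain ⟨L, hL, hLl⟩ := hlin (l * v)
    rcases h with h | ⟨μ, hμ, hμc, hμq⟩
    · obtain ⟨H, hH, hH1⟩ := pow_mul_mem_vertexForms hd hℓ hL hℓc (Or.inl h)
      exact ⟨H, hH, by rw [hH1]; exact key l L hLl⟩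
    · obtain ⟨H, hH, hH1⟩ := pow_mul_mem_vertexForms hd hℓ (hL.sub (hμ.C_mul (eval c L / eval c μ))) hℓc
        (Or.inr (by simp [div_mul_cancel₀ _ hμc]))
      refine ⟨H, hH, ?_⟩
      rw [hH1]
      refine key l _ ?_
      rw [map_sub, map_mul, sub_right_comm]
      exact sub_mem hLl (Ideal.mul_mem_left _ _ hμq)

theorem isPolyFun_eval_linear {V : Type u} [AddCommGroup V] [Module k V] {σ' : Type*} (l : σ' → Module.Dual k V)
    (P : MvPolynomial σ' k) : LefPen.IsPolyFun k fun v => eval (fun j => l j v) P := by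
  unfold LefPen.IsPolyFun
  induction P using MvPolynomial.induction_on with
  | C t =>
    simp only [eval_C]
    exact Subalgebra.algebraMap_mem _ t
  | add p q hp hq =>
    simp only [map_add]
    exact add_mem hp hq
  | mul_X p j hp =>
    simp only [map_mul, eval_X]
    exact mul_mem hp (Algebra.subset_adjoin ⟨l j, rfl⟩)

theorem isStandardSmooth_basicOpen {X : Scheme.{u}} [X.Over (Spec (CommRingCat.of k))] {n : ℕ} {V : X.Opens}
    (hV : IsAffineOpen V) (g : Γ(X, V)) (h : RingHom.IsStandardSmoothOfRelativeDimension n (sectHom k X V)) :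
    RingHom.IsStandardSmoothOfRelativeDimension n (sectHom k X (X.basicOpen g)) := by
  letI : Algebra Γ(X, V) Γ(X, X.basicOpen g) := (X.presheaf.map (homOfLE (X.basicOpen_le g)).op).hom.toAlgebra
  haveI : IsLocalization.Away g Γ(X, X.basicOpen g) := hV.isLocalization_basicOpen g
  have h1 := (RingHom.isStandardSmoothOfRelativeDimension_stableUnderCompositionWithLocalizationAway (n := n)).right
    Γ(X, X.basicOpen g) g (sectHom k X V) h
  have e : sectHom k X (X.basicOpen g) = (algebraMap Γ(X, V) Γ(X, X.basicOpen g)).comp (sectHom k X V) := by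
    ext t
    show (X.presheaf.map (homOfLE le_top).op).hom _ =
      (X.presheaf.map (homOfLE (X.basicOpen_le g)).op).hom ((X.presheaf.map (homOfLE le_top).op).hom _)
    rw [← CommRingCat.comp_apply, ← Functor.map_comp]
    rfl
  rw [e]
  exact h1

end Groth.L05.Pencil
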